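import Groth.Agent.Lib.Jets.Count
import Groth.Agent.Lib.Jets.Engine
import Groth.Agent.Lib.GenericSmooth.RelDim
import Groth.Agent.Lib.DualVar12.Alg

/-!
# Counting incidences with equations chosen prime by prime
-/

set_option autoImplicit false
set_option linter.all false
set_option maxHeartbeats 1000000
universe u

open MvPolynomial

namespace GrothLib.OrdQuad12

open GrothLib.DualVar12 (pk pk_isMaximal)

variable {k : Type u} [Field k]

/-- Counting: if at every relevant prime more independent equations than the transcendence degree can be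
selected, the parameters with a solution at a relevant point lie in a hypersurface. -/
theorem exists_ne_zero_count {B : Type u} [CommRing B] [Algebra k B] {n m : ℕ} (I : Ideal B) (g : B)
    (M : Matrix (Fin n) (Fin m) B) (v : Fin n → B)
    (ht : ∀ q : PrimeSpectrum B, I ≤ q.asIdeal → g ∉ q.asIdeal →
      ∃ (n' : ℕ) (e : Fin n' → Fin n) (t : ℕ), Algebra.trdeg k q.asIdeal.ResidueField = t ∧ t < n' ∧
        Function.Surjective ((M.submatrix e id).map (algebraMap B q.asIdeal.ResidueField)).mulVec) :
    ∃ P : MvPolynomial (Fin m) k, P ≠ 0 ∧ ∀ (φ : B →ₐ[k] k) (c : Fin m → k), (∀ x ∈ I, φ x = 0) → φ g ≠ 0 →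
      eval c P ≠ 0 → ∃ a, φ (v a) + ∑ i, φ (M a i) * c i ≠ 0 := by
  classical
  let E : Fin n → MvPolynomial (Fin m) B := fun a => C (v a) + ∑ i, C (M a i) * X i
  let J : Ideal (MvPolynomial (Fin m) B) := Ideal.span (Set.range E) ⊔ I.map C
  let ι : MvPolynomial (Fin m) k →+* MvPolynomial (Fin m) B := map (algebraMap k B)
  by_cases h : ∃ (P : MvPolynomial (Fin m) k) (j : ℕ), P ≠ 0 ∧ C g ^ j * ι P ∈ J
  · obtain ⟨P, j, hP0, hPJ⟩ := h
    refine ⟨P, hP0, fun φ c hI hg hc => ?_⟩
    by_contra hcon
    push Not at hcon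
    let ψ : MvPolynomial (Fin m) B →+* k := eval₂Hom φ.toRingHom c
    have hJ : J ≤ RingHom.ker ψ := by
      refine sup_le (Ideal.span_le.mpr ?_) (Ideal.map_le_iff_le_comap.mpr fun x hx => ?_)
      · rintro _ ⟨a, rfl⟩
        simpa [ψ, E] using hcon a
      · simpa [ψ] using hI x hx
    refine hc ?_
    have h1 : ψ (C g ^ j * ι P) = 0 := hJ hPJ
    rw [map_mul, map_pow, mul_eq_zero] at h1
    have h2 : ψ (C g) = φ g := eval₂_C _ _ _
    rw [h2] at h1
    rw [← h1.resolve_left (pow_ne_zero _ hg)]
    show eval c P = eval₂Hom φ.toRingHom c (map (algebraMap k B) P)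
    rw [coe_eval₂Hom, eval₂_map, AlgHom.toRingHom_eq_coe, φ.comp_algebraMap, Algebra.algebraMap_self]
    rfl
  · exfalso
    push Not at h
    let S : Submonoid (MvPolynomial (Fin m) B) :=
      Submonoid.powers (C g) ⊔ Submonoid.map ι.toMonoidHom (nonZeroDivisors (MvPolynomial (Fin m) k))
    have hdisj : Disjoint (J : Set (MvPolynomial (Fin m) B)) S := by
      rw [Set.disjoint_left]
      intro x hx hxS
      obtain ⟨a, ha, b, hb, rfl⟩ := Submonoid.mem_sup.mp hxS
      obtain ⟨j, rfl⟩ := ha
      obtain ⟨P, hP, rfl⟩ := hb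
      exact h P j (nonZeroDivisors.ne_zero hP) hx
    obtain ⟨Q, hQ, hJQ, hQS⟩ := Ideal.exists_le_prime_disjoint J _ hdisj
    haveI := hQ
    let q := Q.comap (C : B →+* MvPolynomial (Fin m) B)
    haveI : q.IsPrime := Ideal.comap_isPrime _ _
    have hIq : I ≤ q := fun x hx => hJQ (Ideal.mem_sup_right (Ideal.mem_map_of_mem _ hx))
    have hgq : g ∉ q := fun hg => Set.disjoint_left.mp hQS hg
      (Submonoid.mem_sup_left (Submonoid.mem_powers _))
    let F := q.ResidueField
    let K := Q.ResidueField
    letI : Algebra F K := (Ideal.ResidueField.map q Q C rfl).toAlgebra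
    have hFK : ∀ x : B, algebraMap F K (algebraMap B F x) = algebraMap (MvPolynomial (Fin m) B) K (C x) :=
      fun x => Ideal.ResidueField.map_algebraMap q Q C rfl x
    haveI : IsScalarTower k F K := IsScalarTower.of_algebraMap_eq fun x => by
      rw [IsScalarTower.algebraMap_apply k B F, hFK,
        IsScalarTower.algebraMap_apply k (MvPolynomial (Fin m) B) K]
      rfl
    let c : Fin m → K := fun i => algebraMap (MvPolynomial (Fin m) B) K (X i)
    have hc : AlgebraicIndependent k c := by
      rw [algebraicIndependent_iff]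
      intro P hP
      by_contra hP0
      refine Set.disjoint_left.mp hQS (show ι P ∈ (Q : Set (MvPolynomial (Fin m) B)) from ?_)
        (Submonoid.mem_sup_right ⟨P, mem_nonZeroDivisors_of_ne_zero hP0, rfl⟩)
      rw [SetLike.mem_coe, ← Ideal.algebraMap_residueField_eq_zero, ← hP]
      show algebraMap (MvPolynomial (Fin m) B) K (ι P) = _
      clear hP hP0
      induction P using MvPolynomial.induction_on with
      | C a => simp [ι, IsScalarTower.algebraMap_apply k (MvPolynomial (Fin m) B) K]
      | add p q hp hq => simp only [map_add, hp, hq]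
      | mul_X p i hp => simp only [map_mul, map_X, aeval_X, hp, ι, c]
    obtain ⟨n', e, t, htq, htn, hsurj⟩ := ht ⟨q, inferInstance⟩ hIq hgq
    have := GrothLib.Jets.card_eqs_le_trdeg (K := K) htq _ hsurj (fun a => algebraMap B F (v (e a))) hc fun a => by
      have h0 : algebraMap (MvPolynomial (Fin m) B) K (E (e a)) = 0 :=
        Ideal.algebraMap_residueField_eq_zero.mpr (hJQ (Ideal.mem_sup_left (Ideal.subset_span ⟨e a, rfl⟩)))
      show algebraMap F K (algebraMap B F (v (e a))) + ∑ i, algebraMap F K (algebraMap B F (M (e a) i)) * c i = 0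
      simp only [hFK]
      simpa [E, c] using h0
    omega

/-- Over an algebraically closed field surjectivity at a point passes to its generisations. -/
theorem surjective_residue {B : Type u} [CommRing B] [Algebra k B] {n m : ℕ} (M : Matrix (Fin n) (Fin m) B)
    (φ : B →ₐ[k] k) (q : Ideal B) [q.IsPrime] (hq : q ≤ pk φ)
    (h : Function.Surjective (M.map φ).mulVec) :
    Function.Surjective (M.map (algebraMap B q.ResidueField)).mulVec := by
  classical
  obtain ⟨R, hR⟩ := Matrix.mulVec_surjective_iff_exists_right_inverse.mp h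
  let RB := R.map (algebraMap k B)
  have hd : φ (M * RB).det = 1 := by
    have : φ.toRingHom.mapMatrix (M * RB) = 1 := by
      rw [RingHom.mapMatrix_apply, Matrix.map_mul]
      rw [show RB.map φ.toRingHom = R from Matrix.ext fun a b => φ.commutes (R a b)]
      exact hR
    have e := φ.toRingHom.map_det (M * RB)
    rw [this, Matrix.det_one] at e
    exact e
  have hu : (algebraMap B q.ResidueField) (M * RB).det ≠ 0 := fun e => by
    have := hq (Ideal.algebraMap_residueField_eq_zero.mp e)
    rw [RingHom.mem_ker] at this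
    exact one_ne_zero (hd.symm.trans this)
  rw [RingHom.map_det, RingHom.mapMatrix_apply] at hu
  refine Matrix.mulVec_surjective_iff_exists_right_inverse.mpr
    ⟨RB.map (algebraMap B q.ResidueField) * ((M * RB).map (algebraMap B q.ResidueField))⁻¹, ?_⟩
  rw [← Matrix.mul_assoc, ← Matrix.map_mul, Matrix.mul_nonsing_inv _ (isUnit_iff_ne_zero.mpr hu)]

/-- Surjectivity is the absence of relations between the rows. -/
theorem surjective_of_no_relation {n m : ℕ} (M : Matrix (Fin n) (Fin m) k)
    (h : ∀ z : Fin n → k, (∀ i, ∑ a, z a * M a i = 0) → z = 0) : Function.Surjective M.mulVec := by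
  classical
  suffices hr : LinearMap.range M.mulVecLin = ⊤ from LinearMap.range_eq_top.mp hr
  by_contra hne
  obtain ⟨f, hf0, hf⟩ := Submodule.exists_le_ker_of_lt_top _ (lt_top_iff_ne_top.mpr hne)
  refine hf0 (LinearMap.pi_ext' fun a => LinearMap.ext_ring ?_)
  have hz := h (fun a => f (Pi.single a 1)) fun i => by
    have h1 := hf ⟨Pi.single i 1, rfl⟩
    rw [LinearMap.mem_ker, pi_eq_sum_univ' (M.mulVecLin (Pi.single i 1)), map_sum] at h1
    simpa [mul_comm, Matrix.mulVec_single] using h1
  simpa using congrFun hz a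

variable {B : Type u} [CommRing B] [IsDomain B] [Algebra k B] [Algebra.FiniteType k B]

/-- A nonzero prime lowers the transcendence degree. -/
theorem trdeg_quotient_lt {t : ℕ} (ht : Algebra.trdeg k B = t) (q : Ideal B) [q.IsPrime] (hq : q ≠ ⊥) :
    ∃ s : ℕ, Algebra.trdeg k (B ⧸ q) = s ∧ s < t := by
  obtain ⟨s, hs, hds⟩ := GrothLib.Dim.exists_nat_trdeg_eq_and_ringKrullDim_eq k (B ⧸ q)
  obtain ⟨t', ht', hdt⟩ := GrothLib.Dim.exists_nat_trdeg_eq_and_ringKrullDim_eq k B
  obtain rfl : t' = t := by exact_mod_cast ht'.symm.trans ht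
  refine ⟨s, hs, ?_⟩
  obtain ⟨x, hx, hx0⟩ := Submodule.exists_mem_ne_zero_of_ne_bot hq
  have h1 : ringKrullDim (B ⧸ q) ≤ ringKrullDim (B ⧸ Ideal.span {x}) :=
    ringKrullDim_le_of_surjective (Ideal.Quotient.factor ((Ideal.span_singleton_le_iff_mem _).mpr hx))
      (Ideal.Quotient.factor_surjective _)
  have h2 := ringKrullDim_quotient_succ_le_of_nonZeroDivisor (R := B) (mem_nonZeroDivisors_of_ne_zero hx0)
  have h3 := le_trans (add_le_add_left h1 1) h2
  rw [hds, hdt] at h3
  norm_cast at h3

theorem trdeg_residueField_eq {A : Type u} [CommRing A] [Algebra k A] (q : Ideal A) [q.IsPrime] :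
    Algebra.trdeg k q.ResidueField = Algebra.trdeg k (A ⧸ q) := by
  haveI : Algebra.IsAlgebraic (A ⧸ q) q.ResidueField := IsLocalization.isAlgebraic _ (nonZeroDivisors (A ⧸ q))
  have h2 := trdeg_add_eq k (A ⧸ q) (A := q.ResidueField)
  rw [trdeg_eq_zero (R := A ⧸ q) (A := q.ResidueField), add_zero] at h2
  exact h2.symm

/-- A smooth domain whose differentials have rank `n` has residue fields of transcendence degree at most `n`. -/
theorem trdeg_residue_le [Algebra.Smooth k B] {n : ℕ}
    (h : RingHom.Locally (RingHom.IsStandardSmoothOfRelativeDimension n) (algebraMap k B))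
    (q : PrimeSpectrum B) :
    ∃ t : ℕ, Algebra.trdeg k q.asIdeal.ResidueField = t ∧ t ≤ n ∧ (q.asIdeal ≠ ⊥ → t < n) := by
  obtain ⟨s, hs, hstd⟩ := h
  obtain ⟨g, hgs, hg0⟩ : ∃ g ∈ s, g ≠ 0 := by
    by_contra hne
    push Not at hne
    have : Ideal.span s ≤ (⊥ : Ideal B) := Ideal.span_le.mpr fun x hx => hne x hx
    rw [hs] at this
    exact (bot_ne_top (α := Ideal B)) (top_le_iff.mp this)
  let Bg := Localization.Away g
  have hg := hstd g hgs
  rw [← IsScalarTower.algebraMap_eq k B Bg] at hg
  haveI : Algebra.IsStandardSmoothOfRelativeDimension n k Bg :=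
    (RingHom.isStandardSmoothOfRelativeDimension_algebraMap n).mp hg
  have hle : Submonoid.powers g ≤ nonZeroDivisors B := powers_le_nonZeroDivisors_of_noZeroDivisors hg0
  haveI : IsDomain Bg := IsLocalization.isDomain_of_le_nonZeroDivisors (M := Submonoid.powers g) (S := Bg) (R := B) hle
  haveI : FaithfulSMul k Bg := (faithfulSMul_iff_algebraMap_injective _ _).2 (algebraMap k Bg).injective
  have hBg := GrothLib.GenericSmooth.trdeg_of_isStandardSmooth n k Bg
  haveI : FaithfulSMul B Bg := (faithfulSMul_iff_algebraMap_injective _ _).2 (IsLocalization.injective _ hle)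
  haveI : Algebra.IsAlgebraic B Bg := IsLocalization.isAlgebraic _ (Submonoid.powers g)
  have htB : Algebra.trdeg k B = n := by
    have h2 := trdeg_add_eq k B (A := Bg)
    rw [hBg, trdeg_eq_zero (R := B) (A := Bg), add_zero] at h2
    exact h2
  rw [trdeg_residueField_eq]
  by_cases hq : q.asIdeal = ⊥
  · refine ⟨n, ?_, le_rfl, fun h => absurd hq h⟩
    rw [((Ideal.quotientEquivAlgOfEq k hq).trans (AlgEquiv.quotientBot k B)).trdeg_eq, htB]
  · obtain ⟨t, ht, htn⟩ := trdeg_quotient_lt htB q.asIdeal hq
    exact ⟨t, ht, htn.le, fun _ => htn⟩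

end GrothLib.OrdQuad12
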