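import Mathlib

/-!
# Degenerate quadratic forms, in all characteristics

A quadratic form is degenerate when it is invariant under translation by a nonzero vector,
equivalently when a nonzero vector is a zero of the form and of all its partial derivatives.
-/

set_option autoImplicit false
set_option linter.all false
universe u

namespace GrothLib.OrdQuad12

variable {n : ℕ}

section Defs

variable {R : Type*} [CommRing R]

/-- The value of a quadratic form given by coefficients. -/
def qf (c : Fin n → Fin n → R) (v : Fin n → R) : R := ∑ a, ∑ b, c a b * v a * v b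

/-- The partial derivatives of a quadratic form given by coefficients. -/
def dq (c : Fin n → Fin n → R) (i : Fin n) (v : Fin n → R) : R := ∑ b, (c i b + c b i) * v b

theorem qf_add (c : Fin n → Fin n → R) (v w : Fin n → R) :
    qf c (v + w) = qf c v + ∑ i, dq c i v * w i + qf c w := by
  have h : ∑ i, dq c i v * w i = ∑ a, ∑ b, c a b * v a * w b + ∑ a, ∑ b, c a b * w a * v b := by
    simp only [dq, add_mul, Finset.sum_add_distrib, Finset.sum_mul]
    rw [add_comm]
    congr 1
    · rw [Finset.sum_comm]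
    · exact Finset.sum_congr rfl fun a _ => Finset.sum_congr rfl fun b _ => by ring
  rw [h]
  simp only [qf, Pi.add_apply, ← Finset.sum_add_distrib]
  exact Finset.sum_congr rfl fun a _ => Finset.sum_congr rfl fun b _ => by ring

theorem qf_smul (c : Fin n → Fin n → R) (t : R) (v : Fin n → R) : qf c (t • v) = t ^ 2 * qf c v := by
  simp only [qf, Finset.mul_sum, Pi.smul_apply, smul_eq_mul]
  exact Finset.sum_congr rfl fun a _ => Finset.sum_congr rfl fun b _ => by ring

theorem dq_smul (c : Fin n → Fin n → R) (i : Fin n) (t : R) (v : Fin n → R) : dq c i (t • v) = t * dq c i v := by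
  simp only [dq, Finset.mul_sum, Pi.smul_apply, smul_eq_mul]
  exact Finset.sum_congr rfl fun b _ => by ring

theorem map_qf {S : Type*} [CommRing S] (f : R →+* S) (c : Fin n → Fin n → R) (v : Fin n → R) :
    f (qf c v) = qf (fun a b => f (c a b)) (fun a => f (v a)) := by
  simp [qf, map_sum, map_mul]

theorem map_dq {S : Type*} [CommRing S] (f : R →+* S) (c : Fin n → Fin n → R) (i : Fin n) (v : Fin n → R) :
    f (dq c i v) = dq (fun a b => f (c a b)) i (fun a => f (v a)) := by
  simp [dq, map_sum, map_mul]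

end Defs

variable {k : Type u} [Field k]

/-- Degenerate quadratic forms. -/
def DegQ (c : Fin n → Fin n → k) : Prop :=
  ∃ v : Fin n → k, v ≠ 0 ∧ qf c v = 0 ∧ ∀ i, dq c i v = 0

theorem degQ_iff_invariant (c : Fin n → Fin n → k) :
    DegQ c ↔ ∃ v : Fin n → k, v ≠ 0 ∧ ∀ w, qf c (v + w) = qf c w := by
  constructor
  · rintro ⟨v, hv, h0, h1⟩
    exact ⟨v, hv, fun w => by simp [qf_add, h0, h1]⟩
  · rintro ⟨v, hv, h⟩
    have h0 : qf c v = 0 := by simpa [qf] using h 0
    refine ⟨v, hv, h0, fun i => ?_⟩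
    have := h (Pi.single i 1)
    rw [qf_add, h0, zero_add, add_eq_right] at this
    rwa [Finset.sum_eq_single i (fun b _ hb => by simp [Pi.single_eq_of_ne hb]) (by simp),
      Pi.single_eq_same, mul_one] at this

theorem degQ_zero (hn : 1 ≤ n) : DegQ (0 : Fin n → Fin n → k) :=
  ⟨fun _ => 1, fun h => one_ne_zero (congrFun h ⟨0, hn⟩), by simp [qf], fun i => by simp [dq]⟩

/-- Only the associated function matters. -/
theorem degQ_of_qf_eq {c d : Fin n → Fin n → k} (t : k) (ht : ∀ v, qf d v = t * qf c v) (h : DegQ c) :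
    DegQ d := by
  rw [degQ_iff_invariant] at h ⊢
  obtain ⟨v, hv, h⟩ := h
  exact ⟨v, hv, fun w => by rw [ht, ht, h]⟩

/-- A degenerate form is a form in fewer variables. -/
theorem sum_eq_of_degQ {R : Type*} [CommRing R] [Algebra k R] (c : Fin n → Fin n → k) (v : Fin n → k)
    (h0 : qf c v = 0) (h1 : ∀ i, dq c i v = 0) (u : Fin n → R) (T : R) :
    ∑ a, ∑ b, algebraMap k R (c a b) * u a * u b =
      ∑ a, ∑ b, algebraMap k R (c a b) * (u a - algebraMap k R (v a) * T) * (u b - algebraMap k R (v b) * T) := by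
  let v' : Fin n → R := T • fun a => algebraMap k R (v a)
  let w : Fin n → R := fun a => u a - algebraMap k R (v a) * T
  let c' : Fin n → Fin n → R := fun a b => algebraMap k R (c a b)
  have hu : u = v' + w := by
    funext a
    simp [v', w, mul_comm]
  show qf c' u = qf c' w
  have e0 : qf c' v' = 0 := by rw [qf_smul, ← map_qf, h0, map_zero, mul_zero]
  have e1 : ∀ i, dq c' i v' = 0 := fun i => by rw [dq_smul, ← map_dq, h1, map_zero, mul_zero]
  rw [hu, qf_add, e0, zero_add, Finset.sum_eq_zero (fun i _ => by rw [e1, zero_mul]), zero_add]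

/-- A nondegenerate form exists in every dimension and characteristic. -/
theorem exists_not_degQ : ∀ (n : ℕ), ∃ c : Fin n → Fin n → k, ¬ DegQ c := by
  intro n
  induction n using Nat.twoStepInduction with
  | zero => exact ⟨0, fun ⟨v, hv, _⟩ => hv (Subsingleton.elim _ _)⟩
  | one =>
    refine ⟨fun _ _ => 1, fun ⟨v, hv, h0, _⟩ => hv ?_⟩
    simp [qf] at h0
    funext a
    fin_cases a
    simpa using h0
  | more n hn _ =>
    obtain ⟨c, hc⟩ := hn
    let e : Fin (n + 2) → Fin (n + 2) → k := fun a b =>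
      Fin.cases (Fin.cases 0 (fun b' => if b' = 0 then 1 else 0) b)
        (fun a' => Fin.cases 0 (fun a'' => Fin.cases 0 (fun b' => Fin.cases 0 (fun b'' => c a'' b'') b') b) a') a
    refine ⟨e, fun ⟨v, hv, h0, h1⟩ => ?_⟩
    let v2 : Fin n → k := fun a => v a.succ.succ
    have hd0 : dq e 0 v = v (Fin.succ 0) := by
      simp [dq, e, Fin.sum_univ_succ, -Fin.succ_zero_eq_one]
    have hd1 : dq e (Fin.succ 0) v = v 0 := by
      simp only [dq, e, Fin.sum_univ_succ, Fin.cases_zero, Fin.cases_succ, eq_self_iff_true, if_true,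
        Fin.succ_ne_zero, if_false, zero_add, add_zero, zero_mul, one_mul, Finset.sum_const_zero]
    have hq : qf e v = v 0 * v (Fin.succ 0) + qf c v2 := by
      simp [qf, e, Fin.sum_univ_succ, v2, -Fin.succ_zero_eq_one]
    have hd2 : ∀ i : Fin n, dq e i.succ.succ v = dq c i v2 := fun i => by
      simp [dq, e, Fin.sum_univ_succ, v2, -Fin.succ_zero_eq_one]
    have hv0 : v 0 = 0 := hd1 ▸ h1 _
    have hv1 : v (Fin.succ 0) = 0 := hd0 ▸ h1 _
    refine hc ⟨v2, fun h => hv ?_, ?_, fun i => hd2 i ▸ h1 _⟩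
    · funext a
      refine Fin.cases hv0 (fun a' => Fin.cases hv1 (fun a'' => ?_) a') a
      exact congrFun h a''
    · rw [hv0, zero_mul, zero_add] at hq
      exact hq ▸ h0

/-- Having no common nonzero zero of a quadratic form and linear forms is an open condition. -/
theorem exists_open_no_zero [IsAlgClosed k] {R : Type*} [CommRing R] (M A : Fin n → Fin n → R) (ev : R →+* k)
    (hev : Function.Surjective ev)
    (h : ∀ v : Fin n → k, v ≠ 0 → qf (fun a b => ev (A a b)) v = 0 →
      (∀ i, ∑ a, ev (M i a) * v a = 0) → False) :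
    ∃ D : R, ev D ≠ 0 ∧ ∀ ev' : R →+* k, ev' D ≠ 0 → ∀ v : Fin n → k, v ≠ 0 →
      qf (fun a b => ev' (A a b)) v = 0 → (∀ i, ∑ a, ev' (M i a) * v a = 0) → False := by
  classical
  let M0 : Matrix (Fin n) (Fin n) k := Matrix.of fun i a => ev (M i a)
  by_cases hdet : M0.det = 0
  swap
  · refine ⟨(Matrix.of M).det, ?_, fun ev' hD v hv _ hlin => hv ?_⟩
    · rwa [RingHom.map_det]
    · rw [RingHom.map_det] at hD
      exact Matrix.eq_zero_of_mulVec_eq_zero hD (funext hlin)
  obtain ⟨v, hv0, hv⟩ := Matrix.exists_mulVec_eq_zero_iff.mpr hdet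
  have hker : ∀ w, M0.mulVec w = 0 → ∃ t : k, w = t • v := by
    intro w hw
    by_contra hne
    push Not at hne
    have hz : ∀ x : Fin n → k, M0.mulVec x = 0 → x ≠ 0 → qf (fun a b => ev (A a b)) x ≠ 0 :=
      fun x hx hx0 hq => h x hx0 hq fun i => congrFun hx i
    let q := fun a b => ev (A a b)
    have hex : ∃ t : k, qf q (w + t • v) = 0 := by
      let p : Polynomial k := Polynomial.C (qf q v) * Polynomial.X ^ 2 +
        Polynomial.C (∑ i, dq q i w * v i) * Polynomial.X + Polynomial.C (qf q w)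
      have hp : p.natDegree = 2 := Polynomial.natDegree_quadratic (hz v hv hv0)
      obtain ⟨t, ht⟩ := IsAlgClosed.exists_root p (fun e => by
        rw [Polynomial.natDegree_eq_of_degree_eq_some e] at hp
        exact absurd hp (by norm_num))
      refine ⟨t, ?_⟩
      rw [Polynomial.IsRoot, Polynomial.eval_add, Polynomial.eval_add] at ht
      simp only [Polynomial.eval_mul, Polynomial.eval_C, Polynomial.eval_pow, Polynomial.eval_X] at ht
      rw [qf_add, qf_smul, ← ht]
      simp only [Pi.smul_apply, smul_eq_mul, Finset.sum_mul]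
      rw [Finset.sum_congr rfl (fun i _ => show dq q i w * (t * v i) = dq q i w * v i * t by ring)]
      ring
    obtain ⟨t, ht⟩ := hex
    refine hz (w + t • v) (by rw [Matrix.mulVec_add, Matrix.mulVec_smul, hw, hv, smul_zero, add_zero]) ?_ ht
    intro e
    refine hne (-t) ?_
    rw [neg_smul]
    exact eq_neg_of_add_eq_zero_left e
  obtain ⟨a₀, ha₀⟩ : ∃ a, v a ≠ 0 := by
    by_contra hall
    push Not at hall
    exact hv0 (funext hall)
  obtain ⟨i₀, hi₀⟩ : ∃ i₀, ∀ w, M0.mulVec w ≠ Pi.single i₀ 1 := by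
    by_contra hall
    push Not at hall
    choose w hw using hall
    have hsurj : Function.Surjective M0.mulVec := fun y =>
      ⟨∑ i, y i • w i, by rw [Matrix.mulVec_sum]; simp [Matrix.mulVec_smul, hw, ← Pi.single_smul', Finset.univ_sum_single]⟩
    obtain ⟨R', hR⟩ := Matrix.mulVec_surjective_iff_exists_right_inverse.mp hsurj
    have := congrArg Matrix.det hR
    rw [Matrix.det_mul, hdet, zero_mul, Matrix.det_one] at this
    exact zero_ne_one this
  let N : Matrix (Fin n) (Fin n) R := (Matrix.of M).updateRow i₀ (Pi.single a₀ 1)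
  let N0 : Matrix (Fin n) (Fin n) k := M0.updateRow i₀ (Pi.single a₀ 1)
  have hNev : ∀ ev' : R →+* k, ev'.mapMatrix N =
      (Matrix.of fun i a => ev' (M i a)).updateRow i₀ (Pi.single a₀ 1) := by
    intro ev'
    ext i a
    by_cases hi : i = i₀
    · subst hi
      by_cases ha : a = a₀ <;> simp [N, Matrix.updateRow_self, ha, Pi.single_apply]
    · simp [N, Matrix.updateRow_ne hi]
  have hrow : ∀ (P : Matrix (Fin n) (Fin n) k) (x : Fin n → k) (i : Fin n),
      (P.updateRow i₀ (Pi.single a₀ 1)).mulVec x i = if i = i₀ then x a₀ else P.mulVec x i := by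
    intro P x i
    by_cases hi : i = i₀
    · subst hi
      simp [Matrix.mulVec, dotProduct, Matrix.updateRow_self, Pi.single_apply]
    · simp [Matrix.mulVec, dotProduct, Matrix.updateRow_ne hi, hi]
  have hN0 : N0.det ≠ 0 := by
    intro hd
    obtain ⟨x, hx0, hx⟩ := Matrix.exists_mulVec_eq_zero_iff.mpr hd
    have hxa : x a₀ = 0 := by simpa [N0, hrow] using congrFun hx i₀
    have hMx : M0.mulVec x = Pi.single i₀ (M0.mulVec x i₀) := by
      funext i
      by_cases hi : i = i₀
      · subst hi; simp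
      · rw [Pi.single_eq_of_ne hi]
        simpa [N0, hrow, hi] using congrFun hx i
    by_cases hs : M0.mulVec x i₀ = 0
    · rw [hs, Pi.single_zero] at hMx
      obtain ⟨t, rfl⟩ := hker x hMx
      simp [ha₀] at hxa
      exact hx0 (by rw [hxa, zero_smul])
    · refine hi₀ ((M0.mulVec x i₀)⁻¹ • x) ?_
      rw [Matrix.mulVec_smul]
      funext i
      rw [Pi.smul_apply, smul_eq_mul]
      by_cases hi : i = i₀
      · subst hi; rw [Pi.single_eq_same, inv_mul_cancel₀ hs]
      · rw [congrFun hMx i, Pi.single_eq_of_ne hi, Pi.single_eq_of_ne hi, mul_zero]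
  let vv : Fin n → R := N.adjugate.mulVec (Pi.single i₀ 1)
  have hvv : ∀ ev' : R →+* k, (fun a => ev' (vv a)) =
      ((Matrix.of fun i a => ev' (M i a)).updateRow i₀ (Pi.single a₀ 1)).adjugate.mulVec (Pi.single i₀ 1) := by
    intro ev'
    rw [← hNev, ← RingHom.map_adjugate]
    funext a
    simp [vv, Matrix.mulVec, dotProduct, Pi.single_apply, apply_ite ev']
  have hv' : ∀ ev' : R →+* k, ∀ x : Fin n → k, (∀ i, ∑ a, ev' (M i a) * x a = 0) →
      (ev'.mapMatrix N).det • x = x a₀ • (fun a => ev' (vv a)) := by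
    intro ev' x hx
    have h1 : (ev'.mapMatrix N).mulVec x = x a₀ • Pi.single i₀ (1 : k) := by
      funext i
      rw [hNev, hrow]
      by_cases hi : i = i₀
      · subst hi; simp
      · rw [if_neg hi, Pi.smul_apply, Pi.single_eq_of_ne hi, smul_zero]
        exact hx i
    have h2 := congrArg ((ev'.mapMatrix N).adjugate.mulVec) h1
    rw [Matrix.mulVec_mulVec, Matrix.adjugate_mul, Matrix.smul_mulVec, Matrix.one_mulVec, Matrix.mulVec_smul] at h2
    rw [h2, hvv, hNev]
  refine ⟨N.det * qf A vv, ?_, fun ev' hD x hx hq hlin => ?_⟩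
  · rw [map_mul, RingHom.map_det, map_qf]
    refine mul_ne_zero (by rw [hNev]; exact hN0) fun hq => ?_
    have h1 := hv' ev v (fun i => congrFun hv i)
    have h2 : qf (fun a b => ev (A a b)) ((ev.mapMatrix N).det • v) = 0 := by
      rw [h1, qf_smul, hq, mul_zero]
    rw [qf_smul, mul_eq_zero] at h2
    rcases h2 with h2 | h2
    · exact hN0 (by rw [hNev] at h2; exact pow_eq_zero_iff two_ne_zero |>.mp h2)
    · exact h v hv0 h2 fun i => congrFun hv i
  · rw [map_mul, RingHom.map_det, map_qf, mul_ne_zero_iff] at hD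
    have h1 := hv' ev' x hlin
    by_cases hxa : x a₀ = 0
    · rw [hxa, zero_smul] at h1
      exact hx ((smul_eq_zero.mp h1).resolve_left hD.1)
    · have h2 : qf (fun a b => ev' (A a b)) (x a₀ • fun a => ev' (vv a)) = 0 := by
        rw [← h1, qf_smul, hq, mul_zero]
      rw [qf_smul, mul_eq_zero] at h2
      exact h2.elim (fun e => hxa (pow_eq_zero_iff two_ne_zero |>.mp e)) hD.2

end GrothLib.OrdQuad12
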