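import Groth.Agent.Lib.OrdQuad12.Completion
import Groth.Agent.Lib.FormBertini12.Section
import Groth.Agent.Lib.HypersurfaceSmooth

/-!
# Smoothness of the common zero scheme of several functions
-/

set_option autoImplicit false
set_option linter.all false
set_option maxHeartbeats 1000000
universe u

open CategoryTheory AlgebraicGeometry TensorProduct

noncomputable section

namespace GrothLib.OrdQuad12

open GrothLib.DualVar12 (pk pk_isMaximal)

variable {k : Type u} [Field k] {B : Type u} [CommRing B] [Algebra k B]

/-- Functions whose differentials admit dual functionals along their common zeros cut out a smooth scheme. -/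
theorem smooth_quotient_family [Algebra.Smooth k B] {n c : ℕ}
    (hn : ∀ p : PrimeSpectrum B, Module.rankAtStalk (R := B) Ω[B⁄k] p = n) (f : Fin c → B)
    (ℓ : Fin c → (Ω[B⁄k] →ₗ[B] B))
    (hℓ : ∀ a b, Ideal.Quotient.mk (Ideal.span (Set.range f)) (ℓ a (KaehlerDifferential.D k B (f b))) =
      if a = b then 1 else 0) :
    SmoothOfRelativeDimension (n - c)
      (Spec.map (CommRingCat.ofHom (algebraMap k (B ⧸ Ideal.span (Set.range f))))) := by
  classical
  let C := B ⧸ Ideal.span (Set.range f)
  let I := RingHom.ker (algebraMap B C)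
  have hI : ∀ x, x ∈ I ↔ x ∈ Ideal.span (Set.range f) := fun x => by
    rw [show I = Ideal.span (Set.range f) from by simp only [I, C, Ideal.Quotient.algebraMap_eq, Ideal.mk_ker]]
  have hf : ∀ a, f a ∈ I := fun a => (hI _).2 (Ideal.subset_span ⟨a, rfl⟩)
  let fc : Fin c → I.Cotangent := fun a => I.toCotangent ⟨f a, hf a⟩
  have hgen : ∀ z : I.Cotangent, ∃ r : Fin c → B, z = ∑ a, r a • fc a := fun z => by
    obtain ⟨⟨y, hy⟩, rfl⟩ := Ideal.toCotangent_surjective _ z
    obtain ⟨r, hr⟩ := Ideal.mem_span_range_iff_exists_fun.mp ((hI y).1 hy)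
    refine ⟨r, ?_⟩
    rw [show (⟨y, hy⟩ : I) = ∑ a, r a • (⟨f a, hf a⟩ : I) from Subtype.ext (by
      simp [AddSubmonoidClass.coe_finsetSum, hr]), map_sum]
    simp only [map_smul, fc]
  have hkill : ∀ (r : B) (x : I.Cotangent), r ∈ Ideal.span (Set.range f) → r • x = 0 := by
    intro r x hr
    obtain ⟨y, rfl⟩ := Ideal.toCotangent_surjective I x
    rw [← map_smul, Ideal.toCotangent_eq_zero, pow_two, Submodule.coe_smul, smul_eq_mul]
    exact Ideal.mul_mem_mul ((hI r).2 hr) y.2
  let ψ : Ω[B⁄k] →ₗ[B] I.Cotangent := ∑ a, (LinearMap.toSpanSingleton B I.Cotangent (fc a)).comp (ℓ a)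
  have hψ : ∀ b, ψ (KaehlerDifferential.D k B (f b)) = fc b := fun b => by
    simp only [ψ, LinearMap.sum_apply, LinearMap.comp_apply, LinearMap.toSpanSingleton_apply]
    rw [Finset.sum_eq_single b]
    · have h1 := hℓ b b
      rw [if_pos rfl, ← map_one (Ideal.Quotient.mk _), Ideal.Quotient.eq] at h1
      conv_rhs => rw [← one_smul B (fc b)]
      rw [← sub_eq_zero, ← sub_smul]
      exact hkill _ _ h1
    · intro a _ ha
      have h1 := hℓ a b
      rw [if_neg ha, Ideal.Quotient.eq_zero_iff_mem] at h1
      exact hkill _ _ h1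
    · simp
  have hle : (Ideal.span (Set.range f) • ⊤ : Submodule B Ω[B⁄k]) ≤ LinearMap.ker ψ :=
    Submodule.smul_le.mpr fun r hr x _ => by rw [LinearMap.mem_ker, map_smul]; exact hkill r _ hr
  let l : C ⊗[B] Ω[B⁄k] →ₗ[B] I.Cotangent :=
    (Submodule.liftQ _ ψ hle).comp
      (TensorProduct.quotTensorEquivQuotSMul Ω[B⁄k] (Ideal.span (Set.range f))).toLinearMap
  have hl : l.comp (KaehlerDifferential.kerCotangentToTensor k B C) = LinearMap.id := by
    refine LinearMap.ext fun z => ?_
    obtain ⟨r, rfl⟩ := hgen z
    simp only [LinearMap.comp_apply, LinearMap.id_apply, map_sum, map_smul]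
    refine Finset.sum_congr rfl fun a _ => ?_
    congr 1
    rw [KaehlerDifferential.kerCotangentToTensor_toCotangent]
    show (Submodule.liftQ _ ψ hle) ((TensorProduct.quotTensorEquivQuotSMul Ω[B⁄k] (Ideal.span (Set.range f)))
      ((1 : C) ⊗ₜ KaehlerDifferential.D k B (f a))) = fc a
    rw [show (1 : C) = Ideal.Quotient.mk _ (1 : B) from (map_one _).symm,
      TensorProduct.quotTensorEquivQuotSMul_mk_tmul, one_smul]
    exact hψ a
  haveI : Algebra.FormallySmooth k C :=
    (Algebra.FormallySmooth.iff_split_injection (P := B) (A := C) Ideal.Quotient.mk_surjective).mpr ⟨l, hl⟩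
  haveI : Algebra.FinitePresentation k C := by
    have := Algebra.Smooth.finitePresentation (R := k) (A := B)
    exact Algebra.FinitePresentation.quotient ((Submodule.fg_span (Set.finite_range f)))
  haveI hC : Algebra.Smooth k C := ⟨inferInstance, inferInstance⟩
  let μ := KaehlerDifferential.mapBaseChange k B C
  have hμ : Function.Surjective μ :=
    KaehlerDifferential.mapBaseChange_surjective k B C Ideal.Quotient.mk_surjective
  let v : Fin c → C ⊗[B] Ω[B⁄k] := fun a => 1 ⊗ₜ KaehlerDifferential.D k B (f a)
  let P : C ⊗[B] Ω[B⁄k] →ₗ[C] (Fin c → C) :=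
    LinearMap.pi fun a => ((Algebra.linearMap B C).comp (ℓ a)).liftBaseChange C
  have hPv : ∀ b, P (v b) = Pi.single b 1 := fun b => by
    funext a
    simp only [P, v, LinearMap.pi_apply, LinearMap.liftBaseChange_tmul, one_smul, LinearMap.comp_apply,
      Algebra.linearMap_apply, Pi.single_apply, Ideal.Quotient.algebraMap_eq]
    exact hℓ a b
  have hμv : ∀ a, μ (v a) = 0 := fun a => by
    simp only [μ, v, KaehlerDifferential.mapBaseChange_tmul, one_smul, KaehlerDifferential.map_D]
    rw [show algebraMap B C (f a) = 0 from Ideal.Quotient.eq_zero_iff_mem.2 (Ideal.subset_span ⟨a, rfl⟩), map_zero]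
  have hker : ∀ z, μ z = 0 → ∃ r : Fin c → C, z = ∑ a, r a • v a := fun z hz => by
    obtain ⟨x, rfl⟩ := ((KaehlerDifferential.exact_kerCotangentToTensor_mapBaseChange k B C
      Ideal.Quotient.mk_surjective) z).1 hz
    obtain ⟨r, rfl⟩ := hgen x
    refine ⟨fun a => algebraMap B C (r a), ?_⟩
    simp only [map_sum, map_smul, fc, algebraMap_smul, v]
    exact Finset.sum_congr rfl fun a _ => congrArg (r a • ·) (KaehlerDifferential.kerCotangentToTensor_toCotangent _ _ _ ⟨f a, hf a⟩)
  let e : C ⊗[B] Ω[B⁄k] ≃ₗ[C] (Fin c → C) × Ω[C⁄k] := LinearEquiv.ofBijective (P.prod μ) (by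
    refine ⟨(injective_iff_map_eq_zero _).2 fun z hz => ?_, fun ⟨r, w⟩ => ?_⟩
    · replace hz : P z = 0 ∧ μ z = 0 := Prod.mk_eq_zero.mp hz
      obtain ⟨r, rfl⟩ := hker z hz.2
      have h1 := hz.1
      simp only [map_sum, map_smul, hPv] at h1
      refine Finset.sum_eq_zero fun a _ => ?_
      have := congrFun h1 a
      simp [Finset.sum_apply, Pi.single_apply] at this
      rw [this, zero_smul]
    · obtain ⟨z, rfl⟩ := hμ w
      refine ⟨z + ∑ a, (r a - P z a) • v a, ?_⟩
      show (P _, μ _) = _
      rw [map_add, map_add, map_sum, map_sum]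
      refine Prod.ext ?_ ?_
      · funext a
        simp [hPv, Finset.sum_apply, Pi.single_apply]
      · simp [hμv])
  haveI : Module.Projective B Ω[B⁄k] := inferInstance
  haveI : Module.Finite B Ω[B⁄k] := inferInstance
  haveI : Module.Finite C Ω[C⁄k] := inferInstance
  haveI : Module.Projective C Ω[C⁄k] := inferInstance
  refine GrothLib.Bertini16.smoothOfRelativeDimension_of_rank C (n - c) fun p => ?_
  haveI : Nontrivial C := ⟨0, 1, fun e => p.2.ne_top (top_unique fun x _ => by
    rw [← mul_one x, ← e, mul_zero]; exact zero_mem _)⟩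
  have h1 := congrFun (Module.rankAtStalk_eq_of_equiv e) p
  rw [Module.rankAtStalk_baseChange, hn, Module.rankAtStalk_prod, Module.rankAtStalk_eq_finrank_of_free,
    Module.finrank_fin_fun] at h1
  simp only [Pi.add_apply, Pi.natCast_apply] at h1
  simp only [Nat.cast_id] at h1
  omega

variable {n : ℕ} (F : Frame k B n) (φ : B →ₐ[k] k)

include F in
/-- Two functions with dependent first jets at a common zero cut out a scheme with large tangent space. -/
theorem not_rank_of_dependent {f g : B} (hf : φ f = 0) (hg : φ g = 0) {a b : k} (hab : a ≠ 0 ∨ b ≠ 0)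
    (hdep : a • f + b • g ∈ pk φ ^ 2) (n' : ℕ) (hn' : n' + 2 ≤ n)
    [Algebra.Smooth k (B ⧸ Ideal.span (Set.range ![f, g]))]
    (hrank : ∀ p : PrimeSpectrum (B ⧸ Ideal.span (Set.range ![f, g])),
      Module.rankAtStalk (R := B ⧸ Ideal.span (Set.range ![f, g])) Ω[(B ⧸ Ideal.span (Set.range ![f, g]))⁄k] p = n') :
    False := by
  classical
  let C := B ⧸ Ideal.span (Set.range ![f, g])
  let Λ : (Fin n → k) →ₗ[k] k × k :=
    { toFun := fun v => (lin F φ v f, lin F φ v g)
      map_add' := fun v v' => by simp [lin_add]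
      map_smul' := fun t v => by simp [lin, Finset.mul_sum, mul_assoc] }
  have hle : Module.finrank k (LinearMap.range Λ) ≤ 1 := by
    let w : k × k := if b = 0 then (0, 1) else (b, -a)
    have hsub : LinearMap.range Λ ≤ k ∙ w := by
      rintro _ ⟨v, rfl⟩
      have h0 : a * lin F φ v f + b * lin F φ v g = 0 := by
        have h1 := lin_eq_zero_of_sq F φ v hdep
        have h2 : lin F φ v (a • f + b • g) = a * lin F φ v f + b * lin F φ v g := by
          simp [lin, mul_add, Finset.sum_add_distrib, Finset.mul_sum, mul_left_comm]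
        rw [← h2, h1]
      rw [Submodule.mem_span_singleton]
      by_cases hb : b = 0
      · have ha : a ≠ 0 := hab.resolve_right (by simpa using hb)
        rw [hb, zero_mul, add_zero, mul_eq_zero] at h0
        exact ⟨lin F φ v g, by simp [w, hb, Λ, h0.resolve_left ha]⟩
      · refine ⟨lin F φ v f / b, Prod.ext ?_ ?_⟩
        · simp [w, hb, Λ]
        · simp [w, hb, Λ]
          field_simp
          linear_combination -h0
    exact (Submodule.finrank_mono hsub).trans ((finrank_span_le_card _).trans (by simp))
  have hK : n ≤ Module.finrank k (LinearMap.ker Λ) + 1 := by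
    have := Λ.finrank_range_add_finrank_ker
    rw [Module.finrank_fin_fun] at this
    omega
  haveI : Nontrivial C := Ideal.Quotient.nontrivial_iff.mpr fun e => by
    have : Ideal.span (Set.range ![f, g]) ≤ pk φ := Ideal.span_le.mpr (by
      rintro _ ⟨x, rfl⟩
      fin_cases x
      · exact hf
      · exact hg)
    exact (pk_isMaximal φ).ne_top (top_unique (e ▸ this))
  have hsp : ∀ x ∈ Ideal.span (Set.range ![f, g]), φ x = 0 := fun x hx => by
    refine (Ideal.span_le (I := pk φ)).mpr ?_ hx
    rintro _ ⟨y, rfl⟩
    fin_cases y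
    · exact hf
    · exact hg
  let φC : C →ₐ[k] k := Ideal.Quotient.liftₐ _ φ hsp
  letI : Algebra C k := φC.toRingHom.toAlgebra
  haveI : IsScalarTower k C k := IsScalarTower.of_algebraMap_eq fun t => (φC.commutes t).symm
  haveI : Module.Projective C Ω[C⁄k] := inferInstance
  haveI : Module.Finite C Ω[C⁄k] := inferInstance
  have hV : Module.finrank k (k ⊗[C] Ω[C⁄k]) = n' := by
    have h := Module.rankAtStalk_eq_finrank_of_free (R := k) (M := k ⊗[C] Ω[C⁄k])
    have h2 := congrFun h ⟨⊥, Ideal.bot_prime⟩
    rw [Module.rankAtStalk_baseChange, hrank] at h2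
    exact h2.symm
  have hvan : ∀ v ∈ LinearMap.ker Λ, ∀ x ∈ Ideal.span (Set.range ![f, g]), lin F φ v x = 0 := fun v hv x hx => by
    rw [LinearMap.mem_ker] at hv
    obtain ⟨r, rfl⟩ := Ideal.mem_span_range_iff_exists_fun.mp hx
    have hv1 : lin F φ v f = 0 := congrArg Prod.fst hv
    have hv2 : lin F φ v g = 0 := congrArg Prod.snd hv
    have hadd : ∀ x y, lin F φ v (x + y) = lin F φ v x + lin F φ v y := fun x y => by
      simp [lin, mul_add, Finset.sum_add_distrib]
    simp only [Fin.sum_univ_two, Matrix.cons_val_zero, Matrix.cons_val_one, hadd, lin_mul, hf, hg, hv1, hv2,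
      mul_zero, zero_mul, add_zero]
  have hder : ∀ v : LinearMap.ker Λ, ∃ D : Derivation k C k, ∀ x, D (Ideal.Quotient.mk _ x) = lin F φ v.1 x := by
    intro v
    let L : C →ₗ[k] k := ((Ideal.span (Set.range ![f, g])).restrictScalars k).liftQ
      { toFun := lin F φ v.1
        map_add' := fun x y => by simp [lin, mul_add, Finset.sum_add_distrib]
        map_smul' := fun t x => by simp [lin, Finset.mul_sum, mul_left_comm] } (fun x hx => hvan v.1 v.2 x hx)
    refine ⟨Derivation.mk' L fun x y => ?_, fun x => rfl⟩
    obtain ⟨x, rfl⟩ := Ideal.Quotient.mk_surjective x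
    obtain ⟨y, rfl⟩ := Ideal.Quotient.mk_surjective y
    rw [← map_mul]
    show lin F φ v.1 (x * y) = φ x * lin F φ v.1 y + φ y * lin F φ v.1 x
    rw [lin_mul]
  choose D hD using hder
  let Φ : LinearMap.ker Λ →ₗ[k] Module.Dual k (k ⊗[C] Ω[C⁄k]) :=
    { toFun := fun v => (D v).liftKaehlerDifferential.liftBaseChange k
      map_add' := fun v v' => by
        have e : D (v + v') = D v + D v' := Derivation.ext fun x => by
          obtain ⟨x, rfl⟩ := Ideal.Quotient.mk_surjective x
          simp [hD, lin_add]
        refine LinearMap.ext fun z => ?_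
        induction z using TensorProduct.induction_on with
        | zero => simp
        | tmul t ω =>
          simp only [LinearMap.add_apply, LinearMap.liftBaseChange_tmul, e, smul_eq_mul, ← mul_add]
          congr 1
          rw [← LinearMap.add_apply]
          congr 1
          exact Derivation.liftKaehlerDifferential_unique _ _ (Derivation.ext fun x => by simp)
        | add x y hx hy => simp only [map_add, hx, hy]
      map_smul' := fun t v => by
        have e : D (t • v) = t • D v := Derivation.ext fun x => by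
          obtain ⟨x, rfl⟩ := Ideal.Quotient.mk_surjective x
          simp [hD, lin, Finset.mul_sum, mul_assoc]
        refine LinearMap.ext fun z => ?_
        induction z using TensorProduct.induction_on with
        | zero => simp
        | tmul s ω =>
          simp only [RingHom.id_apply, LinearMap.smul_apply, LinearMap.liftBaseChange_tmul, e, smul_eq_mul]
          rw [mul_left_comm]
          congr 1
          rw [← smul_eq_mul, ← LinearMap.smul_apply]
          congr 1
          exact Derivation.liftKaehlerDifferential_unique _ _ (Derivation.ext fun x => by simp)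
        | add x y hx hy => simp only [map_add, hx, hy] }
  have hΦ : Function.Injective Φ := (injective_iff_map_eq_zero Φ).2 fun v hv => by
    refine Subtype.ext (funext fun i => ?_)
    have h1 := LinearMap.congr_fun hv (1 ⊗ₜ[C] KaehlerDifferential.D k C (Ideal.Quotient.mk _ (uc F φ i)))
    simp only [Φ, LinearMap.coe_mk, AddHom.coe_mk, LinearMap.liftBaseChange_tmul, one_smul,
      Derivation.liftKaehlerDifferential_comp_D, hD, lin_uc, LinearMap.zero_apply] at h1
    exact h1
  have := LinearMap.finrank_le_finrank_of_injective hΦ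
  rw [Subspace.dual_finrank_eq, hV] at this
  omega

end GrothLib.OrdQuad12
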