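import Groth.Agent.Lib.OrdQuad12.Pairs
import Groth.Agent.Lib.OrdQuad12.QuotFam

/-!
# Transversality of the base locus of a pencil
-/

set_option autoImplicit false
set_option linter.all false
set_option maxHeartbeats 1000000
set_option backward.isDefEq.respectTransparency false
set_option backward.isDefEq.respectTransparency.types false
universe u

open CategoryTheory CategoryTheory.Limits AlgebraicGeometry TopologicalSpace IsLocalRing

noncomputable section

namespace GrothLib.OrdQuad12

open GrothLib.DualVar12 GrothLib.Jets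

attribute [local instance] constAlgebra

variable {k : Type u} [Field k] [IsAlgClosed k] {r : ℕ} {X : Scheme.{u}} (i : X ⟶ CohB1.ProjSpace r k)
  [IsClosedImmersion i] [X.Over (Spec (CommRingCat.of k))]
  (hi : i ≫ CohB1.ProjSpace.toSpec r k = X ↘ Spec (CommRingCat.of k))

/-- Forms as functions on an affine open in a chart, linearly. -/
def evL {j : Fin (r + 1)} (V : X.affineOpens) (hV : V.1 ≤ (chartX i j).1) (d : ℕ) :
    LefPen.Form r k d →ₗ[k] Γ(X, V.1) :=
  { toFun := evOn i V hV
    map_add' := fun F G => by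
      show (X.presheaf.map (homOfLE hV).op).hom (MvPolynomial.aeval (coord i j) (F.1 + G.1)) = _
      rw [map_add, map_add]
    map_smul' := fun c F => by
      show (X.presheaf.map (homOfLE hV).op).hom (MvPolynomial.aeval (coord i j) (c • F.1)) = c • _
      rw [map_smul, Algebra.smul_def, Algebra.smul_def, map_mul]
      exact congrArg (· * evOn i V hV F) (congrArg (fun f => f.hom (Coh.toGlobal (X ↘ Spec (CommRingCat.of k)) c))
        (X.presheaf.map_comp (homOfLE le_top).op (homOfLE hV).op)).symm }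

theorem evOn_comb {j : Fin (r + 1)} (V : X.affineOpens) (hV : V.1 ≤ (chartX i j).1) {d : ℕ} (a b : k)
    (F G : LefPen.Form r k d) : evOn i V hV (a • F + b • G) = a • evOn i V hV F + b • evOn i V hV G := by
  show evL i V hV d (a • F + b • G) = a • evL i V hV d F + b • evL i V hV d G
  rw [map_add, map_smul, map_smul]

theorem evOn_smul {j : Fin (r + 1)} (V : X.affineOpens) (hV : V.1 ≤ (chartX i j).1) {d : ℕ} (a : k)
    (F : LefPen.Form r k d) : evOn i V hV (a • F) = a • evOn i V hV F :=
  (evL i V hV d).map_smul a F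

/-- A point of the base locus where the two hypersurfaces do not meet transversally. -/
def BadBase {d : ℕ} (F G : LefPen.Form r k d) : Prop :=
  ∃ (x : X) (_ : IsClosed ({x} : Set X)) (j : Fin (r + 1)) (hx : x ∈ (chartX i j).1),
    (X.presheaf.germ (chartX i j).1 x hx).hom (ev i j F) ∈ maximalIdeal (X.presheaf.stalk x) ∧
    (X.presheaf.germ (chartX i j).1 x hx).hom (ev i j G) ∈ maximalIdeal (X.presheaf.stalk x) ∧
    ∃ a b : k, (a ≠ 0 ∨ b ≠ 0) ∧ BadX i x (a • F + b • G)

variable [IsIntegral X] {m : ℕ} [SmoothOfRelativeDimension (m + 1) (X ↘ Spec (CommRingCat.of k))]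

theorem germ_mem_iff (V : X.affineOpens) (φ : Γ(X, V.1) →ₐ[k] k) (x : X)
    (hxe : x = V.2.fromSpec ⟨pk φ, (pk_isMaximal φ).isPrime⟩) (hx : x ∈ V.1) (h : Γ(X, V.1)) :
    (X.presheaf.germ V.1 x hx).hom h ∈ maximalIdeal (X.presheaf.stalk x) ↔ φ h = 0 := by
  subst hxe
  haveI := pk_isMaximal φ
  let S := X.presheaf.stalk (V.2.fromSpec ⟨pk φ, (pk_isMaximal φ).isPrime⟩)
  letI : Algebra Γ(X, V.1) S := TopCat.Presheaf.algebra_section_stalk X.presheaf ⟨_, hx⟩
  haveI : IsLocalization.AtPrime S (pk φ) := V.2.isLocalization_stalk' ⟨pk φ, (pk_isMaximal φ).isPrime⟩ hx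
  have := mem_pow_atPrime S (pk φ) 1 h
  rw [pow_one, pow_one] at this
  exact this

omit [IsClosedImmersion i] [IsIntegral X] [IsAlgClosed k] in
theorem secIdeal_pair_eq {d : ℕ} (F G : LefPen.Form r k d) :
    LefPen.secIdeal i ({F, G} : Set (LefPen.Form r k d)) =
      LefPen.secIdeal i ({F} : Set (LefPen.Form r k d)) ⊔ LefPen.secIdeal i ({G} : Set (LefPen.Form r k d)) := by
  rw [LefPen.secIdeal, LefPen.secIdeal, LefPen.secIdeal, iSup_pair, iSup_singleton, iSup_singleton,
    Scheme.IdealSheafData.comap_sup]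

include hi in
theorem secIdeal_pair {j : Fin (r + 1)} (V : X.affineOpens) (hV : V.1 ≤ (chartX i j).1) {d : ℕ}
    (F G : LefPen.Form r k d) :
    (LefPen.secIdeal i ({F, G} : Set (LefPen.Form r k d))).ideal V =
      Ideal.span (Set.range ![evOn i V hV F, evOn i V hV G]) := by
  rw [secIdeal_pair_eq, Scheme.IdealSheafData.ideal_sup, Pi.sup_apply, secIdeal_evOn i hi V hV,
    secIdeal_evOn i hi V hV, ← Ideal.span_union]
  congr 1
  rw [Matrix.range_cons, Matrix.range_cons, Matrix.range_empty, Set.union_empty]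

include hi m in
theorem badBase_iff_point {j : Fin (r + 1)} (V : X.affineOpens) (hV : V.1 ≤ (chartX i j).1)
    (φ : Γ(X, V.1) →ₐ[k] k) {d : ℕ} (F G : LefPen.Form r k d)
    (hF : φ (evOn i V hV F) = 0) (hG : φ (evOn i V hV G) = 0) {a b : k} (hab : a ≠ 0 ∨ b ≠ 0)
    (hsq : a • evOn i V hV F + b • evOn i V hV G ∈ pk φ ^ 2) : BadBase i F G := by
  haveI : Smooth (X ↘ Spec (CommRingCat.of k)) := SmoothOfRelativeDimension.smooth (m + 1) _
  have hmem := point_mem V φ
  refine ⟨_, isClosed_point V φ, j, hV hmem, ?_, ?_, a, b, hab, ?_⟩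
  · rw [← germ_evOn i V hV F _ hmem]; exact (germ_mem_iff V φ _ rfl hmem _).mpr hF
  · rw [← germ_evOn i V hV G _ hmem]; exact (germ_mem_iff V φ _ rfl hmem _).mpr hG
  · rw [badX_point_iff i hi V hV φ _ _ rfl, evOn_comb]; exact hsq

include hi in
/-- The base locus is transversal iff it has no point with dependent differentials. -/
theorem transversal_two_iff {d : ℕ} (F G : LefPen.Form r k d) :
    LefPen.Transversal k (m + 1) 2 (LefPen.secToSpec i ({F, G} : Set (LefPen.Form r k d))) ↔ ¬ BadBase i F G := by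
  classical
  haveI : Smooth (X ↘ Spec (CommRingCat.of k)) := SmoothOfRelativeDimension.smooth (m + 1) _
  let I := LefPen.secIdeal i ({F, G} : Set (LefPen.Form r k d))
  have hlift : ∀ (x : X) (j : Fin (r + 1)) (hx : x ∈ (chartX i j).1),
      (X.presheaf.germ (chartX i j).1 x hx).hom (ev i j F) ∈ maximalIdeal (X.presheaf.stalk x) →
      (X.presheaf.germ (chartX i j).1 x hx).hom (ev i j G) ∈ maximalIdeal (X.presheaf.stalk x) →
      x ∈ Set.range I.subschemeι := by
    intro x j hx hF hG
    rw [I.range_subschemeι, SetLike.mem_coe, I.mem_support_iff_of_mem hx, Scheme.mem_zeroLocus_iff]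
    intro f hf hxf
    rw [Scheme.mem_basicOpen _ _ _ hx] at hxf
    rw [SetLike.mem_coe, secIdeal_pair i hi (chartX i j) le_rfl] at hf
    obtain ⟨c, rfl⟩ := Ideal.mem_span_range_iff_exists_fun.mp hf
    refine notMem_maximalIdeal.mpr hxf ?_
    rw [map_sum]
    refine sum_mem fun a _ => ?_
    rw [map_mul]
    refine Ideal.mul_mem_left _ _ ?_
    fin_cases a
    · show (X.presheaf.germ _ x hx).hom (evOn i (chartX i j) le_rfl F) ∈ _
      rwa [germ_evOn i (chartX i j) le_rfl F x hx]
    · show (X.presheaf.germ _ x hx).hom (evOn i (chartX i j) le_rfl G) ∈ _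
      rwa [germ_evOn i (chartX i j) le_rfl G x hx]
  constructor
  · rintro (⟨hm, ht⟩ | ⟨hm, he⟩) ⟨x, hx, j, hj, hF, hG, a, b, hab, hbad⟩
    swap
    · obtain ⟨y, -⟩ := hlift x j hj hF hG
      exact he.false y
    obtain ⟨V, hV, φ, hφ, ⟨Fr⟩⟩ := exists_frame_nhd i hi (m := m) x hx j hj
    have hxV : x ∈ V.1 := hφ.symm ▸ point_mem V φ
    rw [← germ_evOn i V hV F x hxV, germ_mem_iff V φ x hφ hxV] at hF
    rw [← germ_evOn i V hV G x hxV, germ_mem_iff V φ x hφ hxV] at hG
    rw [badX_point_iff i hi V hV φ _ x hφ, evOn_comb] at hbad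
    haveI : Algebra.Smooth k Γ(X, V.1) := smooth_constHom V
    have hC : SmoothOfRelativeDimension (m + 1 - 2) (Spec.map (CommRingCat.ofHom
        (algebraMap k (Γ(X, V.1) ⧸ Ideal.span (Set.range ![evOn i V hV F, evOn i V hV G]))))) := by
      have := IsZariskiLocalAtSource.comp (P := @SmoothOfRelativeDimension (m + 1 - 2)) ht (I.subschemeCover.f V)
      change SmoothOfRelativeDimension (m + 1 - 2) (_ ≫ _ ≫ _ ≫ _) at this
      rw [hi] at this
      rw [← Category.assoc, Scheme.IdealSheafData.subschemeCover_map_subschemeι,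
        Scheme.IdealSheafData.glueDataObjι_ι, Category.assoc, fromSpec_over V.2, ← Spec.map_comp,
        ← CommRingCat.ofHom_comp] at this
      rw [← secIdeal_pair i hi V hV]
      exact this
    haveI hsmC := @SmoothOfRelativeDimension.smooth (m + 1 - 2) _ _ _ hC
    haveI : Algebra.Smooth k (Γ(X, V.1) ⧸ Ideal.span (Set.range ![evOn i V hV F, evOn i V hV G])) :=
      RingHom.smooth_algebraMap.mp ((HasRingHomProperty.Spec_iff (P := @Smooth)).mp hsmC)
    exact not_rank_of_dependent Fr φ hF hG hab hbad (m + 1 - 2) (by omega) fun p =>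
      FormBertini12.rankAtStalk_kaehler_of_locally (m + 1 - 2)
        ((HasRingHomProperty.Spec_iff (P := @SmoothOfRelativeDimension (m + 1 - 2))).mp hC) p
  · intro hnb
    haveI : JacobsonSpace X := LocallyOfFiniteType.jacobsonSpace (X ↘ Spec (CommRingCat.of k))
    by_cases hm : 2 ≤ m + 1
    swap
    · refine Or.inr ⟨by omega, ⟨fun y => ?_⟩⟩
      haveI : LocallyOfFiniteType (LefPen.secToSpec i ({F, G} : Set (LefPen.Form r k d))) := by
        show LocallyOfFiniteType (_ ≫ _ ≫ _)
        rw [hi]; infer_instance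
      haveI : JacobsonSpace (LefPen.Sec i ({F, G} : Set (LefPen.Form r k d))) :=
        LocallyOfFiniteType.jacobsonSpace (LefPen.secToSpec i ({F, G} : Set (LefPen.Form r k d)))
      obtain ⟨y₀, -, hy₀⟩ := nonempty_inter_closedPoints (Z := Set.univ) ⟨y, trivial⟩ isOpen_univ.isLocallyClosed
      have hx : IsClosed ({I.subschemeι y₀} : Set X) := by
        have := I.subschemeι.isClosedEmbedding.isClosedMap _ hy₀
        rwa [Set.image_singleton] at this
      obtain ⟨j, hj⟩ := exists_chart_mem i (I.subschemeι y₀)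
      obtain ⟨V, hV, φ, hφ, ⟨Fr⟩⟩ := exists_frame_nhd i hi (m := m) _ hx j hj
      have hxV : I.subschemeι y₀ ∈ V.1 := hφ.symm ▸ point_mem V φ
      have hv : ∀ h ∈ I.ideal V, φ h = 0 := fun h hh => by
        rw [← germ_mem_iff V φ _ hφ hxV]
        have h1 : (X.presheaf.germ V.1 _ hxV).hom h ∈ RingHom.ker (I.subschemeι.stalkMap y₀).hom := by
          rw [GrothLib.BlowUp.ker_stalkMap_subschemeι I y₀ V hxV]
          exact Ideal.mem_map_of_mem _ hh
        exact le_maximalIdeal (RingHom.ker_ne_top _) h1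
      have hF := hv _ (by rw [secIdeal_pair i hi V hV]; exact Ideal.subset_span ⟨0, rfl⟩)
      have hG := hv _ (by rw [secIdeal_pair i hi V hV]; exact Ideal.subset_span ⟨1, rfl⟩)
      simp only [Matrix.cons_val_zero, Matrix.cons_val_one] at hF hG
      obtain rfl : m = 0 := by omega
      let p := φ (Fr.g 0 (evOn i V hV F))
      let q := φ (Fr.g 0 (evOn i V hV G))
      obtain ⟨a, b, hab, he⟩ : ∃ a b : k, (a ≠ 0 ∨ b ≠ 0) ∧ a * p + b * q = 0 := by
        by_cases hp : p = 0
        · exact ⟨1, 0, Or.inl one_ne_zero, by simp [hp]⟩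
        · exact ⟨q, -p, Or.inr (neg_ne_zero.mpr hp), by ring⟩
      refine hnb (badBase_iff_point i hi (m := 0) V hV φ F G hF hG hab ((mem_sq_iff Fr φ _).mpr
        ⟨by rw [map_add, map_smul, map_smul, hF, hG, smul_zero, smul_zero, add_zero], fun l => ?_⟩))
      obtain rfl : l = 0 := Subsingleton.elim (α := Fin 1) _ _
      simpa [p, q] using he
    refine Or.inl ⟨hm, ?_⟩
    show SmoothOfRelativeDimension (m + 1 - 2) (_ ≫ _ ≫ _)
    rw [hi]
    let J' := {x : X // IsClosed ({x} : Set X)}
    choose j hj using fun x : J' => exists_chart_mem i x.1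
    choose V hV φ hφ Fr using fun x : J' => exists_frame_nhd i hi (m := m) x.1 x.2 (j x) (hj x)
    have hcov : ∀ x : X, ∃ p : J', x ∈ (V p).1 := by
      by_contra hcon
      push Not at hcon
      obtain ⟨x, hx⟩ := hcon
      let Z : Set X := (⋃ p : J', ((V p).1 : Set X))ᶜ
      have hZ : IsClosed Z := (isOpen_iUnion fun p => (V p).1.2).isClosed_compl
      obtain ⟨z, hzZ, hzc⟩ := nonempty_inter_closedPoints (Z := Z) ⟨x, by simpa [Z] using hx⟩ hZ.isLocallyClosed
      exact hzZ (Set.mem_iUnion.mpr ⟨⟨z, hzc⟩, by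
        have h := hφ ⟨z, hzc⟩
        exact (congrArg (· ∈ (V ⟨z, hzc⟩).1) h).mpr (point_mem _ _)⟩)
    let 𝒰 : I.subscheme.OpenCover :=
      Scheme.Cover.mkOfCovers J' (fun p => Spec (CommRingCat.of (Γ(X, (V p).1) ⧸ I.ideal (V p))))
        (fun p => I.subschemeCover.f (V p))
        (fun y => by
          obtain ⟨p, hp⟩ := hcov (I.subschemeι y)
          have : y ∈ (I.subschemeCover.f (V p)).opensRange := by
            rw [I.opensRange_subschemeCover_map (V p)]; exact hp
          obtain ⟨z, hz⟩ := this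
          exact ⟨p, z, hz⟩)
        (fun p => inferInstanceAs (IsOpenImmersion (I.subschemeCover.f (V p))))
    rw [IsZariskiLocalAtSource.iff_of_openCover (P := @SmoothOfRelativeDimension (m + 1 - 2)) 𝒰]
    intro p
    show SmoothOfRelativeDimension (m + 1 - 2)
      (I.subschemeCover.f (V p) ≫ I.subschemeι ≫ (X ↘ Spec (CommRingCat.of k)))
    rw [← Category.assoc, Scheme.IdealSheafData.subschemeCover_map_subschemeι,
      Scheme.IdealSheafData.glueDataObjι_ι, Category.assoc, fromSpec_over (V p).2, ← Spec.map_comp,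
      ← CommRingCat.ofHom_comp]
    haveI : Algebra.Smooth k Γ(X, (V p).1) := smooth_constHom (V p)
    obtain ⟨Fp⟩ := Fr p
    let f := evOn i (V p) (hV p) F
    let g := evOn i (V p) (hV p) G
    let minor : Fin (m + 1) × Fin (m + 1) → Γ(X, (V p).1) := fun q =>
      Fp.g q.1 f * Fp.g q.2 g - Fp.g q.2 f * Fp.g q.1 g
    have htop : Ideal.span (Set.range ![f, g]) ⊔ Ideal.span (Set.range minor) = ⊤ := by
      by_contra hne
      obtain ⟨M, hM, hle⟩ := Ideal.exists_le_maximal _ hne
      obtain ⟨ψ, hψ⟩ := exists_point (k := k) M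
      have hz : ∀ z ∈ M, ψ z = 0 := fun z hz => by rw [← hψ] at hz; exact hz
      have hf : ψ f = 0 := hz _ (hle (Ideal.mem_sup_left (Ideal.subset_span ⟨0, rfl⟩)))
      have hg : ψ g = 0 := hz _ (hle (Ideal.mem_sup_left (Ideal.subset_span ⟨1, rfl⟩)))
      have hmin : ∀ a c, ψ (Fp.g a f) * ψ (Fp.g c g) = ψ (Fp.g c f) * ψ (Fp.g a g) := fun a c => by
        rw [← sub_eq_zero, ← map_mul, ← map_mul, ← map_sub]
        exact hz _ (hle (Ideal.mem_sup_right (Ideal.subset_span ⟨(a, c), rfl⟩)))
      obtain ⟨a, b, hab, he⟩ : ∃ a b : k, (a ≠ 0 ∨ b ≠ 0) ∧ ∀ l, a * ψ (Fp.g l f) + b * ψ (Fp.g l g) = 0 := by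
        by_cases hp : ∀ l, ψ (Fp.g l f) = 0
        · exact ⟨1, 0, Or.inl one_ne_zero, fun l => by simp [hp l]⟩
        · push Not at hp
          obtain ⟨l₀, hl₀⟩ := hp
          exact ⟨ψ (Fp.g l₀ g), -ψ (Fp.g l₀ f), Or.inr (neg_ne_zero.mpr hl₀), fun l => by
            linear_combination (hmin l l₀) * (1 : k)⟩
      exact hnb (badBase_iff_point i hi (m := m) (V p) (hV p) ψ F G hf hg hab ((mem_sq_iff Fp ψ _).mpr
        ⟨by rw [map_add, map_smul, map_smul, hf, hg, smul_zero, smul_zero, add_zero], fun l => by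
          rw [map_add, Derivation.map_smul, Derivation.map_smul, map_add, map_smul, map_smul]
          exact he l⟩))
    obtain ⟨x, hx, y, hy, hxy⟩ := Submodule.mem_sup.mp (htop.symm ▸ (Submodule.mem_top (x := (1 : Γ(X, (V p).1)))))
    obtain ⟨c, hc⟩ := Ideal.mem_span_range_iff_exists_fun.mp hy
    let lift := fun a => (Fp.g a).liftKaehlerDifferential
    let ℓ : Fin 2 → (Ω[Γ(X, (V p).1)⁄k] →ₗ[Γ(X, (V p).1)] Γ(X, (V p).1)) :=
      ![∑ q, c q • (Fp.g q.2 g • lift q.1 - Fp.g q.1 g • lift q.2),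
        ∑ q, c q • (Fp.g q.1 f • lift q.2 - Fp.g q.2 f • lift q.1)]
    have := smooth_quotient_family (n := m + 1) (fun q => ?_) ![f, g] ℓ ?_
    · rw [← secIdeal_pair i hi (V p) (hV p)] at this
      exact this
    · exact FormBertini12.rankAtStalk_kaehler_of_locally (m + 1) ((HasRingHomProperty.Spec_iff
        (P := @SmoothOfRelativeDimension (m + 1))).mp (by
          rw [← fromSpec_over (k := k) (V p).2]
          exact IsZariskiLocalAtSource.comp (P := @SmoothOfRelativeDimension (m + 1)) inferInstance _)) q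
    · have h1 : Ideal.Quotient.mk (Ideal.span (Set.range ![f, g])) (∑ q, c q * minor q) = 1 := by
        rw [hc, ← map_one (Ideal.Quotient.mk _), Ideal.Quotient.eq]
        have : y - 1 = -x := by rw [← hxy]; ring
        rw [this]
        exact neg_mem hx
      intro a b
      fin_cases a <;> fin_cases b <;>
        simp [ℓ, lift, LinearMap.sum_apply, minor, Derivation.liftKaehlerDifferential_comp_D] at h1 ⊢ <;>
        first
        | (convert h1 using 4 <;> ring)
        | (refine Finset.sum_eq_zero fun q _ => ?_; ring)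

end GrothLib.OrdQuad12
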