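import Groth.Agent.Lib.OrdQuad12.Quad
import Groth.Agent.Lib.QuadSeries.Basic

/-!
# Quadratic parts of power series
-/

set_option autoImplicit false
set_option linter.all false
universe u

open IsLocalRing MvPowerSeries

namespace GrothLib.OrdQuad12

variable {k : Type u} [Field k] {n : ℕ}

theorem coeff_eq_zero_of_mem_pow {j : ℕ} {f : MvPowerSeries (Fin n) k}
    (hf : f ∈ maximalIdeal (MvPowerSeries (Fin n) k) ^ j) :
    ∀ e : Fin n →₀ ℕ, e.degree < j → coeff e f = 0 := by
  classical
  induction j generalizing f with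
  | zero => intro e he; omega
  | succ j ih =>
    rw [Submodule.pow_succ] at hf
    refine Submodule.mul_induction_on hf (fun a ha b hb => ?_) fun a b ha hb e he => by
      rw [map_add, ha e he, hb e he, add_zero]
    intro e he
    rw [MvPowerSeries.coeff_mul]
    refine Finset.sum_eq_zero fun p hp => ?_
    rw [Finset.HasAntidiagonal.mem_antidiagonal] at hp
    by_cases h0 : p.2 = 0
    · rw [h0, coeff_zero_eq_constantCoeff, GrothLib.QuadSeries.mem_max.mp hb, mul_zero]
    · have h1 : p.2.degree ≠ 0 := fun h => h0 ((Finsupp.degree_eq_zero_iff _).mp h)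
      have h2 : p.1.degree + p.2.degree = e.degree := by rw [← map_add, hp]
      rw [ih ha p.1 (by omega), zero_mul]

theorem mem_pow_iff {j : ℕ} {f : MvPowerSeries (Fin n) k} :
    f ∈ maximalIdeal (MvPowerSeries (Fin n) k) ^ j ↔ ∀ e : Fin n →₀ ℕ, e.degree < j → coeff e f = 0 :=
  ⟨coeff_eq_zero_of_mem_pow, GrothLib.QuadSeries.mem_max_pow⟩

theorem exists_eq_of_degree_two {e : Fin n →₀ ℕ} (he : e.degree = 2) :
    ∃ a b : Fin n, a ≤ b ∧ e = Finsupp.single a 1 + Finsupp.single b 1 := by
  classical
  obtain ⟨a, ha⟩ : ∃ a, e a ≠ 0 := by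
    by_contra h
    push Not at h
    rw [show e = 0 from Finsupp.ext h, map_zero] at he
    omega
  have hle : Finsupp.single a 1 ≤ e := by
    intro x
    by_cases hx : x = a
    · subst hx; simp; omega
    · simp [Finsupp.single_eq_of_ne hx]
  have he' : e = Finsupp.single a 1 + (e - Finsupp.single a 1) := (add_tsub_cancel_of_le hle).symm
  have hd : (e - Finsupp.single a 1).degree = 1 := by
    have := congrArg Finsupp.degree he'
    rw [map_add, Finsupp.degree_single, he] at this
    omega
  obtain ⟨b, hb⟩ := (Finsupp.sum_eq_one_iff _).mp (show (e - Finsupp.single a 1).degree = 1 from hd)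
  rw [hb] at he'
  rcases le_total a b with h | h
  · exact ⟨a, b, h, he'⟩
  · exact ⟨b, a, h, by rw [he', add_comm]⟩

theorem single_add_single_inj {a b a' b' : Fin n} (h : a ≤ b) (h' : a' ≤ b')
    (e : Finsupp.single a 1 + Finsupp.single b (1 : ℕ) = Finsupp.single a' 1 + Finsupp.single b' 1) :
    a = a' ∧ b = b' := by
  classical
  have hm := congrArg Finsupp.toMultiset e
  simp only [map_add, Finsupp.toMultiset_single, one_smul] at hm
  have h1 : a ∈ ({a'} + {b'} : Multiset (Fin n)) := hm ▸ by simp
  have h2 : a' ∈ ({a} + {b} : Multiset (Fin n)) := hm.symm ▸ by simp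
  simp at h1 h2
  have hab : a = a' := by
    rcases h1 with h1 | h1
    · exact h1
    rcases h2 with h2 | h2
    · exact h2.symm
    exact le_antisymm (h2 ▸ h) (h1 ▸ h')
  refine ⟨hab, ?_⟩
  subst hab
  simpa using hm

/-- The coefficients of the quadratic part, in triangular form. -/
noncomputable def triC (f : MvPowerSeries (Fin n) k) : Fin n → Fin n → k := fun a b =>
  if a ≤ b then coeff (Finsupp.single a 1 + Finsupp.single b 1) f else 0

/-- The homogeneous polynomial with given coefficients. -/
noncomputable def quadPoly (c : Fin n → Fin n → k) : MvPolynomial (Fin n) k :=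
  ∑ a, ∑ b, MvPolynomial.C (c a b) * MvPolynomial.X a * MvPolynomial.X b

theorem quadPoly_mem (c : Fin n → Fin n → k) : (quadPoly c).IsHomogeneous 2 := by
  refine MvPolynomial.IsHomogeneous.sum _ _ _ fun a _ => MvPolynomial.IsHomogeneous.sum _ _ _ fun b _ => ?_
  have := ((MvPolynomial.isHomogeneous_C (Fin n) (c a b)).mul (MvPolynomial.isHomogeneous_X k a)).mul
    (MvPolynomial.isHomogeneous_X k b)
  simpa using this

theorem eval_quadPoly (c : Fin n → Fin n → k) (v : Fin n → k) : MvPolynomial.eval v (quadPoly c) = qf c v := by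
  simp [quadPoly, qf]

theorem coeff_quadPoly_triC (f : MvPowerSeries (Fin n) k) {e : Fin n →₀ ℕ} (he : e.degree = 2) :
    MvPolynomial.coeff e (quadPoly (triC f)) = coeff e f := by
  classical
  obtain ⟨a, b, hab, rfl⟩ := exists_eq_of_degree_two he
  simp only [quadPoly, MvPolynomial.coeff_sum, mul_assoc, MvPolynomial.coeff_C_mul]
  have hX : ∀ x y : Fin n, (MvPolynomial.X x * MvPolynomial.X y : MvPolynomial (Fin n) k) =
      MvPolynomial.monomial (Finsupp.single x 1 + Finsupp.single y 1) 1 := fun x y => by
    simp [MvPolynomial.X, MvPolynomial.monomial_mul]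
  simp only [hX, MvPolynomial.coeff_monomial]
  rw [Finset.sum_eq_single a, Finset.sum_eq_single b]
  · simp [triC, hab]
  · intro y _ hy
    by_cases hay : a ≤ y
    · rw [if_neg fun e => hy (single_add_single_inj hay hab e).2, mul_zero]
    · simp [triC, hay]
  · simp
  · intro x _ hx
    refine Finset.sum_eq_zero fun y _ => ?_
    by_cases hxy : x ≤ y
    · rw [if_neg fun e => hx (single_add_single_inj hxy hab e).1, mul_zero]
    · simp [triC, hxy]
  · simp

theorem coe_quadPoly (c : Fin n → Fin n → k) :
    ((quadPoly c : MvPolynomial (Fin n) k) : MvPowerSeries (Fin n) k) =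
      ∑ a, ∑ b, algebraMap k (MvPowerSeries (Fin n) k) (c a b) * X a * X b := by
  show MvPolynomial.coeToMvPowerSeries.ringHom (quadPoly c) = _
  simp [quadPoly, map_sum, map_mul, MvPowerSeries.c_eq_algebraMap]

/-- A series with a double zero is its quadratic part up to higher order. -/
theorem sub_quad_mem {f : MvPowerSeries (Fin n) k} (hf : f ∈ maximalIdeal (MvPowerSeries (Fin n) k) ^ 2) :
    f - ∑ a, ∑ b, algebraMap k (MvPowerSeries (Fin n) k) (triC f a b) * X a * X b ∈
      maximalIdeal (MvPowerSeries (Fin n) k) ^ 3 := by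
  rw [← coe_quadPoly, mem_pow_iff]
  intro e he
  rw [map_sub, MvPolynomial.coeff_coe, sub_eq_zero]
  rcases Nat.lt_or_ge e.degree 2 with h | h
  · rw [mem_pow_iff.mp hf e h, eq_comm]
    by_contra hne
    have := quadPoly_mem (triC f) hne
    rw [Finsupp.degree_eq_weight_one] at h
    have h2 : Finsupp.weight (fun _ : Fin n => (1 : ℕ)) e = 2 := this
    omega
  · exact (coeff_quadPoly_triC f (by omega)).symm

/-- A quadratic form is determined modulo higher order. -/
theorem quadPoly_eq_of_sub_mem {c d : Fin n → Fin n → k} (t : k)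
    (h : ∑ a, ∑ b, algebraMap k (MvPowerSeries (Fin n) k) (d a b) * X a * X b -
      algebraMap k (MvPowerSeries (Fin n) k) t * ∑ a, ∑ b, algebraMap k (MvPowerSeries (Fin n) k) (c a b) * X a * X b ∈
      maximalIdeal (MvPowerSeries (Fin n) k) ^ 3) : quadPoly d = MvPolynomial.C t * quadPoly c := by
  rw [← coe_quadPoly, ← coe_quadPoly, mem_pow_iff] at h
  have e : quadPoly d = MvPolynomial.C t * quadPoly c := by
    ext e
    rw [MvPolynomial.coeff_C_mul]
    by_cases he : e.degree = 2
    · have := h e (by omega)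
      rw [map_sub, ← c_eq_algebraMap, MvPowerSeries.coeff_C_mul, MvPolynomial.coeff_coe, MvPolynomial.coeff_coe,
        sub_eq_zero] at this
      exact this
    · have h1 : ∀ c' : Fin n → Fin n → k, MvPolynomial.coeff e (quadPoly c') = 0 := fun c' =>
        (quadPoly_mem c').coeff_eq_zero he
      rw [h1, h1, mul_zero]
  exact e

/-- A quadratic form vanishing to higher order vanishes. -/
theorem qf_eq_of_sub_mem {c d : Fin n → Fin n → k} (t : k)
    (h : ∑ a, ∑ b, algebraMap k (MvPowerSeries (Fin n) k) (d a b) * X a * X b -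
      algebraMap k (MvPowerSeries (Fin n) k) t * ∑ a, ∑ b, algebraMap k (MvPowerSeries (Fin n) k) (c a b) * X a * X b ∈
      maximalIdeal (MvPowerSeries (Fin n) k) ^ 3) (v : Fin n → k) : qf d v = t * qf c v := by
  rw [← eval_quadPoly, quadPoly_eq_of_sub_mem t h, map_mul, MvPolynomial.eval_C, eval_quadPoly]

end GrothLib.OrdQuad12
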