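import Groth.Agent.Lib.OrdQuad12.Degen
import Groth.Agent.Lib.OrdQuad12.Series
import Groth.Agent.Lib.SecSeries.SmoothSection
import Groth.Agent.Lib.ComplAlg.Main

/-!
# Nondegenerate double zeros and completed local rings of hypersurface sections
-/

set_option autoImplicit false
set_option linter.all false
set_option maxHeartbeats 1000000
universe u

open TensorProduct IsLocalRing

noncomputable section

namespace GrothLib.OrdQuad12

open GrothLib.DualVar12 (pk pk_isMaximal)

variable {k : Type u} [Field k] {B : Type u} [CommRing B] [Algebra k B] {n : ℕ}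
variable (F : Frame k B n) (φ : B →ₐ[k] k)

local notation "P" => MvPowerSeries (Fin n) k

theorem lin_sum_C (v r : Fin n → k) (w : Fin n → B) :
    lin F φ v (∑ a, algebraMap k B (r a) * w a) = ∑ a, r a * lin F φ v (w a) := by
  have hadd : ∀ x y : B, lin F φ v (x + y) = lin F φ v x + lin F φ v y := fun x y => by
    simp [lin, mul_add, Finset.sum_add_distrib]
  let f : B →+ k := AddMonoidHom.mk' (lin F φ v) hadd
  show f _ = _
  rw [map_sum]
  refine Finset.sum_congr rfl fun a _ => ?_
  show lin F φ v _ = _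
  rw [lin_mul, AlgHom.commutes]
  simp [lin]

theorem lin_eq_zero_of_sq (v : Fin n → k) {x : B} (hx : x ∈ pk φ ^ 2) : lin F φ v x = 0 := by
  simp [lin, deriv_apply_eq_zero F φ _ hx]

/-- The cotangent space in the coordinates of a frame. -/
def cotEquiv : (RingHom.ker φ.toRingHom).Cotangent ≃ₗ[k] (Fin n → k) := by
  let f : (Fin n → k) →ₗ[k] (pk φ).Cotangent :=
    Fintype.linearCombination k fun a => (pk φ).toCotangent ⟨uc F φ a, sub_mem_pk φ _⟩
  have hf : ∀ r, f r = (pk φ).toCotangent ⟨∑ a, algebraMap k B (r a) * uc F φ a,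
      sum_mem fun a _ => Ideal.mul_mem_left _ _ (sub_mem_pk φ _)⟩ := fun r => by
    rw [show (⟨∑ a, algebraMap k B (r a) * uc F φ a, sum_mem fun a _ => Ideal.mul_mem_left _ _ (sub_mem_pk φ _)⟩ : pk φ) =
      ∑ a, algebraMap k B (r a) • (⟨uc F φ a, sub_mem_pk φ _⟩ : pk φ) from Subtype.ext (by
        simp [AddSubmonoidClass.coe_finsetSum, Algebra.smul_def]), map_sum]
    simp only [f, Fintype.linearCombination_apply, map_smul, algebraMap_smul, LinearMap.map_smul_of_tower]
  refine (LinearEquiv.ofBijective f ⟨(injective_iff_map_eq_zero f).2 fun r hr => ?_, fun z => ?_⟩).symm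
  · rw [hf, Ideal.toCotangent_eq_zero] at hr
    funext i
    have := lin_eq_zero_of_sq F φ (Pi.single i 1) hr
    rw [lin_sum_C] at this
    simpa [lin_uc, Pi.single_apply] using this
  · obtain ⟨⟨y, hy⟩, rfl⟩ := (pk φ).toCotangent_surjective z
    refine ⟨fun a => φ (F.g a y), ?_⟩
    rw [hf, Ideal.toCotangent_eq]
    simpa using neg_mem (lin_expand F φ hy)

theorem maximal_map_eq {S : Type u} [CommRing S] [IsLocalRing S] (f : B →+* S) {T : Type u} [CommRing T]
    (g : B →+* T) (e : T ≃+* S) (hfg : ∀ b, e (g b) = f b) (p : Ideal B) (hmax : (p.map g).IsMaximal) :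
    p.map f = maximalIdeal S := by
  have h : p.map f = (p.map g).map e.toRingHom := by
    rw [Ideal.map_map]
    congr 1
    exact RingHom.ext fun b => (hfg b).symm
  rw [h]
  haveI := hmax
  exact IsLocalRing.eq_maximalIdeal (Ideal.map_isMaximal_of_equiv e)

theorem isMaximal_map_completion [IsNoetherianRing B] :
    ((pk φ).map (algebraMap B (AdicCompletion (pk φ) B))).IsMaximal := by
  haveI := pk_isMaximal φ
  rw [← AdicCompletion.ker_evalOneₐ_eq_map (pk φ) (IsNoetherian.noetherian _)]
  letI := Ideal.Quotient.field (pk φ)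
  refine RingHom.ker_isMaximal_of_surjective _ fun x => ?_
  obtain ⟨b, rfl⟩ := Ideal.Quotient.mk_surjective x
  exact ⟨algebraMap B _ b, by
    show AdicCompletion.evalOneₐ (pk φ) _ = _
    rw [AlgHom.commutes]; rfl⟩

include F in
/-- The power series presentation of the completion at a point. -/
theorem exists_presentation [Algebra.FormallySmooth k B] [IsNoetherianRing B] :
    ∃ ι0 : B →ₐ[k] P, (∀ (j : ℕ) (b : B), ι0 b ∈ maximalIdeal P ^ j ↔ b ∈ pk φ ^ j) ∧
      (∀ (j : ℕ) (f : P), ∃ b : B, f - ι0 b ∈ maximalIdeal P ^ j) ∧ (pk φ).map ι0 = maximalIdeal P := by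
  obtain ⟨η⟩ := GrothLib.SecSeries.MvLevels.nonempty_equiv_of_smooth φ (cotEquiv F φ)
  let ι0 : B →ₐ[k] P := η.toAlgHom.comp (IsScalarTower.toAlgHom k B (AdicCompletion (pk φ) B))
  have hmap : (pk φ).map ι0.toRingHom = maximalIdeal P :=
    maximal_map_eq (S := P) ι0.toRingHom (algebraMap B _) η.toRingEquiv (fun b => rfl) _ (isMaximal_map_completion φ)
  have hfc := GrothLib.ComplAlg.isFormalCompl_adicCompletion (pk φ)
  have hpow : ∀ j, ((pk φ ^ j).map (algebraMap B (AdicCompletion (pk φ) B))).map η.toRingEquiv.toRingHom =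
      maximalIdeal P ^ j := fun j => by
    rw [Ideal.map_pow, Ideal.map_pow, Ideal.map_map]
    exact congrArg (· ^ j) hmap
  refine ⟨ι0, fun j b => ⟨fun hb => hfc.inj j b ?_, fun hb => ?_⟩, fun j f => ?_, hmap⟩
  · have := Ideal.mem_map_of_mem η.symm.toRingEquiv.toRingHom hb
    rw [← hpow, Ideal.map_map] at this
    have e : η.symm.toRingEquiv.toRingHom.comp η.toRingEquiv.toRingHom = RingHom.id _ :=
      RingHom.ext η.symm_apply_apply
    rw [e, Ideal.map_id] at this
    show algebraMap B _ b ∈ _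
    exact (congrArg (· ∈ _) (η.symm_apply_apply _)).mp this
  · rw [← hpow]
    exact Ideal.mem_map_of_mem η.toRingEquiv.toRingHom (Ideal.mem_map_of_mem _ hb)
  · obtain ⟨b, hb⟩ := hfc.surj j (η.symm f)
    refine ⟨b, ?_⟩
    rw [← hpow]
    have := Ideal.mem_map_of_mem η.toRingEquiv.toRingHom hb
    rw [map_sub] at this
    exact (congrArg (fun z => z - ι0 b ∈ _) (η.apply_symm_apply f)).mp this

/-- Elements with prescribed linear parts form coordinates. -/
theorem bijective_lin (w : Fin n → B)
    (hspan : ∀ b ∈ pk φ, ∃ r : Fin n → k, b - ∑ a, algebraMap k B (r a) * w a ∈ pk φ ^ 2) :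
    Function.Bijective fun v : Fin n → k => fun a => lin F φ v (w a) := by
  let T : (Fin n → k) →ₗ[k] (Fin n → k) :=
    { toFun := fun v a => lin F φ v (w a)
      map_add' := fun v v' => by funext a; simp [lin_add]
      map_smul' := fun t v => by funext a; simp [lin, Finset.mul_sum, mul_assoc] }
  have hinj : Function.Injective T := (injective_iff_map_eq_zero T).2 fun v hv => by
    funext i
    obtain ⟨r, hr⟩ := hspan _ (sub_mem_pk φ (F.u i))
    have h1 := lin_eq_zero_of_sq F φ v hr
    have hsub : ∀ x y : B, lin F φ v (x - y) = lin F φ v x - lin F φ v y := fun x y => by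
      simp [lin, mul_sub, Finset.sum_sub_distrib]
    rw [hsub, lin_sum_C, Finset.sum_eq_zero (fun a _ => by
      rw [show lin F φ v (w a) = 0 from congrFun hv a, mul_zero]), sub_zero, lin_uc] at h1
    exact h1
  exact ⟨hinj, LinearMap.injective_iff_surjective.mp hinj⟩

section Criterion

variable {R : Type u} [CommRing R] [IsLocalRing R] [IsNoetherianRing R] (ι : B →+* R) (h : B)
  (hι0 : ι h = 0) (hιp : (pk φ).map ι = maximalIdeal R)
  (hsurj : ∀ (j : ℕ) (x : R), ∃ b, x - ι b ∈ maximalIdeal R ^ j)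
  (hker : ∀ (j : ℕ) (b : B), ι b ∈ maximalIdeal R ^ j → b ∈ Ideal.span {h} ⊔ pk φ ^ j)

include F hι0 hιp hsurj hker in
/-- A nondegenerate double zero gives an ordinary quadratic singularity. -/
theorem exists_series_of_nondeg [Algebra.FormallySmooth k B] [IsNoetherianRing B] (hh : NondegAt (pk φ) h) :
    ∃ (Q : P) (e : AdicCompletion (maximalIdeal R) R ≃+* P ⧸ Ideal.span {Q}),
      (∀ r : k, e (algebraMap R _ (ι (algebraMap k B r))) = Ideal.Quotient.mk _ (MvPowerSeries.C r)) ∧
      Q ∈ maximalIdeal P ^ 2 ∧ ¬ DegQ (triC Q) := by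
  classical
  haveI := pk_isMaximal φ
  obtain ⟨ι0, hmem, hsur, hmap⟩ := exists_presentation F φ
  let Q : P := ι0 h
  have hQ2 : Q ∈ maximalIdeal P ^ 2 := (hmem 2 h).mpr hh.1
  have hndq : ¬ DegQ (triC Q) := by
    choose w hw using fun a : Fin n => hsur 3 (MvPowerSeries.X a)
    have hwp : ∀ a, w a ∈ pk φ := fun a => by
      have h1 : ι0 (w a) ∈ maximalIdeal P ^ 1 := by
        rw [pow_one]
        have hX : (MvPowerSeries.X a : P) ∈ maximalIdeal P :=
          GrothLib.QuadSeries.mem_max.mpr (MvPowerSeries.constantCoeff_X a)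
        simpa using sub_mem hX (Ideal.pow_le_self three_ne_zero (hw a))
      simpa using (hmem 1 _).mp h1
    have hbij := bijective_lin F φ w fun b hb => by
      have hb1 : MvPowerSeries.constantCoeff (ι0 b) = 0 := GrothLib.QuadSeries.mem_max.mp
        (by simpa using (hmem 1 b).mpr (by simpa using hb))
      refine ⟨fun a => MvPowerSeries.coeff (Finsupp.single a 1) (ι0 b), (hmem 2 _).mp ?_⟩
      have h2 := GrothLib.QuadSeries.sub_linear_mem_sq hb1
      have h3 : ∑ a, MvPowerSeries.C (MvPowerSeries.coeff (Finsupp.single a 1) (ι0 b)) *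
          (MvPowerSeries.X a - ι0 (w a)) ∈ maximalIdeal P ^ 2 :=
        sum_mem fun a _ => Ideal.mul_mem_left _ _ (Ideal.pow_le_pow_right (by norm_num) (hw a))
      convert add_mem h2 h3 using 1
      simp [map_sum, mul_sub, Finset.sum_sub_distrib, MvPowerSeries.c_eq_algebraMap, -MvPowerSeries.algebraMap_apply]
    refine fun hd => hh.2 ((degen_iff F φ w hwp hbij (triC Q) ((hmem 3 _).mp ?_)).mpr hd)
    have h1 := sub_quad_mem hQ2
    have h2 : ∑ a, ∑ b, algebraMap k P (triC Q a b) * (MvPowerSeries.X a * MvPowerSeries.X b - ι0 (w a) * ι0 (w b)) ∈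
        maximalIdeal P ^ 3 := sum_mem fun a _ => sum_mem fun b _ => Ideal.mul_mem_left _ _ (by
      rw [show (MvPowerSeries.X a : P) * MvPowerSeries.X b - ι0 (w a) * ι0 (w b) =
        (MvPowerSeries.X a - ι0 (w a)) * MvPowerSeries.X b + ι0 (w a) * (MvPowerSeries.X b - ι0 (w b)) by ring]
      exact add_mem (Ideal.mul_mem_right _ _ (hw a)) (Ideal.mul_mem_left _ _ (hw b)))
    convert add_mem h1 h2 using 1
    simp [Q, map_sum, mul_sub, Finset.sum_sub_distrib, mul_assoc, -MvPowerSeries.algebraMap_apply]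
  have hQ1 : Ideal.span {Q} ≤ maximalIdeal P :=
    (Ideal.span_singleton_le_iff_mem _).mpr (Ideal.pow_le_self two_ne_zero hQ2)
  haveI : Nontrivial (P ⧸ Ideal.span {Q}) :=
    Ideal.Quotient.nontrivial_iff.mpr (ne_top_of_le_ne_top (maximalIdeal.isMaximal P).ne_top hQ1)
  let S := P ⧸ Ideal.span {Q}
  haveI : IsLocalRing S := IsLocalRing.of_surjective' (Ideal.Quotient.mk _) Ideal.Quotient.mk_surjective
  let C := B ⧸ Ideal.span {h}
  let J : Ideal C := (pk φ).map (Ideal.Quotient.mk _)
  let ψ : C →+* S := Ideal.quotientMap _ ι0.toRingHom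
    (show Ideal.span {h} ≤ (Ideal.span {Q}).comap ι0.toRingHom from
      (Ideal.span_singleton_le_iff_mem _).mpr (Ideal.mem_span_singleton_self Q))
  have hJψ : ∀ j, (J ^ j).map ψ = (maximalIdeal P ^ j).map (Ideal.Quotient.mk (Ideal.span {Q})) := fun j => by
    rw [Ideal.map_pow, Ideal.map_pow, Ideal.map_map, show ψ.comp (Ideal.Quotient.mk _) =
      (Ideal.Quotient.mk (Ideal.span {Q})).comp ι0.toRingHom from RingHom.ext fun b => rfl, ← Ideal.map_map]
    exact congrArg (fun I => (Ideal.map (Ideal.Quotient.mk _) I) ^ j) hmap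
  have hmS : (maximalIdeal P).map (Ideal.Quotient.mk (Ideal.span {Q})) = maximalIdeal S := by
    haveI := IsLocalRing.maximalIdeal.isMaximal P
    exact IsLocalRing.eq_maximalIdeal (Ideal.IsMaximal.map_of_surjective_of_ker_le Ideal.Quotient.mk_surjective
      (by rwa [Ideal.mk_ker]))
  obtain ⟨eS, heS⟩ := GrothLib.ComplAlg.exists_equiv_adicCompletion ψ J
    (fun j c => by
      obtain ⟨f, rfl⟩ := Ideal.Quotient.mk_surjective c
      obtain ⟨b, hb⟩ := hsur j f
      refine ⟨Ideal.Quotient.mk _ b, ?_⟩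
      rw [hJψ]
      have := Ideal.mem_map_of_mem (Ideal.Quotient.mk (Ideal.span {Q})) hb
      rw [map_sub] at this
      exact this)
    (fun j d hd => by
      obtain ⟨b, rfl⟩ := Ideal.Quotient.mk_surjective d
      rw [hJψ, Ideal.mem_map_iff_of_surjective _ Ideal.Quotient.mk_surjective] at hd
      obtain ⟨f, hf, hfb⟩ := hd
      obtain ⟨c, hc⟩ := Ideal.mem_span_singleton'.mp (Ideal.Quotient.eq.mp (hfb.trans (show ψ _ =
        Ideal.Quotient.mk _ (ι0 b) from rfl)))
      obtain ⟨c', hc'⟩ := hsur j c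
      have : b + c' * h ∈ pk φ ^ j := by
        rw [← hmem]
        have h1 := sub_mem hf (Ideal.mul_mem_right Q _ hc')
        convert h1 using 1
        simp only [map_add, map_mul, Q] at hc ⊢
        linear_combination hc
      rw [← Ideal.map_pow]
      refine (congrArg (· ∈ _) ?_).mp (Ideal.mem_map_of_mem (Ideal.Quotient.mk (Ideal.span {h})) this)
      rw [map_add, map_mul, Ideal.Quotient.eq_zero_iff_mem.mpr (Ideal.mem_span_singleton_self h), mul_zero, add_zero])
    (fun c hc => by
      have : c ∈ ⨅ j : ℕ, maximalIdeal S ^ j := Ideal.mem_iInf.mpr fun j => by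
        have := hc j
        rwa [hJψ, Ideal.map_pow, hmS] at this
      rwa [Ideal.iInf_pow_eq_bot_of_isLocalRing _ (maximalIdeal.isMaximal S).ne_top] at this)
    (fun x hx => by
      choose y hy using fun j => Ideal.Quotient.mk_surjective (x j)
      have hstep : ∀ j, ∃ t ∈ maximalIdeal P ^ j, Ideal.Quotient.mk (Ideal.span {Q}) t = x (j + 1) - x j := fun j => by
        have := hx j
        rwa [hJψ, Ideal.mem_map_iff_of_surjective _ Ideal.Quotient.mk_surjective] at this
      choose t ht htx using hstep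
      let z : ℕ → P := fun j => y 0 + ∑ l ∈ Finset.range j, t l
      have hz : ∀ j, Ideal.Quotient.mk (Ideal.span {Q}) (z j) = x j := fun j => by
        induction j with
        | zero => simp [z, hy]
        | succ j ih =>
          rw [show z (j + 1) = z j + t j by simp [z, Finset.sum_range_succ, add_assoc], map_add, ih, htx]
          ring
      obtain ⟨L, hL⟩ := IsPrecomplete.prec (IsAdicComplete.toIsPrecomplete (I := maximalIdeal P) (M := P))
        (f := z) fun {a b} hab => by
          rw [SModEq.sub_mem, smul_eq_mul, Ideal.mul_top]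
          induction b, hab using Nat.le_induction with
          | base => simp
          | succ b hab ih =>
            rw [show z a - z (b + 1) = (z a - z b) - t b by simp [z, Finset.sum_range_succ]; ring]
            exact sub_mem ih (Ideal.pow_le_pow_right hab (ht b))
      refine ⟨Ideal.Quotient.mk _ L, fun j => ?_⟩
      rw [hJψ, ← hz j, ← map_sub]
      have := hL j
      rw [SModEq.sub_mem, smul_eq_mul, Ideal.mul_top] at this
      exact Ideal.mem_map_of_mem _ this)
  let R' := AdicCompletion (maximalIdeal R) R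
  haveI : IsAdicComplete ((maximalIdeal R).map (algebraMap R R')) R' :=
    AdicCompletion.isAdicComplete_self _ (IsNoetherian.noetherian _)
  let ψR : C →+* R' := (algebraMap R R').comp (Ideal.Quotient.lift _ ι fun x hx => by
    obtain ⟨c, rfl⟩ := Ideal.mem_span_singleton'.mp hx
    rw [map_mul, hι0, mul_zero])
  have hJR : ∀ j, (J ^ j).map ψR = (maximalIdeal R ^ j).map (algebraMap R R') := fun j => by
    rw [Ideal.map_pow, Ideal.map_pow, Ideal.map_map, show ψR.comp (Ideal.Quotient.mk _) =
      (algebraMap R R').comp ι from RingHom.ext fun b => rfl, ← Ideal.map_map, hιp]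
  have hfc := GrothLib.ComplAlg.isFormalCompl_adicCompletion (maximalIdeal R)
  obtain ⟨eR, heR⟩ := GrothLib.ComplAlg.exists_equiv_adicCompletion ψR J
    (fun j c => by
      obtain ⟨x, hx⟩ := hfc.surj j c
      obtain ⟨b, hb⟩ := hsurj j x
      refine ⟨Ideal.Quotient.mk _ b, ?_⟩
      rw [hJR]
      have := add_mem hx (Ideal.mem_map_of_mem (algebraMap R R') hb)
      convert this using 1
      simp [ψR, R', Ideal.Quotient.lift_mk]
      rfl)
    (fun j d hd => by
      obtain ⟨b, rfl⟩ := Ideal.Quotient.mk_surjective d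
      rw [hJR] at hd
      have h1 := hker j b (hfc.inj j _ hd)
      rw [← Ideal.map_pow]
      have := Ideal.mem_map_of_mem (Ideal.Quotient.mk (Ideal.span {h})) h1
      rwa [Ideal.map_sup, Ideal.map_quotient_self, bot_sup_eq] at this)
    (fun c hc => IsHausdorff.haus (I := (maximalIdeal R).map (algebraMap R R')) inferInstance c fun j => by
      rw [SModEq.sub_mem, sub_zero, smul_eq_mul, Ideal.mul_top, ← Ideal.map_pow, ← hJR]
      exact hc j)
    (fun x hx => by
      obtain ⟨L, hL⟩ := IsPrecomplete.prec (IsAdicComplete.toIsPrecomplete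
        (I := (maximalIdeal R).map (algebraMap R R')) (M := R')) (f := x) fun {a b} hab => by
          rw [SModEq.sub_mem, smul_eq_mul, Ideal.mul_top]
          induction b, hab using Nat.le_induction with
          | base => simp
          | succ b hab ih =>
            rw [show x a - x (b + 1) = (x a - x b) - (x (b + 1) - x b) by ring]
            refine sub_mem ih (Ideal.pow_le_pow_right hab ?_)
            rw [← Ideal.map_pow, ← hJR]
            exact hx b
      refine ⟨L, fun j => ?_⟩
      have := hL j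
      rw [SModEq.sub_mem, smul_eq_mul, Ideal.mul_top, ← Ideal.map_pow, ← hJR] at this
      exact this)
  refine ⟨Q, eR.trans eS.symm, fun r => ?_, hQ2, hndq⟩
  show eS.symm (eR (ψR (Ideal.Quotient.mk _ (algebraMap k B r)))) = _
  rw [heR, RingEquiv.symm_apply_eq, MvPowerSeries.c_eq_algebraMap, show algebraMap k P r = ι0 (algebraMap k B r) from
    (ι0.commutes r).symm]
  exact (heS _).symm

include F hker in
/-- An ordinary quadratic singularity comes from a nondegenerate double zero. -/
theorem nondeg_of_series [Algebra.FormallySmooth k B] (hn : 1 ≤ n) (hh : h ∈ pk φ)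
    (hsurj' : ∀ (j : ℕ) (x : R), ∃ b, x - ι b ∈ maximalIdeal R ^ j)
    (hmemp : ∀ b ∈ pk φ, ι b ∈ maximalIdeal R) (hιh : ι h = 0)
    (Q : P) (e : AdicCompletion (maximalIdeal R) R ≃+* P ⧸ Ideal.span {Q})
    (he : ∀ r : k, e (algebraMap R _ (ι (algebraMap k B r))) = Ideal.Quotient.mk _ (MvPowerSeries.C r))
    (hQ2 : Q ∈ maximalIdeal P ^ 2) (hQ : ¬ DegQ (triC Q)) : NondegAt (pk φ) h := by
  classical
  let R' := AdicCompletion (maximalIdeal R) R
  let ψ0 : B →+* P ⧸ Ideal.span {Q} := (e.toRingHom.comp (algebraMap R R')).comp ι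
  let mk := Ideal.Quotient.mk (Ideal.span {Q})
  have hfc := GrothLib.ComplAlg.isFormalCompl_adicCompletion (maximalIdeal R)
  haveI : Nontrivial (P ⧸ Ideal.span {Q}) := Ideal.Quotient.nontrivial_iff.mpr (ne_top_of_le_ne_top
    (maximalIdeal.isMaximal P).ne_top ((Ideal.span_singleton_le_iff_mem _).mpr (Ideal.pow_le_self two_ne_zero hQ2)))
  haveI : IsLocalRing (P ⧸ Ideal.span {Q}) := IsLocalRing.of_surjective' mk Ideal.Quotient.mk_surjective
  have hmS : (maximalIdeal R).map (e.toRingHom.comp (algebraMap R R')) = (maximalIdeal P).map mk := by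
    have h2 : (maximalIdeal P).map mk = maximalIdeal _ :=
      IsLocalRing.eq_maximalIdeal (Ideal.IsMaximal.map_of_surjective_of_ker_le (f := mk) Ideal.Quotient.mk_surjective
        (by rw [Ideal.mk_ker]; exact (Ideal.span_singleton_le_iff_mem _).mpr (Ideal.pow_le_self two_ne_zero hQ2)))
    have h1 : ((maximalIdeal R).map (algebraMap R R')).IsMaximal := by
      rw [← AdicCompletion.ker_evalOneₐ_eq_map _ (IsNoetherian.noetherian _)]
      letI := Ideal.Quotient.field (maximalIdeal R)
      refine RingHom.ker_isMaximal_of_surjective _ fun x => ?_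
      obtain ⟨b, rfl⟩ := Ideal.Quotient.mk_surjective x
      exact ⟨algebraMap R _ b, by
        show AdicCompletion.evalOneₐ _ _ = _
        rw [AlgHom.commutes]; rfl⟩
    rw [h2, ← Ideal.map_map]
    exact IsLocalRing.eq_maximalIdeal (Ideal.map_isMaximal_of_equiv e)
  have hmem : ∀ (j : ℕ) (b : B), ψ0 b ∈ (maximalIdeal P ^ j).map mk → b ∈ Ideal.span {h} ⊔ pk φ ^ j := by
    intro j b hb
    refine hker j b (hfc.inj j _ ?_)
    rw [Ideal.map_pow, ← hmS, ← Ideal.map_pow, ← Ideal.map_map] at hb
    obtain ⟨z, hz, hze⟩ := (Ideal.mem_map_iff_of_surjective e.toRingHom e.surjective).mp hb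
    have : z = algebraMap R R' (ι b) := e.injective hze
    rwa [this] at hz
  have hmem' : ∀ (j : ℕ), ∀ b ∈ pk φ ^ j, ψ0 b ∈ (maximalIdeal P ^ j).map mk := by
    intro j b hb
    rw [Ideal.map_pow, ← hmS]
    refine Ideal.pow_right_mono ?_ j (Ideal.map_pow ψ0 (pk φ) j ▸ Ideal.mem_map_of_mem ψ0 hb)
    rw [← Ideal.map_map]
    exact Ideal.map_mono (Ideal.map_le_iff_le_comap.mpr hmemp)
  have hsur : ∀ (j : ℕ) (f : P), ∃ b, mk f - ψ0 b ∈ (maximalIdeal P ^ j).map mk := by
    intro j f
    obtain ⟨x, hx⟩ := hfc.surj j (e.symm (mk f))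
    obtain ⟨b, hb⟩ := hsurj' j x
    refine ⟨b, ?_⟩
    rw [Ideal.map_pow, ← hmS, ← Ideal.map_pow, ← Ideal.map_map]
    have h1 := Ideal.mem_map_of_mem e.toRingHom (add_mem hx (Ideal.mem_map_of_mem (algebraMap R R') hb))
    convert h1 using 1
    simp [ψ0, R']
  have hC : ∀ r : k, ψ0 (algebraMap k B r) = mk (MvPowerSeries.C r) := he
  choose w hw using fun a : Fin n => hsur 3 (MvPowerSeries.X a)
  have hX : ∀ a, (MvPowerSeries.X a : P) ∈ maximalIdeal P :=
    fun a => GrothLib.QuadSeries.mem_max.mpr (MvPowerSeries.constantCoeff_X a)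
  have hwp : ∀ a, w a ∈ pk φ := fun a => by
    have h1 : ψ0 (w a) ∈ (maximalIdeal P ^ 1).map mk := by
      rw [pow_one]
      simpa using sub_mem (Ideal.mem_map_of_mem mk (hX a)) (Ideal.map_mono (Ideal.pow_le_self three_ne_zero) (hw a))
    have := hmem 1 _ h1
    rw [pow_one] at this
    exact (sup_le ((Ideal.span_singleton_le_iff_mem _).mpr hh) le_rfl) this
  have hindep : ∀ r : Fin n → k, ψ0 (∑ a, algebraMap k B (r a) * w a) ∈ (maximalIdeal P ^ 2).map mk → r = 0 := by
    intro r hr
    have h1 : mk (∑ a, MvPowerSeries.C (r a) * MvPowerSeries.X a) ∈ (maximalIdeal P ^ 2).map mk := by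
      have h2 : ∑ a, mk (MvPowerSeries.C (r a)) * (mk (MvPowerSeries.X a) - ψ0 (w a)) ∈ (maximalIdeal P ^ 2).map mk :=
        sum_mem fun a _ => Ideal.mul_mem_left _ _ (Ideal.map_mono (Ideal.pow_le_pow_right (by norm_num)) (hw a))
      convert add_mem hr h2 using 1
      simp [map_sum, map_mul, hC, mul_sub, Finset.sum_sub_distrib]
    rw [Ideal.mem_map_iff_of_surjective _ Ideal.Quotient.mk_surjective] at h1
    obtain ⟨f, hf, hfe⟩ := h1
    obtain ⟨c, hc⟩ := Ideal.mem_span_singleton'.mp (Ideal.Quotient.eq.mp hfe.symm)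
    have h3 : ∑ a, MvPowerSeries.C (r a) * MvPowerSeries.X a ∈ maximalIdeal P ^ 2 := by
      have := add_mem hf (Ideal.mul_mem_left _ c hQ2)
      rwa [hc, add_sub_cancel] at this
    funext i
    have := mem_pow_iff.mp h3 (Finsupp.single i 1) (by simp)
    simpa [map_sum, MvPowerSeries.coeff_C_mul, MvPowerSeries.coeff_X, Finsupp.single_left_inj] using this
  have hspan : ∀ b ∈ pk φ, ∃ r : Fin n → k, b - ∑ a, algebraMap k B (r a) * w a ∈ pk φ ^ 2 := by
    let T : (Fin n → k) →ₗ[k] (Fin n → k) :=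
      { toFun := fun r i => φ (F.g i (∑ a, algebraMap k B (r a) * w a))
        map_add' := fun r r' => by funext i; simp [add_mul, Finset.sum_add_distrib]
        map_smul' := fun t r => by
          funext i
          have e1 : ∑ a, algebraMap k B ((t • r) a) * w a = t • ∑ a, algebraMap k B (r a) * w a := by
            simp [Finset.smul_sum, Algebra.smul_def, mul_assoc, Finset.mul_sum]
          rw [e1, Derivation.map_smul, map_smul]
          rfl }
    have hp : ∀ r : Fin n → k, ∑ a, algebraMap k B (r a) * w a ∈ pk φ := fun r =>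
      sum_mem fun a _ => Ideal.mul_mem_left _ _ (hwp a)
    have hinj : Function.Injective T := (injective_iff_map_eq_zero T).2 fun r hr =>
      hindep r (hmem' 2 _ ((mem_sq_iff F φ _).mpr ⟨hp r, fun i => congrFun hr i⟩))
    intro b hb
    obtain ⟨r, hr⟩ := LinearMap.injective_iff_surjective.mp hinj (fun i => φ (F.g i b))
    refine ⟨r, (mem_sq_iff F φ _).mpr ⟨by rw [map_sub, show φ b = 0 from hb, show φ _ = 0 from hp r, sub_self],
      fun i => by rw [map_sub, map_sub, ← show φ (F.g i _) = φ (F.g i b) from congrFun hr i, sub_self]⟩⟩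
  have hbij := bijective_lin F φ w hspan
  have hψh : ψ0 h = 0 := by simp [ψ0, hιh]
  have hh2 : h ∈ pk φ ^ 2 := by
    obtain ⟨r, hr⟩ := hspan h hh
    have h1 := hmem' 2 _ hr
    rw [map_sub, hψh, zero_sub, neg_mem_iff] at h1
    simpa [hindep r h1] using hr
  refine ⟨hh2, fun hdeg => hQ ?_⟩
  obtain ⟨d, hd⟩ : ∃ d : Fin n → Fin n → k, h - ∑ a, ∑ b, algebraMap k B (d a b) * w a * w b ∈ pk φ ^ 3 := by
    have key : ∀ x ∈ pk φ ^ 2, ∃ d : Fin n → Fin n → k, x - ∑ a, ∑ b, algebraMap k B (d a b) * w a * w b ∈ pk φ ^ 3 := by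
      intro x hx
      rw [pow_two] at hx
      refine Submodule.mul_induction_on hx (fun y hy z hz => ?_) fun y z ⟨dy, hy⟩ ⟨dz, hz⟩ => ?_
      · obtain ⟨r, hr⟩ := hspan y hy
        obtain ⟨t, ht⟩ := hspan z hz
        refine ⟨fun a b => r a * t b, ?_⟩
        have e1 : ∑ a, ∑ b, algebraMap k B (r a * t b) * w a * w b =
            (∑ a, algebraMap k B (r a) * w a) * ∑ b, algebraMap k B (t b) * w b := by
          rw [Finset.sum_mul_sum]
          exact Finset.sum_congr rfl fun a _ => Finset.sum_congr rfl fun b _ => by rw [map_mul]; ring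
        rw [e1, show y * z - (∑ a, algebraMap k B (r a) * w a) * ∑ b, algebraMap k B (t b) * w b =
          (y - ∑ a, algebraMap k B (r a) * w a) * z +
            (∑ a, algebraMap k B (r a) * w a) * (z - ∑ b, algebraMap k B (t b) * w b) by ring]
        refine add_mem ?_ ?_
        · rw [pow_succ]; exact Ideal.mul_mem_mul hr hz
        · rw [pow_succ']; exact Ideal.mul_mem_mul (sum_mem fun a _ => Ideal.mul_mem_left _ _ (hwp a)) ht
      · refine ⟨dy + dz, ?_⟩
        convert add_mem hy hz using 1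
        simp [Finset.sum_add_distrib, add_mul]
        ring
    exact key h hh2
  have hd' := (degen_iff F φ w hwp hbij d hd).mp hdeg
  have h1 := hmem' 3 _ hd
  rw [map_sub, hψh, zero_sub, neg_mem_iff] at h1
  have h2 : mk (∑ a, ∑ b, algebraMap k P (d a b) * MvPowerSeries.X a * MvPowerSeries.X b) ∈
      (maximalIdeal P ^ 3).map mk := by
    have h3 : ∑ a, ∑ b, mk (MvPowerSeries.C (d a b)) *
        (mk (MvPowerSeries.X a) * mk (MvPowerSeries.X b) - ψ0 (w a) * ψ0 (w b)) ∈ (maximalIdeal P ^ 3).map mk :=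
      sum_mem fun a _ => sum_mem fun b _ => Ideal.mul_mem_left _ _ (by
        rw [show mk (MvPowerSeries.X a) * mk (MvPowerSeries.X b) - ψ0 (w a) * ψ0 (w b) =
          (mk (MvPowerSeries.X a) - ψ0 (w a)) * mk (MvPowerSeries.X b) +
            ψ0 (w a) * (mk (MvPowerSeries.X b) - ψ0 (w b)) by ring]
        exact add_mem (Ideal.mul_mem_right _ _ (hw a)) (Ideal.mul_mem_left _ _ (hw b)))
    convert add_mem h1 h3 using 1
    simp [map_sum, map_mul, hC, mul_sub, Finset.sum_sub_distrib, mul_assoc, MvPowerSeries.c_eq_algebraMap,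
      -MvPowerSeries.algebraMap_apply]
  rw [Ideal.mem_map_iff_of_surjective _ Ideal.Quotient.mk_surjective] at h2
  obtain ⟨f, hf, hfe⟩ := h2
  obtain ⟨c, hc⟩ := Ideal.mem_span_singleton'.mp (Ideal.Quotient.eq.mp hfe.symm)
  set t := MvPowerSeries.constantCoeff c with ht
  have hpoly : quadPoly d = MvPolynomial.C t * quadPoly (triC Q) := quadPoly_eq_of_sub_mem t (by
    have hc0 : c - algebraMap k P t ∈ maximalIdeal P := GrothLib.QuadSeries.mem_max.mpr (by
      rw [← MvPowerSeries.c_eq_algebraMap, map_sub, MvPowerSeries.constantCoeff_C, ht, sub_self])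
    have h4 : (c - algebraMap k P t) * Q ∈ maximalIdeal P ^ 3 := by
      rw [pow_succ']; exact Ideal.mul_mem_mul hc0 hQ2
    have h5 : algebraMap k P t * (Q - ∑ a, ∑ b, algebraMap k P (triC Q a b) * MvPowerSeries.X a * MvPowerSeries.X b) ∈
        maximalIdeal P ^ 3 := Ideal.mul_mem_left _ _ (sub_quad_mem hQ2)
    have := add_mem (add_mem hf h4) h5
    convert this using 1
    linear_combination -hc)
  have hcd : ∀ v, qf d v = t * qf (triC Q) v := fun v => by
    rw [← eval_quadPoly, hpoly, map_mul, MvPolynomial.eval_C, eval_quadPoly]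
  by_cases ht0 : t = 0
  · have h0 : h ∈ pk φ ^ 3 := by
      have e1 : ∑ a, ∑ b, algebraMap k B (d a b) * w a * w b ∈ pk φ ^ 3 := by
        have := congrArg (MvPolynomial.aeval w) hpoly
        rw [ht0, map_zero, zero_mul, map_zero] at this
        simp only [quadPoly, map_sum, map_mul, MvPolynomial.aeval_C, MvPolynomial.aeval_X] at this
        rw [this]
        exact zero_mem _
      simpa using add_mem hd e1
    have hspan0 : Ideal.span {h} ⊔ pk φ ^ 3 = pk φ ^ 3 :=
      sup_eq_right.mpr ((Ideal.span_singleton_le_iff_mem _).mpr h0)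
    have hq : ∑ a, ∑ b, algebraMap k B (triC Q a b) * w a * w b ∈ pk φ ^ 3 := by
      rw [← hspan0]
      refine hmem 3 _ ?_
      have hQ3 : mk (∑ a, ∑ b, algebraMap k P (triC Q a b) * MvPowerSeries.X a * MvPowerSeries.X b) ∈
          (maximalIdeal P ^ 3).map mk := by
        have := Ideal.mem_map_of_mem mk (sub_quad_mem hQ2)
        rwa [map_sub, Ideal.Quotient.eq_zero_iff_mem.mpr (Ideal.mem_span_singleton_self Q), zero_sub, neg_mem_iff] at this
      have h3 : ∑ a, ∑ b, mk (MvPowerSeries.C (triC Q a b)) *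
          (mk (MvPowerSeries.X a) * mk (MvPowerSeries.X b) - ψ0 (w a) * ψ0 (w b)) ∈ (maximalIdeal P ^ 3).map mk :=
        sum_mem fun a _ => sum_mem fun b _ => Ideal.mul_mem_left _ _ (by
          rw [show mk (MvPowerSeries.X a) * mk (MvPowerSeries.X b) - ψ0 (w a) * ψ0 (w b) =
            (mk (MvPowerSeries.X a) - ψ0 (w a)) * mk (MvPowerSeries.X b) +
              ψ0 (w a) * (mk (MvPowerSeries.X b) - ψ0 (w b)) by ring]
          exact add_mem (Ideal.mul_mem_right _ _ (hw a)) (Ideal.mul_mem_left _ _ (hw b)))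
      convert sub_mem hQ3 h3 using 1
      simp [map_sum, map_mul, hC, mul_sub, Finset.sum_sub_distrib, mul_assoc, MvPowerSeries.c_eq_algebraMap,
        -MvPowerSeries.algebraMap_apply]
    refine (degen_iff F φ w hwp hbij (triC Q) (h := 0) (by simpa using hq)).mp ?_
    have hne : pk φ ^ 2 < pk φ := by
      refine lt_of_le_of_ne (Ideal.pow_le_self two_ne_zero) fun e => ?_
      have h1 : uc F φ ⟨0, hn⟩ ∈ pk φ ^ 2 := e.symm ▸ sub_mem_pk φ _
      have := lin_eq_zero_of_sq F φ (fun _ => 1) h1
      rw [lin_uc] at this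
      exact one_ne_zero this
    exact ⟨pk φ ^ 2, le_rfl, hne, zero_mem _⟩
  · exact degQ_of_qf_eq t⁻¹ (fun v => by rw [hcd, ← mul_assoc, inv_mul_cancel₀ ht0, one_mul]) hd'

end Criterion

end GrothLib.OrdQuad12
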