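import Groth.Agent.Lib.OrdQuad12.Open
import Groth.Agent.Lib.OrdQuad12.Count

/-!
# The forms with a bad singular member on a line through a given form
-/

set_option autoImplicit false
set_option linter.all false
set_option maxHeartbeats 1000000
set_option backward.isDefEq.respectTransparency false
set_option backward.isDefEq.respectTransparency.types false
universe u

open CategoryTheory CategoryTheory.Limits AlgebraicGeometry TopologicalSpace IsLocalRing

noncomputable section

namespace GrothLib.OrdQuad12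

open GrothLib.DualVar12 GrothLib.Jets

section Algebra

variable {k : Type u} [Field k] [Infinite k] {N : ℕ}

/-- Polynomials vanishing on a set of points. -/
def vanI (S : Set (Fin N → k)) : Ideal (MvPolynomial (Fin N) k) := ⨅ c ∈ S, RingHom.ker (MvPolynomial.eval c)

theorem mem_vanI {S : Set (Fin N → k)} {F : MvPolynomial (Fin N) k} :
    F ∈ vanI S ↔ ∀ c ∈ S, MvPolynomial.eval c F = 0 := by
  simp [vanI, Submodule.mem_iInf, RingHom.mem_ker]

theorem trdeg_chain (p Q : Ideal (MvPolynomial (Fin N) k)) [p.IsPrime] [Q.IsPrime] (hp : p ≠ ⊥) (hpQ : p < Q) :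
    ∃ s : ℕ, Algebra.trdeg k (MvPolynomial (Fin N) k ⧸ Q) = s ∧ s + 2 ≤ N := by
  have hN : Algebra.trdeg k (MvPolynomial (Fin N) k) = N := by simp [MvPolynomial.trdeg_of_isDomain]
  obtain ⟨t, ht, htN⟩ := trdeg_quotient_lt (k := k) hN p hp
  let Q' := Q.map (Ideal.Quotient.mkₐ k p)
  haveI : Q'.IsPrime := Ideal.map_isPrime_of_surjective (f := Ideal.Quotient.mkₐ k p) Ideal.Quotient.mk_surjective
    (by rw [show RingHom.ker (Ideal.Quotient.mkₐ k p) = p from Ideal.mk_ker]; exact hpQ.le)
  have hQ' : Q' ≠ ⊥ := fun e => hpQ.not_ge fun x hx => by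
    have h1 : Ideal.Quotient.mkₐ k p x ∈ Q' := Ideal.mem_map_of_mem _ hx
    rw [e, Ideal.mem_bot] at h1
    exact Ideal.Quotient.eq_zero_iff_mem.mp h1
  obtain ⟨s, hs, hst⟩ := trdeg_quotient_lt (k := k) ht Q' hQ'
  refine ⟨s, ?_, by omega⟩
  rw [← hs]
  exact ((DoubleQuot.quotQuotEquivQuotOfLEₐ k hpQ.le).trdeg_eq).symm

/-- A cone of small dimension does not fill space from a point. -/
theorem exists_avoid (J : Ideal (MvPolynomial (Fin N) k))
    (hJ : ∀ Q : Ideal (MvPolynomial (Fin N) k), Q.IsPrime → J ≤ Q →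
      ∃ s : ℕ, Algebra.trdeg k (MvPolynomial (Fin N) k ⧸ Q) = s ∧ s + 2 ≤ N) (h : Fin N → k) :
    ∃ P : MvPolynomial (Fin N) k, P ≠ 0 ∧ ∀ (G : Fin N → k) (t : k), MvPolynomial.eval G P ≠ 0 →
      ∃ F ∈ J, MvPolynomial.eval (G + t • h) F ≠ 0 := by
  classical
  have key : ∀ Q ∈ J.minimalPrimes, ∃ P : MvPolynomial (Fin N) k, P ≠ 0 ∧ ∀ (σ : Fin N → k) (t : k),
      Q ≤ RingHom.ker (MvPolynomial.eval σ) → MvPolynomial.eval (σ + t • h) P = 0 := by
    intro Q hQ
    haveI : Q.IsPrime := hQ.1.1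
    obtain ⟨s, hs, hsN⟩ := hJ Q hQ.1.1 hQ.1.2
    let A := MvPolynomial (Fin N) k ⧸ Q
    let θ : MvPolynomial (Fin N) k →ₐ[k] Polynomial A := MvPolynomial.aeval fun l =>
      Polynomial.C (Ideal.Quotient.mk Q (MvPolynomial.X l)) + Polynomial.X * Polynomial.C (algebraMap k A (h l))
    by_cases hinj : Function.Injective θ
    · exfalso
      have h1 : Algebra.trdeg k (MvPolynomial (Fin N) k) ≤ Algebra.trdeg k (Polynomial A) := trdeg_le_of_injective θ hinj
      have h2 := trdeg_add_eq k A (A := Polynomial A)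
      rw [hs, Polynomial.trdeg_of_isDomain] at h2
      rw [MvPolynomial.trdeg_of_isDomain, ← h2] at h1
      simp only [Cardinal.mk_fin, Cardinal.lift_natCast] at h1
      norm_cast at h1
      omega
    · rw [injective_iff_map_eq_zero] at hinj
      push Not at hinj
      obtain ⟨P, hP, hP0⟩ := hinj
      refine ⟨P, hP0, fun σ t hσ => ?_⟩
      let ev : A →+* k := Ideal.Quotient.lift Q (MvPolynomial.eval σ) hσ
      let χ : Polynomial A →+* k := Polynomial.eval₂RingHom ev t
      have e : χ.comp θ.toRingHom = MvPolynomial.eval (σ + t • h) := by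
        refine MvPolynomial.ringHom_ext (fun c => ?_) (fun l => ?_)
        · simp [χ, θ, ev, A, IsScalarTower.algebraMap_apply k A (Polynomial A),
            IsScalarTower.algebraMap_apply k (MvPolynomial (Fin N) k) (MvPolynomial (Fin N) k ⧸ Q)]
        · simp [χ, θ, ev, A, mul_comm t,
            IsScalarTower.algebraMap_apply k (MvPolynomial (Fin N) k) (MvPolynomial (Fin N) k ⧸ Q)]
      have := RingHom.congr_fun e P
      rw [RingHom.comp_apply, show θ.toRingHom P = 0 from hP, map_zero] at this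
      exact this.symm
  choose P hP0 hP using key
  have hfin : J.minimalPrimes.Finite := J.finite_minimalPrimes_of_isNoetherianRing _
  refine ⟨∏ Q ∈ hfin.toFinset.attach, P Q.1 (hfin.mem_toFinset.mp Q.2), Finset.prod_ne_zero_iff.mpr fun Q _ => hP0 _ _,
    fun G t hG => ?_⟩
  by_contra hall
  push Not at hall
  have hker : J ≤ RingHom.ker (MvPolynomial.eval (G + t • h)) := fun F hF => hall F hF
  haveI := RingHom.ker_isPrime (MvPolynomial.eval (G + t • h))
  obtain ⟨Q, hQ, hQle⟩ := Ideal.exists_minimalPrimes_le hker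
  rw [map_prod, Finset.prod_ne_zero_iff] at hG
  refine hG ⟨Q, hfin.mem_toFinset.mpr hQ⟩ (Finset.mem_attach _ _) ?_
  have := hP Q hQ (G + t • h) (-t) hQle
  rwa [neg_smul, add_neg_cancel_right] at this

/-- A polynomial in two variables vanishing at the origin has another zero. -/
theorem exists_zero_line [IsAlgClosed k] (p : MvPolynomial (Fin 2) k) (h0 : MvPolynomial.eval ![0, 0] p = 0) :
    ∃ s t : k, (s ≠ 0 ∨ t ≠ 0) ∧ MvPolynomial.eval ![s, t] p = 0 := by
  by_contra hall
  push Not at hall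
  let row : k → Polynomial k := fun s => MvPolynomial.aeval ![Polynomial.C s, Polynomial.X] p
  let col : k → Polynomial k := fun t => MvPolynomial.aeval ![Polynomial.X, Polynomial.C t] p
  have hrow : ∀ s t, (row s).eval t = MvPolynomial.eval ![s, t] p := fun s t => by
    rw [← Polynomial.coe_evalRingHom]
    show Polynomial.evalRingHom t (MvPolynomial.aeval _ p) = _
    rw [MvPolynomial.aeval_def, MvPolynomial.eval₂_comp_left (Polynomial.evalRingHom t)]
    show _ = MvPolynomial.eval₂ (RingHom.id k) _ p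
    congr 1
    · ext x; simp
    · funext l; fin_cases l <;> simp
  have hcol : ∀ s t, (col t).eval s = MvPolynomial.eval ![s, t] p := fun s t => by
    rw [← Polynomial.coe_evalRingHom]
    show Polynomial.evalRingHom s (MvPolynomial.aeval _ p) = _
    rw [MvPolynomial.aeval_def, MvPolynomial.eval₂_comp_left (Polynomial.evalRingHom s)]
    show _ = MvPolynomial.eval₂ (RingHom.id k) _ p
    congr 1
    · ext x; simp
    · funext l; fin_cases l <;> simp
  have hconst : ∀ s : k, s ≠ 0 → MvPolynomial.eval ![s, 1] p = MvPolynomial.eval ![s, 0] p := by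
    intro s hs
    by_cases hdeg : (row s).degree = 0
    · rw [← hrow, ← hrow, Polynomial.eq_C_of_degree_eq_zero hdeg, Polynomial.eval_C, Polynomial.eval_C]
    · obtain ⟨t, ht⟩ := IsAlgClosed.exists_root (row s) hdeg
      exact absurd ((hrow s t).symm.trans ht) (hall s t (Or.inl hs))
  have hp : col 1 - col 0 = 0 := by
    refine Polynomial.eq_zero_of_infinite_isRoot _ ((Set.Infinite.sdiff Set.infinite_univ (Set.finite_singleton (0 : k))).mono ?_)
    rintro s ⟨-, hs⟩
    show (col 1 - col 0).IsRoot s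
    rw [Polynomial.IsRoot, Polynomial.eval_sub, hcol, hcol, hconst s hs, sub_self]
  refine hall 0 1 (Or.inr one_ne_zero) ?_
  rw [← hcol, sub_eq_zero.mp hp, hcol, h0]

end Algebra

attribute [local instance] constAlgebra

variable {k : Type u} [Field k] [IsAlgClosed k] {r : ℕ} {X : Scheme.{u}} (i : X ⟶ CohB1.ProjSpace r k)
  [IsClosedImmersion i] [X.Over (Spec (CommRingCat.of k))]
  (hi : i ≫ CohB1.ProjSpace.toSpec r k = X ↘ Spec (CommRingCat.of k))
  [IsIntegral X] {m : ℕ} [SmoothOfRelativeDimension (m + 1) (X ↘ Spec (CommRingCat.of k))]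
  [IsProper (X ↘ Spec (CommRingCat.of k))]
  {d : ℕ} {N : ℕ} (b : Module.Basis (Fin N) k (LefPen.Form r k d))

include hi m in
/-- The zero form is singular everywhere, degenerately. -/
theorem bad_zero : Bad i (0 : LefPen.Form r k d) ∧ ¬ LefPen.OneOrdQuad k (m + 1) i (0 : LefPen.Form r k d) := by
  haveI : Smooth (X ↘ Spec (CommRingCat.of k)) := SmoothOfRelativeDimension.smooth (m + 1) _
  haveI : JacobsonSpace X := LocallyOfFiniteType.jacobsonSpace (X ↘ Spec (CommRingCat.of k))
  obtain ⟨x₀⟩ := (inferInstance : Nonempty X)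
  obtain ⟨x, -, hx⟩ := nonempty_inter_closedPoints (Z := Set.univ) ⟨x₀, trivial⟩ isOpen_univ.isLocallyClosed
  obtain ⟨j, hj⟩ := exists_chart_mem i x
  obtain ⟨V, hV, φ, hφ, ⟨F⟩⟩ := exists_frame_nhd i hi (m := m) x hx j hj
  have h0 : evOn i V hV (0 : LefPen.Form r k d) = 0 := (evL i V hV d).map_zero
  have hb : BadX i x (0 : LefPen.Form r k d) := (badX_point_iff i hi V hV φ _ x hφ).mpr (h0.symm ▸ zero_mem _)
  refine ⟨(bad_iff_closed i hi (m := m) _).mpr ⟨x, hx, hb⟩, fun h => ?_⟩
  have hn := (((oneOrdQuad_iff i hi _).mp h).2 x hx hb).1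
  exact ne_zero_of_nondeg F φ ((nondegX_point_iff i hi V hV φ _ x hφ).mp hn) h0

include hi in
/-- Forms with a bad singularity off a given form are avoided by generic forms. -/
theorem exists_avoid_bad (hd : 1 ≤ d)
    (h : (∃ H : LefPen.Form r k d, Bad i H ∧ LefPen.OneOrdQuad k (m + 1) i H) ∨
      ∃ F G : LefPen.Form r k d, ∀ s t : k, (s ≠ 0 ∨ t ≠ 0) → ¬ Bad i (s • F + t • G))
    (F₀ : LefPen.Form r k d) :
    ∃ P : MvPolynomial (Fin N) k, P ≠ 0 ∧ ∀ (G : LefPen.Form r k d) (t : k),
      MvPolynomial.eval (b.equivFun G) P ≠ 0 → Bad i (G + t • F₀) → LefPen.OneOrdQuad k (m + 1) i (G + t • F₀) := by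
  classical
  haveI : Infinite k := IsAlgClosed.instInfinite
  haveI : Smooth (X ↘ Spec (CommRingCat.of k)) := SmoothOfRelativeDimension.smooth (m + 1) _
  let D : Set (Fin N → k) := {c | Bad i (b.equivFun.symm c)}
  let S : Set (Fin N → k) := {c | Bad i (b.equivFun.symm c) ∧ ¬ LefPen.OneOrdQuad k (m + 1) i (b.equivFun.symm c)}
  obtain ⟨hz1, hz2⟩ := bad_zero i hi (m := m) (d := d)
  have hD0 : (0 : Fin N → k) ∈ D := by
    show Bad i (b.equivFun.symm 0); rw [map_zero]; exact hz1
  have hiff : ∀ H : LefPen.Form r k d,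
      ¬ LefPen.Transversal k (m + 1) 1 (LefPen.secToSpec i ({H} : Set (LefPen.Form r k d))) ↔ Bad i H := fun H =>
    ⟨fun h => by_contra fun hb => h (transversal_of_not_bad i hi (by omega) H hb),
      not_transversal_of_bad i hi (by omega) H⟩
  have hprime : (vanI D).IsPrime := by
    refine ⟨fun e => ?_, fun {P Q} hPQ => ?_⟩
    · have := mem_vanI.mp ((Ideal.eq_top_iff_one _).mp e) 0 hD0
      simp at this
    · rcases (dual_variety i hi (n := m + 1) (by omega) d hd).2 _ _ (isPolyFun_eval b P) (isPolyFun_eval b Q)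
        (fun H hH => by
          rw [← map_mul]
          refine mem_vanI.mp hPQ _ ?_
          show Bad i (b.equivFun.symm (b.equivFun H))
          rw [LinearEquiv.symm_apply_apply]
          exact (hiff H).mp hH) with h1 | h1
      · refine Or.inl (mem_vanI.mpr fun c hc => ?_)
        have := h1 (b.equivFun.symm c) ((hiff _).mpr hc)
        rwa [LinearEquiv.apply_symm_apply] at this
      · refine Or.inr (mem_vanI.mpr fun c hc => ?_)
        have := h1 (b.equivFun.symm c) ((hiff _).mpr hc)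
        rwa [LinearEquiv.apply_symm_apply] at this
  have hsepD : ∀ H : LefPen.Form r k d, ¬ Bad i H → ∃ P ∈ vanI D, MvPolynomial.eval (b.equivFun H) P ≠ 0 := by
    intro H hH
    obtain ⟨P, hP0, hP⟩ := DualVar12.exists_separating i hi d b H hH
    refine ⟨P, mem_vanI.mpr fun c hc => by_contra fun hne => ?_, hP0⟩
    exact hP (b.equivFun.symm c) (by rwa [LinearEquiv.apply_symm_apply]) hc
  have hDne : vanI D ≠ ⊥ := by
    obtain ⟨f, -, ⟨H, hH⟩, hf⟩ := FormBertini12.isGeneric i hi (n := m + 1) (by omega) d hd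
    obtain ⟨P, hP, hP0⟩ := hsepD H fun hb => (hiff H).mpr hb (hf H hH)
    intro e
    rw [e, Ideal.mem_bot] at hP
    exact hP0 (by rw [hP, map_zero])
  have hSD : vanI D ≤ vanI S := fun P hP => mem_vanI.mpr fun c hc => mem_vanI.mp hP c hc.1
  have hchain : ∃ p : Ideal (MvPolynomial (Fin N) k), p.IsPrime ∧ p ≠ ⊥ ∧
      ∀ Q : Ideal (MvPolynomial (Fin N) k), Q.IsPrime → vanI S ≤ Q → p < Q := by
    rcases h with ⟨H, hHb, hH1⟩ | ⟨F, G, hFG⟩
    · obtain ⟨P, hP0, hP⟩ := exists_open_oneOrdQuad i hi (m := m) b H hH1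
      have hPS : P ∈ vanI S := mem_vanI.mpr fun c hc => by_contra fun hne =>
        hc.2 (hP _ (by rwa [LinearEquiv.apply_symm_apply]) hc.1)
      refine ⟨vanI D, hprime, hDne, fun Q hQ hle => lt_of_le_of_ne (hSD.trans hle) fun e => ?_⟩
      have h1 : P ∈ vanI D := e ▸ hle hPS
      exact hP0 (mem_vanI.mp h1 _ (by show Bad i _; rwa [LinearEquiv.symm_apply_apply]))
    · haveI := hprime
      obtain ⟨f, hf, hfp⟩ := Ideal.IsPrime.exists_mem_prime_of_ne_bot hprime hDne
      refine ⟨Ideal.span {f}, (Ideal.span_singleton_prime hfp.ne_zero).mpr hfp,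
        fun e => hfp.ne_zero (Ideal.span_singleton_eq_bot.mp e), fun Q hQ hle => ?_⟩
      refine lt_of_lt_of_le (lt_of_le_of_ne ((Ideal.span_singleton_le_iff_mem _).mpr hf) fun e => ?_) (hSD.trans hle)
      let p : MvPolynomial (Fin 2) k := MvPolynomial.aeval (fun l =>
        MvPolynomial.X 0 * MvPolynomial.C (b.equivFun F l) + MvPolynomial.X 1 * MvPolynomial.C (b.equivFun G l)) f
      have hp : ∀ s t : k, MvPolynomial.eval ![s, t] p = MvPolynomial.eval (b.equivFun (s • F + t • G)) f := by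
        intro s t
        show MvPolynomial.eval _ (MvPolynomial.aeval _ f) = _
        rw [MvPolynomial.aeval_def, MvPolynomial.eval₂_comp_left (MvPolynomial.eval _)]
        show _ = MvPolynomial.eval₂ (RingHom.id k) _ f
        congr 1
        · ext x; simp
        · funext l
          simp only [Function.comp_apply, map_add, map_mul, MvPolynomial.eval_X, MvPolynomial.eval_C, map_smul,
            Pi.add_apply, Pi.smul_apply, smul_eq_mul]
          simp
      obtain ⟨s, t, hst, hzero⟩ := exists_zero_line p (by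
        rw [hp, zero_smul, zero_smul, add_zero, map_zero]
        exact mem_vanI.mp hf 0 hD0)
      obtain ⟨P, hP, hP0⟩ := hsepD _ (hFG s t hst)
      rw [← e, Ideal.mem_span_singleton'] at hP
      obtain ⟨c, rfl⟩ := hP
      rw [hp] at hzero
      exact hP0 (by rw [map_mul, hzero, mul_zero])
  obtain ⟨p, hp, hpne, hlt⟩ := hchain
  obtain ⟨P, hP0, hP⟩ := exists_avoid (vanI S) (fun Q hQ hle => by
    haveI := hp; haveI := hQ
    exact trdeg_chain p Q hpne (hlt Q hQ hle)) (b.equivFun F₀)
  refine ⟨P, hP0, fun G t hG hb => by_contra fun hn => ?_⟩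
  obtain ⟨F, hF, hF0⟩ := hP (b.equivFun G) t hG
  rw [← map_smul, ← map_add] at hF0
  refine hF0 (mem_vanI.mp hF _ ?_)
  show Bad i _ ∧ ¬ LefPen.OneOrdQuad k (m + 1) i _
  rw [LinearEquiv.symm_apply_apply]
  exact ⟨hb, hn⟩

end GrothLib.OrdQuad12
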