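import Groth.Agent.Lib.OrdQuad12.Frame

/-!
# Degenerate double zeros of functions on a smooth variety, intrinsically
-/

set_option autoImplicit false
set_option linter.all false
set_option maxHeartbeats 1000000
universe u

open TensorProduct

noncomputable section

namespace GrothLib.OrdQuad12

open GrothLib.DualVar12 (pk pk_isMaximal)

variable {k : Type u} [Field k] {B : Type u} [CommRing B] [Algebra k B] {n : ℕ}

/-- `h` vanishes to order two at `p` and its quadratic part is degenerate. -/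
def Degen (p : Ideal B) (h : B) : Prop :=
  ∃ 𝔞 : Ideal B, p ^ 2 ≤ 𝔞 ∧ 𝔞 < p ∧ h ∈ 𝔞 ^ 2 ⊔ p ^ 3

/-- `h` has a nondegenerate double zero at `p`. -/
def NondegAt (p : Ideal B) (h : B) : Prop := h ∈ p ^ 2 ∧ ¬ Degen p h

/-- The ring `k[ε]/(ε³)`. -/
abbrev Sq3 (k : Type u) [Field k] : Type u := Polynomial k ⧸ Ideal.span {(Polynomial.X : Polynomial k) ^ 3}

/-- The variable of `k[ε]/(ε³)`. -/
def ε (k : Type u) [Field k] : Sq3 k := Ideal.Quotient.mk _ Polynomial.X

theorem ε_pow_three : ε k ^ 3 = 0 := by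
  rw [ε, ← map_pow, Ideal.Quotient.eq_zero_iff_mem]
  exact Ideal.mem_span_singleton_self _

theorem ε_sq_inj {r : k} (h : algebraMap k (Sq3 k) r * ε k ^ 2 = 0) : r = 0 := by
  rw [ε, ← map_pow, IsScalarTower.algebraMap_apply k (Polynomial k) (Sq3 k), Ideal.Quotient.algebraMap_eq,
    ← map_mul, Ideal.Quotient.eq_zero_iff_mem, Ideal.mem_span_singleton, ← Polynomial.C_eq_algebraMap,
    Polynomial.X_pow_dvd_iff] at h
  simpa using h 2 (by norm_num)

variable (F : Frame k B n) (φ : B →ₐ[k] k)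

/-- The linear part of a function along a direction. -/
def lin (v : Fin n → k) (b : B) : k := ∑ a, v a * φ (F.g a b)

theorem lin_uc (v : Fin n → k) (a : Fin n) : lin F φ v (uc F φ a) = v a := by
  simp only [lin, g_uc]
  rw [Finset.sum_eq_single a (fun b _ hb => by simp [hb]) (by simp)]
  simp

theorem lin_mul (v : Fin n → k) (a b : B) : lin F φ v (a * b) = φ a * lin F φ v b + φ b * lin F φ v a := by
  simp only [lin, Finset.mul_sum, ← Finset.sum_add_distrib, Derivation.leibniz, smul_eq_mul, map_add, map_mul]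
  exact Finset.sum_congr rfl fun c _ => by ring

/-- A second order arc with given tangent vector. -/
theorem exists_arc [Algebra.FormallySmooth k B] (v : Fin n → k) :
    ∃ χ : B →ₐ[k] Sq3 k, ∀ b, ∃ y, χ b =
      algebraMap k (Sq3 k) (φ b) + algebraMap k (Sq3 k) (lin F φ v b) * ε k + y * ε k ^ 2 := by
  let π : Sq3 k →ₐ[k] DualNumber k :=
    Ideal.Quotient.liftₐ _ (Polynomial.aeval (DualNumber.eps : DualNumber k)) (by
      intro x hx
      obtain ⟨y, rfl⟩ := Ideal.mem_span_singleton'.mp hx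
      rw [map_mul, map_pow, Polynomial.aeval_X, pow_succ, pow_two, DualNumber.eps_mul_eps, zero_mul, mul_zero])
  have hπ : ∀ P : Polynomial k, π (Ideal.Quotient.mk _ P) = Polynomial.aeval (DualNumber.eps : DualNumber k) P :=
    fun P => rfl
  have hsurj : Function.Surjective π := fun z => by
    refine ⟨algebraMap k (Sq3 k) z.fst + algebraMap k (Sq3 k) z.snd * ε k, ?_⟩
    rw [map_add, map_mul, AlgHom.commutes, AlgHom.commutes, ε, hπ, Polynomial.aeval_X]
    ext <;> simp [TrivSqZeroExt.algebraMap_eq_inl]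
  have hker : ∀ x, π x = 0 → ∃ y, x = y * ε k ^ 2 := by
    intro x hx
    obtain ⟨P, rfl⟩ := Ideal.Quotient.mk_surjective x
    rw [hπ] at hx
    have hP : P = Polynomial.C (P.coeff 0) + Polynomial.C (P.coeff 1) * Polynomial.X +
        (Polynomial.divX (Polynomial.divX P)) * Polynomial.X ^ 2 := by
      ext m
      rcases m with _ | _ | m <;> simp [Polynomial.coeff_X, Polynomial.coeff_mul_X_pow', Polynomial.coeff_divX, Polynomial.coeff_C]
    rw [hP] at hx ⊢
    simp only [map_add, map_mul, map_pow, Polynomial.aeval_C, Polynomial.aeval_X, pow_two, DualNumber.eps_mul_eps,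
      mul_zero, add_zero] at hx
    have h0 := congrArg TrivSqZeroExt.fst hx
    have h1 := congrArg TrivSqZeroExt.snd hx
    simp [TrivSqZeroExt.algebraMap_eq_inl] at h0 h1
    refine ⟨Ideal.Quotient.mk _ (Polynomial.divX (Polynomial.divX P)), ?_⟩
    rw [h0, h1, ε]
    simp
  have hnil : IsNilpotent (RingHom.ker π.toRingHom) := by
    refine ⟨2, le_bot_iff.mp ?_⟩
    rw [Submodule.pow_succ, Submodule.pow_one, Ideal.mul_le]
    intro x hx y hy
    obtain ⟨x', rfl⟩ := hker x hx
    obtain ⟨y', rfl⟩ := hker y hy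
    rw [Ideal.mem_bot, show x' * ε k ^ 2 * (y' * ε k ^ 2) = x' * y' * ε k * ε k ^ 3 by ring, ε_pow_three, mul_zero]
  let χ₁ : B →ₐ[k] DualNumber k :=
    { toFun := fun b => TrivSqZeroExt.inl (φ b) + TrivSqZeroExt.inr (lin F φ v b)
      map_one' := by ext <;> simp [lin]
      map_mul' := fun a b => by ext <;> simp [lin_mul, mul_comm]
      map_zero' := by ext <;> simp [lin]
      map_add' := fun a b => by ext <;> simp [lin, Finset.sum_add_distrib, mul_add]
      commutes' := fun c => by ext <;> simp [lin, TrivSqZeroExt.algebraMap_eq_inl] }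
  let χ := Algebra.FormallySmooth.liftOfSurjective χ₁ π hsurj hnil
  refine ⟨χ, fun b => ?_⟩
  obtain ⟨y, hy⟩ := hker (χ b - (algebraMap k (Sq3 k) (φ b) + algebraMap k (Sq3 k) (lin F φ v b) * ε k)) (by
    rw [map_sub, show π (χ b) = χ₁ b from Algebra.FormallySmooth.liftOfSurjective_apply χ₁ π hsurj hnil b,
      sub_eq_zero, map_add, map_mul, AlgHom.commutes,
      AlgHom.commutes, ε, hπ, Polynomial.aeval_X]
    ext <;> simp [χ₁, TrivSqZeroExt.algebraMap_eq_inl])
  exact ⟨y, by rw [← hy]; ring⟩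

/-- The value of an arc on a function with a double zero is the value of its quadratic form. -/
theorem arc_quad [Algebra.FormallySmooth k B] (v : Fin n → k) (χ : B →ₐ[k] Sq3 k)
    (hχ : ∀ b, ∃ y, χ b = algebraMap k (Sq3 k) (φ b) + algebraMap k (Sq3 k) (lin F φ v b) * ε k + y * ε k ^ 2)
    (w : Fin n → B) (hw : ∀ a, w a ∈ pk φ) (c : Fin n → Fin n → k) {h : B}
    (hh : h - ∑ a, ∑ b, algebraMap k B (c a b) * w a * w b ∈ pk φ ^ 3) :
    χ h = algebraMap k (Sq3 k) (qf c fun a => lin F φ v (w a)) * ε k ^ 2 := by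
  have h1 : ∀ b ∈ pk φ, ∃ y, χ b = algebraMap k (Sq3 k) (lin F φ v b) * ε k + y * ε k ^ 2 := fun b hb => by
    obtain ⟨y, hy⟩ := hχ b
    exact ⟨y, by rw [hy, show φ b = 0 from hb, map_zero, zero_add]⟩
  have h3 : ∀ x ∈ pk φ ^ 3, χ x = 0 := by
    intro x hx
    have hle : (pk φ).map χ.toRingHom ≤ Ideal.span {ε k} := Ideal.map_le_iff_le_comap.mpr fun b hb => by
      obtain ⟨y, hy⟩ := h1 b hb
      rw [Ideal.mem_comap, Ideal.mem_span_singleton']
      exact ⟨algebraMap k (Sq3 k) (lin F φ v b) + y * ε k, by show _ = χ b; rw [hy]; ring⟩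
    have := Ideal.pow_right_mono hle 3 (Ideal.map_pow χ.toRingHom (pk φ) 3 ▸ Ideal.mem_map_of_mem _ hx)
    rw [Ideal.span_singleton_pow, ε_pow_three, Ideal.span_singleton_eq_bot.mpr rfl] at this
    exact this
  have hmul : ∀ a b, χ (w a * w b) =
      algebraMap k (Sq3 k) (lin F φ v (w a) * lin F φ v (w b)) * ε k ^ 2 := fun a b => by
    obtain ⟨y, hy⟩ := h1 _ (hw a)
    obtain ⟨z, hz⟩ := h1 _ (hw b)
    rw [map_mul, hy, hz, map_mul]
    linear_combination (algebraMap k (Sq3 k) (lin F φ v (w a)) * z + algebraMap k (Sq3 k) (lin F φ v (w b)) * y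
      + y * z * ε k) * ε_pow_three (k := k)
  have := h3 _ hh
  rw [map_sub, sub_eq_zero] at this
  rw [this, qf, map_sum, map_sum, Finset.sum_mul]
  refine Finset.sum_congr rfl fun a _ => ?_
  rw [map_sum, map_sum, Finset.sum_mul]
  refine Finset.sum_congr rfl fun b _ => ?_
  rw [mul_assoc, map_mul, hmul, AlgHom.commutes, mul_assoc (c a b), map_mul (algebraMap k (Sq3 k)) (c a b), ← mul_assoc]

/-- Products in the square of the maximal ideal. -/
theorem arc_prod [Algebra.FormallySmooth k B] (v : Fin n → k) (χ : B →ₐ[k] Sq3 k)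
    (hχ : ∀ b, ∃ y, χ b = algebraMap k (Sq3 k) (φ b) + algebraMap k (Sq3 k) (lin F φ v b) * ε k + y * ε k ^ 2)
    {a b : B} (ha : a ∈ pk φ) (hb : b ∈ pk φ) :
    χ (a * b) = algebraMap k (Sq3 k) (lin F φ v a * lin F φ v b) * ε k ^ 2 := by
  obtain ⟨y, hy⟩ := hχ a
  obtain ⟨z, hz⟩ := hχ b
  rw [show φ a = 0 from ha, map_zero, zero_add] at hy
  rw [show φ b = 0 from hb, map_zero, zero_add] at hz
  rw [map_mul, hy, hz, map_mul]
  linear_combination (algebraMap k (Sq3 k) (lin F φ v a) * z + algebraMap k (Sq3 k) (lin F φ v b) * y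
    + y * z * ε k) * ε_pow_three (k := k)

/-- The linear part is additive in the direction. -/
theorem lin_add (v v' : Fin n → k) (b : B) : lin F φ (v + v') b = lin F φ v b + lin F φ v' b := by
  simp [lin, add_mul, Finset.sum_add_distrib]

/-- Degeneracy does not depend on the coordinates. -/
theorem degen_iff [Algebra.FormallySmooth k B] (w : Fin n → B) (hw : ∀ a, w a ∈ pk φ)
    (hΛ : Function.Bijective fun v : Fin n → k => fun a => lin F φ v (w a))
    (c : Fin n → Fin n → k) {h : B}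
    (hh : h - ∑ a, ∑ b, algebraMap k B (c a b) * w a * w b ∈ pk φ ^ 3) :
    Degen (pk φ) h ↔ DegQ c := by
  haveI := pk_isMaximal φ
  constructor
  · rintro ⟨𝔞, h2, hlt, hmem⟩
    obtain ⟨v, hv0, hv⟩ : ∃ v : Fin n → k, v ≠ 0 ∧ ∀ b ∈ 𝔞, lin F φ v b = 0 := by
      let L : B →ₗ[k] (Fin n → k) := LinearMap.pi fun a => φ.toLinearMap.comp (F.g a).toLinearMap
      have hne : (𝔞.restrictScalars k).map L ≠ ⊤ := by
        intro htop
        refine hlt.not_ge fun b hb => ?_
        obtain ⟨a, ha, hab⟩ : L b ∈ (𝔞.restrictScalars k).map L := htop ▸ trivial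
        have hd : b - a ∈ pk φ ^ 2 := (mem_sq_iff F φ _).mpr ⟨by
          rw [map_sub, show φ b = 0 from hb, show φ a = 0 from hlt.le ha, sub_zero], fun i => by
          rw [map_sub, map_sub, show φ (F.g i a) = φ (F.g i b) from congrFun hab i, sub_self]⟩
        simpa using add_mem (h2 hd) ha
      obtain ⟨f, hf0, hf⟩ := Submodule.exists_le_ker_of_lt_top _ (lt_top_iff_ne_top.mpr hne)
      refine ⟨fun a => f (Pi.single a 1), fun e => hf0 ?_, fun b hb => ?_⟩
      · refine LinearMap.pi_ext' fun a => LinearMap.ext_ring ?_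
        simpa using congrFun e a
      · have := hf (Submodule.mem_map_of_mem (f := L) hb)
        rw [LinearMap.mem_ker, pi_eq_sum_univ' (L b), map_sum] at this
        simpa [lin, L, mul_comm] using this
    rw [degQ_iff_invariant]
    refine ⟨fun a => lin F φ v (w a), fun e => hv0 (hΛ.1 (e.trans ?_)), fun z => ?_⟩
    · funext a; simp [lin]
    obtain ⟨z', rfl⟩ := hΛ.2 z
    obtain ⟨χ, hχ⟩ := exists_arc F φ z'
    obtain ⟨χ', hχ'⟩ := exists_arc F φ (v + z')
    have e : χ' h = χ h := by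
      obtain ⟨x, hx, y, hy, rfl⟩ := Submodule.mem_sup.mp hmem
      have hy0 : ∀ (q : Fin n → k) (ψ : B →ₐ[k] Sq3 k), (∀ b, ∃ t, ψ b =
          algebraMap k (Sq3 k) (φ b) + algebraMap k (Sq3 k) (lin F φ q b) * ε k + t * ε k ^ 2) → ψ y = 0 :=
        fun q ψ hψ => by
          simpa [qf] using arc_quad F φ q ψ hψ w hw 0 (by simpa using hy)
      rw [map_add, map_add, hy0 _ χ hχ, hy0 _ χ' hχ', add_zero, add_zero]
      rw [pow_two] at hx
      refine Submodule.mul_induction_on hx (fun a ha b hb => ?_) fun a b ha hb => by rw [map_add, map_add, ha, hb]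
      rw [arc_prod F φ _ χ' hχ' (hlt.le ha) (hlt.le hb), arc_prod F φ _ χ hχ (hlt.le ha) (hlt.le hb),
        lin_add, lin_add, hv a ha, hv b hb, zero_add, zero_add]
    rw [arc_quad F φ _ χ' hχ' w hw c hh, arc_quad F φ _ χ hχ w hw c hh] at e
    have h0 := ε_sq_inj (show algebraMap k (Sq3 k)
      (qf c (fun a => lin F φ (v + z') (w a)) - qf c (fun a => lin F φ z' (w a))) * ε k ^ 2 = 0 by
      rw [map_sub, sub_mul, e, sub_self])
    rw [sub_eq_zero] at h0
    rw [← h0]
    congr 1
    funext a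
    simp [lin_add]
  · rintro ⟨v, hv0, h0, h1⟩
    obtain ⟨z, hz⟩ := hΛ.2 v
    obtain ⟨a₀, ha₀⟩ : ∃ a, v a ≠ 0 := by
      by_contra hall; push Not at hall; exact hv0 (funext hall)
    let T : B := algebraMap k B (v a₀)⁻¹ * w a₀
    let 𝔞 : Ideal B :=
      { carrier := {b | b ∈ pk φ ∧ lin F φ z b = 0}
        zero_mem' := ⟨zero_mem _, by simp [lin]⟩
        add_mem' := fun {a b} ha hb => ⟨add_mem ha.1 hb.1, by
          have := congrArg₂ (· + ·) ha.2 hb.2
          simpa [lin, Finset.sum_add_distrib, mul_add] using this⟩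
        smul_mem' := fun r b hb => ⟨Ideal.mul_mem_left _ r hb.1, by
          rw [smul_eq_mul, lin_mul, hb.2, show φ b = 0 from hb.1, mul_zero, zero_mul, add_zero]⟩ }
    have hl : ∀ a, lin F φ z (w a) = v a := fun a => congrFun hz a
    have hlC : ∀ (r : k) (b : B), lin F φ z (algebraMap k B r * b) = r * lin F φ z b := fun r b => by
      rw [lin_mul, AlgHom.commutes]
      simp [lin]
    have hT : lin F φ z T = 1 := by rw [hlC, hl, inv_mul_cancel₀ ha₀]
    refine ⟨𝔞, fun x hx => ⟨Ideal.pow_le_self two_ne_zero hx, ?_⟩, ?_, ?_⟩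
    · simp only [lin, deriv_apply_eq_zero F φ _ hx, mul_zero, Finset.sum_const_zero]
    · refine lt_of_le_of_ne (fun b hb => hb.1) fun e => ?_
      have : w a₀ ∈ 𝔞 := e ▸ hw a₀
      exact ha₀ ((hl a₀).symm.trans this.2)
    · have hmem : ∀ a, w a - algebraMap k B (v a) * T ∈ 𝔞 := fun a => ⟨sub_mem (hw a)
        (Ideal.mul_mem_left _ _ (Ideal.mul_mem_left _ _ (hw a₀))), by
        have hsub : ∀ x y : B, lin F φ z (x - y) = lin F φ z x - lin F φ z y := fun x y => by
          simp [lin, mul_sub, Finset.sum_sub_distrib]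
        rw [hsub, hlC, hT, hl, mul_one, sub_self]⟩
      rw [sum_eq_of_degQ c v h0 h1 w T] at hh
      refine Submodule.mem_sup.mpr ⟨_, ?_, _, hh, add_sub_cancel _ _⟩
      refine sum_mem fun a _ => sum_mem fun b _ => ?_
      rw [mul_assoc, pow_two]
      exact Ideal.mul_mem_left _ _ (Ideal.mul_mem_mul (hmem a) (hmem b))

/-- Degeneracy in the coordinates of a frame. -/
theorem degen_iff_frame [Algebra.FormallySmooth k B] {h : B} (hh : h ∈ pk φ ^ 2)
    (A : Fin n → Fin n → B ⊗[k] B)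
    (hA : F.s * rem F.u F.g h = ∑ a, ∑ c, A a c * δ (k := k) (F.u a) * δ (k := k) (F.u c)) :
    Degen (pk φ) h ↔ DegQ (cAt φ A) :=
  degen_iff F φ (uc F φ) (fun a => sub_mem_pk φ _)
    (by simp only [lin_uc]; exact Function.bijective_id) (cAt φ A) (quad_expand F φ hh A hA)

/-- A nondegenerate double zero is characterised by the absence of common zeros. -/
theorem nondeg_iff_no_zero [Algebra.FormallySmooth k B] {h : B} (hh : h ∈ pk φ ^ 2)
    (A : Fin n → Fin n → B ⊗[k] B)
    (hA : F.s * rem F.u F.g h = ∑ a, ∑ c, A a c * δ (k := k) (F.u a) * δ (k := k) (F.u c)) :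
    ¬ Degen (pk φ) h ↔ ∀ v : Fin n → k, v ≠ 0 → qf (fun a c => pairPt φ φ (A a c)) v = 0 →
      (∀ i, ∑ c, pairPt φ φ (Msys F A i c) * v c = 0) → False := by
  rw [degen_iff_frame F φ hh A hA, DegQ]
  have e : (fun a c => pairPt φ φ (A a c)) = cAt φ A := by
    funext a c; exact pairPt_self φ _
  simp only [e, pairPt_Msys_self, not_exists, not_and]

end GrothLib.OrdQuad12
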