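import Groth.Agent.Lib.OrdQuad12.Degen

/-!
# Excluding degenerate and pairs of double zeros near a nondegenerate one, in a family
-/

set_option autoImplicit false
set_option linter.all false
set_option maxHeartbeats 1000000
universe u

open TensorProduct

noncomputable section

namespace GrothLib.OrdQuad12

open GrothLib.DualVar12 (pk pk_isMaximal)

variable {k : Type u} [Field k] [IsAlgClosed k] {B : Type u} [CommRing B] [Algebra k B] {n N M : ℕ}

/-- The member of a linear system with coefficients depending polynomially on parameters and on the point. -/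
def member (g : Fin N → B) (E : Fin N → MvPolynomial (Fin M) B) (ψ : B →ₐ[k] k) (v : Fin M → k) : B :=
  ∑ l, MvPolynomial.eval v (MvPolynomial.map ψ.toRingHom (E l)) • g l

theorem exists_diag [Algebra.FormallySmooth k B] (F : Frame k B n) (g : Fin N → B)
    (E : Fin N → MvPolynomial (Fin M) B) (φ : B →ₐ[k] k) (v₀ : Fin M → k)
    (hn : NondegAt (pk φ) (member g E φ v₀)) :
    ∃ D : MvPolynomial (Fin M) (B ⊗[k] B),
      MvPolynomial.eval v₀ (MvPolynomial.map (pairPt φ φ).toRingHom D) ≠ 0 ∧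
      ∀ (ψ ψ' : B →ₐ[k] k) (v : Fin M → k),
        MvPolynomial.eval v (MvPolynomial.map (pairPt ψ ψ').toRingHom D) ≠ 0 →
        member g E ψ v ∈ pk ψ ^ 2 → member g E ψ v ∈ pk ψ' ^ 2 →
        ψ' = ψ ∧ ¬ Degen (pk ψ) (member g E ψ v) := by
  classical
  choose A hA using fun l => F.hexp (g l)
  have hexpand : ∀ c : Fin N → k, F.s * rem F.u F.g (∑ l, c l • g l) =
      ∑ a, ∑ a', (∑ l, c l • A l a a') * δ (k := k) (F.u a) * δ (k := k) (F.u a') := by
    intro c
    have hrem : rem F.u F.g (∑ l, c l • g l) = ∑ l, c l • rem F.u F.g (g l) := by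
      simp only [rem, δ, map_sum, map_smul, Derivation.map_smul, TensorProduct.tmul_sum, TensorProduct.sum_tmul,
        TensorProduct.tmul_smul, ← TensorProduct.smul_tmul', smul_sub, Finset.sum_sub_distrib, Finset.smul_sum,
        Finset.sum_mul, smul_mul_assoc]
      rw [Finset.sum_comm]
    rw [hrem, Finset.mul_sum]
    simp only [mul_smul_comm, hA, Finset.smul_sum, Finset.sum_mul, smul_mul_assoc]
    rw [Finset.sum_comm]
    exact Finset.sum_congr rfl fun a _ => Finset.sum_comm
  let inc : B →+* B ⊗[k] B := algebraMap B (B ⊗[k] B)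
  let R := MvPolynomial (Fin M) (B ⊗[k] B)
  let AP : Fin n → Fin n → R := fun a a' => ∑ l, MvPolynomial.map inc (E l) * MvPolynomial.C (A l a a')
  let MP : Fin n → Fin n → R := fun a a' => ∑ l, MvPolynomial.map inc (E l) * MvPolynomial.C (Msys F (A l) a a')
  let evc : (Fin M → k) → (B →ₐ[k] k) → (B →ₐ[k] k) → R →+* k := fun v ψ ψ' =>
    (MvPolynomial.eval v).comp (MvPolynomial.map (pairPt ψ ψ').toRingHom)
  have heC : ∀ v ψ ψ' w, evc v ψ ψ' (MvPolynomial.C w) = pairPt ψ ψ' w := fun v ψ ψ' w => by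
    show MvPolynomial.eval v (MvPolynomial.map _ _) = _
    rw [MvPolynomial.map_C, MvPolynomial.eval_C]
    rfl
  have heE : ∀ v ψ ψ' l, evc v ψ ψ' (MvPolynomial.map inc (E l)) =
      MvPolynomial.eval v (MvPolynomial.map ψ.toRingHom (E l)) := fun v ψ ψ' l => by
    show MvPolynomial.eval v (MvPolynomial.map _ _) = _
    rw [MvPolynomial.map_map, show (pairPt ψ ψ').toRingHom.comp inc = ψ.toRingHom from RingHom.ext fun x => by
      simp [inc, pairPt, Algebra.TensorProduct.algebraMap_apply]]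
  have heA : ∀ v ψ ψ' a a', evc v ψ ψ' (AP a a') =
      pairPt ψ ψ' (∑ l, MvPolynomial.eval v (MvPolynomial.map ψ.toRingHom (E l)) • A l a a') := fun v ψ ψ' a a' => by
    simp only [AP, map_sum, map_mul, heC, heE, map_smul, smul_eq_mul]
  have hMs : ∀ (c : Fin N → k) (ψ ψ' : B →ₐ[k] k) a a',
      pairPt ψ ψ' (Msys F (fun x y => ∑ l, c l • A l x y) a a') = ∑ l, c l * pairPt ψ ψ' (Msys F (A l) a a') := by
    intro c ψ ψ' a a'
    simp only [Msys, map_add, map_sum, map_smul, map_mul, smul_eq_mul, mul_add, Finset.mul_sum, Finset.sum_mul,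
      Finset.sum_add_distrib, mul_assoc]
    rw [Finset.sum_comm]
  have heM : ∀ v ψ ψ' a a', evc v ψ ψ' (MP a a') = pairPt ψ ψ'
      (Msys F (fun x y => ∑ l, MvPolynomial.eval v (MvPolynomial.map ψ.toRingHom (E l)) • A l x y) a a') :=
    fun v ψ ψ' a a' => by
      rw [hMs]
      simp only [MP, map_sum, map_mul, heC, heE]
  have hnz := (nondeg_iff_no_zero F φ hn.1 _ (hexpand _)).mp hn.2
  obtain ⟨D, hD0, hD⟩ := exists_open_no_zero MP AP (evc v₀ φ φ)
    (fun t => ⟨MvPolynomial.C (algebraMap k _ t), by rw [heC, AlgHom.commutes]; rfl⟩)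
    (by simpa only [heA, heM] using hnz)
  refine ⟨D * MvPolynomial.C F.s, ?_, fun ψ ψ' v hne h1 h2 => ?_⟩
  · show evc v₀ φ φ (D * MvPolynomial.C F.s) ≠ 0
    rw [map_mul, heC, pairPt_self, F.hs, map_one, mul_one]
    exact hD0
  · change evc v ψ ψ' (D * MvPolynomial.C F.s) ≠ 0 at hne
    rw [map_mul, heC, mul_ne_zero_iff] at hne
    obtain ⟨hq, hlin⟩ := pair_eqs F ψ ψ' h1 h2 _ (hexpand _)
    have hno := hD (evc v ψ ψ') hne.1
    simp only [heA, heM] at hno
    have hzero : (fun a => ψ' (F.u a) - ψ (F.u a)) = 0 := by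
      by_contra hv
      exact hno _ hv hq hlin
    obtain rfl := eq_of_u_eq F ψ ψ' hne.2 fun a => sub_eq_zero.mp (congrFun hzero a)
    exact ⟨rfl, (nondeg_iff_no_zero F ψ' h1 _ (hexpand _)).mpr fun w hw0 hw1 hw2 => hno w hw0 hw1 hw2⟩

end GrothLib.OrdQuad12
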