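import Groth.Agent.Lib.OrdQuad12.Scheme

/-!
# Forms with a prescribed nondegenerate double zero
-/

set_option autoImplicit false
set_option linter.all false
set_option maxHeartbeats 1000000
set_option backward.isDefEq.respectTransparency false
set_option backward.isDefEq.respectTransparency.types false
universe u

open CategoryTheory CategoryTheory.Limits AlgebraicGeometry TopologicalSpace IsLocalRing

noncomputable section

namespace GrothLib.OrdQuad12

open GrothLib.DualVar12 GrothLib.Jets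

attribute [local instance] constAlgebra

variable {k : Type u} [Field k]

/-- Degree two in generators suffices modulo the cube of a rational maximal ideal. -/
theorem exists_quad_mod_cube {B : Type u} [CommRing B] [Algebra k B] {N : ℕ} (c : Fin N → B) (j : Fin N)
    (hj : c j = 1) (hgen : ∀ b : B, ∃ a : MvPolynomial (Fin N) k, MvPolynomial.aeval c a = b) (φ : B →ₐ[k] k)
    (b : B) : ∃ w ∈ Submodule.span k (Set.range fun q : Fin N × Fin N => c q.1 * c q.2), b - w ∈ pk φ ^ 3 := by
  classical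
  set W := Submodule.span k (Set.range fun q : Fin N × Fin N => c q.1 * c q.2)
  have hcc : ∀ a b, c a * c b ∈ W := fun a b => Submodule.subset_span ⟨(a, b), rfl⟩
  have hc1 : ∀ a, c a ∈ W := fun a => by simpa [hj] using hcc a j
  have h1 : (1 : B) ∈ W := hj ▸ hc1 j
  let y : Fin N → B := fun a => c a - algebraMap k B (φ (c a))
  have hy : ∀ a, y a ∈ pk φ := fun a => by simp [y, RingHom.mem_ker]
  let P : Submodule k B := W ⊔ (pk φ ^ 3).restrictScalars k
  have hWP : W ≤ P := le_sup_left
  have h3 : ∀ a b l, c a * c b * c l ∈ P := by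
    intro a b l
    have e : c a * c b * c l = y a * y b * y l + (φ (c a) • (c b * c l) + φ (c b) • (c a * c l) + φ (c l) • (c a * c b)
        - (φ (c a) * φ (c b)) • c l - (φ (c a) * φ (c l)) • c b - (φ (c b) * φ (c l)) • c a
        + (φ (c a) * φ (c b) * φ (c l)) • (1 : B)) := by
      simp only [y, Algebra.smul_def, map_mul]
      ring
    rw [e]
    refine add_mem (Submodule.mem_sup_right ?_) (hWP ?_)
    · show y a * y b * y l ∈ pk φ ^ 3
      rw [pow_succ, pow_two]
      exact Ideal.mul_mem_mul (Ideal.mul_mem_mul (hy a) (hy b)) (hy l)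
    · exact add_mem (sub_mem (sub_mem (sub_mem (add_mem (add_mem (W.smul_mem _ (hcc _ _)) (W.smul_mem _ (hcc _ _)))
        (W.smul_mem _ (hcc _ _))) (W.smul_mem _ (hc1 _))) (W.smul_mem _ (hc1 _))) (W.smul_mem _ (hc1 _))) (W.smul_mem _ h1)
  have hmul : ∀ x ∈ P, ∀ l, x * c l ∈ P := by
    intro x hx l
    obtain ⟨w, hw, p, hp, rfl⟩ := Submodule.mem_sup.mp hx
    rw [add_mul]
    refine add_mem ?_ (Submodule.mem_sup_right (Ideal.mul_mem_right (c l) _ hp))
    clear hx
    induction hw using Submodule.span_induction with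
    | mem x hx => obtain ⟨⟨a, b⟩, rfl⟩ := hx; exact h3 a b l
    | zero => simp
    | add x y _ _ hx hy => rw [add_mul]; exact add_mem hx hy
    | smul r x _ hx => rw [smul_mul_assoc]; exact P.smul_mem r hx
  have hb : b ∈ P := by
    obtain ⟨a, rfl⟩ := hgen b
    induction a using MvPolynomial.induction_on with
    | C r => rw [MvPolynomial.aeval_C, Algebra.algebraMap_eq_smul_one]; exact P.smul_mem r (hWP h1)
    | add p q hp hq => rw [map_add]; exact add_mem hp hq
    | mul_X p l hp => rw [map_mul, MvPolynomial.aeval_X]; exact hmul _ hp l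
  obtain ⟨w, hw, p, hp, e⟩ := Submodule.mem_sup.mp hb
  refine ⟨w, hw, ?_⟩
  rw [← e, add_sub_cancel_left]
  exact hp

variable [IsAlgClosed k] {r : ℕ} {X : Scheme.{u}} (i : X ⟶ CohB1.ProjSpace r k)
  [IsClosedImmersion i] [X.Over (Spec (CommRingCat.of k))]
  (hi : i ≫ CohB1.ProjSpace.toSpec r k = X ↘ Spec (CommRingCat.of k))
  [IsIntegral X] {m : ℕ} [SmoothOfRelativeDimension (m + 1) (X ↘ Spec (CommRingCat.of k))]

include hi m in
omit [IsIntegral X] in
/-- Forms of degree at least two have all second jets. -/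
theorem jets₂ {d : ℕ} (hd : 2 ≤ d) {j : Fin (r + 1)} (V : X.affineOpens) (hV : V.1 ≤ (chartX i j).1)
    (φ : Γ(X, V.1) →ₐ[k] k) (T : Γ(X, V.1)) : ∃ H : LefPen.Form r k d, evOn i V hV H - T ∈ pk φ ^ 3 := by
  haveI := pk_isMaximal φ
  haveI : Smooth (X ↘ Spec (CommRingCat.of k)) := SmoothOfRelativeDimension.smooth (m + 1) _
  haveI := finiteType_chart i hi j
  let x := V.2.fromSpec ⟨pk φ, (pk_isMaximal φ).isPrime⟩
  have hxV : x ∈ V.1 := point_mem V φ
  obtain ⟨ψ, hψ⟩ := exists_char_of_closed (k := k) (chartX i j) x (isClosed_point V φ) (hV hxV)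
  haveI := pk_isMaximal ψ
  let S := X.presheaf.stalk x
  letI aV : Algebra Γ(X, V.1) S := TopCat.Presheaf.algebra_section_stalk X.presheaf ⟨_, hxV⟩
  haveI : IsLocalization.AtPrime S (pk φ) := V.2.isLocalization_stalk' ⟨pk φ, (pk_isMaximal φ).isPrime⟩ hxV
  letI aU : Algebra Γ(X, (chartX i j).1) S := TopCat.Presheaf.algebra_section_stalk X.presheaf ⟨_, hV hxV⟩
  haveI : IsLocalization.AtPrime S (pk ψ) := by
    have h := (chartX i j).2.isLocalization_stalk ⟨x, hV hxV⟩
    have e : (chartX i j).2.primeIdealOf ⟨x, hV hxV⟩ = ⟨pk ψ, (pk_isMaximal ψ).isPrime⟩ :=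
      (chartX i j).2.fromSpec.isOpenEmbedding.injective (((chartX i j).2.fromSpec_primeIdealOf _).trans hψ)
    rw [e] at h
    exact h
  obtain ⟨b, hb⟩ := surj_atPrime S (pk ψ) 3 (algebraMap Γ(X, V.1) S T)
  obtain ⟨w, hw, hw'⟩ := exists_quad_mod_cube (coord i j) j (coord_self i j) (exists_aeval_coord i hi j) ψ b
  let e : LefPen.Form r k d →ₗ[k] Γ(X, (chartX i j).1) :=
    (MvPolynomial.aeval (coord i j)).toLinearMap.comp (CohB1.polyGrading r k d).subtype
  have hrange : w ∈ LinearMap.range e := by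
    refine Submodule.span_le.mpr ?_ hw
    rintro _ ⟨⟨a, c⟩, rfl⟩
    have hmem : (MvPolynomial.X a * MvPolynomial.X c * MvPolynomial.X j ^ (d - 2) :
        MvPolynomial (Fin (r + 1)) k) ∈ CohB1.polyGrading r k d := by
      have := ((MvPolynomial.isHomogeneous_X k a).mul (MvPolynomial.isHomogeneous_X k c)).mul
        ((MvPolynomial.isHomogeneous_X k j).pow (d - 2))
      rw [one_mul, show 1 + 1 + (d - 2) = d by omega] at this
      exact this
    refine ⟨⟨_, hmem⟩, ?_⟩
    show MvPolynomial.aeval (coord i j) (MvPolynomial.X a * MvPolynomial.X c * MvPolynomial.X j ^ (d - 2)) = _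
    simp [map_mul, map_pow, coord_self]
  obtain ⟨H, rfl⟩ := hrange
  refine ⟨H, (mem_pow_atPrime S (pk φ) 3 _).mp ?_⟩
  rw [map_sub, show algebraMap Γ(X, V.1) S (evOn i V hV H) = algebraMap Γ(X, (chartX i j).1) S (e H) from
    germ_evOn i V hV H x hxV]
  have h1 := (mem_pow_atPrime S (pk ψ) 3 _).mpr hw'
  rw [map_sub] at h1
  have := neg_mem (add_mem h1 hb)
  convert this using 1
  ring

include hi m in
/-- A form with a nondegenerate double zero at a given point. -/
theorem exists_nondegX {d : ℕ} (hd : 2 ≤ d) (x : X) (hx : IsClosed ({x} : Set X)) :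
    ∃ H : LefPen.Form r k d, NondegX i x H := by
  haveI : Smooth (X ↘ Spec (CommRingCat.of k)) := SmoothOfRelativeDimension.smooth (m + 1) _
  obtain ⟨j, hj⟩ := exists_chart_mem i x
  obtain ⟨V, hV, φ, hφ, ⟨F⟩⟩ := exists_frame_nhd i hi (m := m) x hx j hj
  haveI : Algebra.Smooth k Γ(X, V.1) := smooth_constHom V
  obtain ⟨c, hc⟩ := exists_not_degQ (k := k) (m + 1)
  let T := ∑ a, ∑ b, algebraMap k Γ(X, V.1) (c a b) * uc F φ a * uc F φ b
  obtain ⟨H, hH⟩ := jets₂ i hi (m := m) hd V hV φ T
  refine ⟨H, (nondegX_point_iff i hi V hV φ H x hφ).mpr ⟨?_, fun hdeg => hc ?_⟩⟩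
  · have hT : T ∈ pk φ ^ 2 := sum_mem fun a _ => sum_mem fun b _ => by
      rw [mul_assoc, pow_two]
      exact Ideal.mul_mem_left _ _ (Ideal.mul_mem_mul (sub_mem_pk φ _) (sub_mem_pk φ _))
    simpa using add_mem (Ideal.pow_le_pow_right (show 2 ≤ 3 by norm_num) hH) hT
  · exact (degen_iff F φ (uc F φ) (fun a => sub_mem_pk φ _)
      (by simp only [lin_uc]; exact Function.bijective_id) c hH).mp hdeg

end GrothLib.OrdQuad12
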