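import Groth.Agent.Lib.OrdQuad12.ConeDual

/-!
# General pencils through a transversal form are Lefschetz pencils
-/

set_option autoImplicit false
set_option linter.all false
set_option maxHeartbeats 1000000
set_option backward.isDefEq.respectTransparency false
set_option backward.isDefEq.respectTransparency.types false
universe u

open CategoryTheory CategoryTheory.Limits AlgebraicGeometry TopologicalSpace IsLocalRing

noncomputable section

namespace GrothLib.OrdQuad12

open GrothLib.DualVar12 GrothLib.Jets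

attribute [local instance] constAlgebra

variable {k : Type u} [Field k] [IsAlgClosed k] {r : ℕ} {X : Scheme.{u}} (i : X ⟶ CohB1.ProjSpace r k)
  [IsClosedImmersion i] [X.Over (Spec (CommRingCat.of k))]
  (hi : i ≫ CohB1.ProjSpace.toSpec r k = X ↘ Spec (CommRingCat.of k))
  [IsIntegral X] {m : ℕ} [SmoothOfRelativeDimension (m + 1) (X ↘ Spec (CommRingCat.of k))]
  [IsProper (X ↘ Spec (CommRingCat.of k))]

include hi m in
omit [IsProper (X ↘ Spec (CommRingCat.of k))] in
/-- Forms of degree at least one have all first jets. -/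
theorem jets₁ {d : ℕ} (hd : 1 ≤ d) {j : Fin (r + 1)} (V : X.affineOpens) (hV : V.1 ≤ (chartX i j).1)
    (φ : Γ(X, V.1) →ₐ[k] k) (T : Γ(X, V.1)) : ∃ H : LefPen.Form r k d, evOn i V hV H - T ∈ pk φ ^ 2 := by
  haveI := pk_isMaximal φ
  haveI : Smooth (X ↘ Spec (CommRingCat.of k)) := SmoothOfRelativeDimension.smooth (m + 1) _
  haveI := finiteType_chart i hi j
  let x := V.2.fromSpec ⟨pk φ, (pk_isMaximal φ).isPrime⟩
  have hxV : x ∈ V.1 := point_mem V φ
  obtain ⟨ψ, hψ⟩ := exists_char_of_closed (k := k) (chartX i j) x (isClosed_point V φ) (hV hxV)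
  haveI := pk_isMaximal ψ
  let S := X.presheaf.stalk x
  letI aV : Algebra Γ(X, V.1) S := TopCat.Presheaf.algebra_section_stalk X.presheaf ⟨_, hxV⟩
  haveI : IsLocalization.AtPrime S (pk φ) := V.2.isLocalization_stalk' ⟨pk φ, (pk_isMaximal φ).isPrime⟩ hxV
  letI aU : Algebra Γ(X, (chartX i j).1) S := TopCat.Presheaf.algebra_section_stalk X.presheaf ⟨_, hV hxV⟩
  haveI : IsLocalization.AtPrime S (pk ψ) := by
    have h := (chartX i j).2.isLocalization_stalk ⟨x, hV hxV⟩
    have e : (chartX i j).2.primeIdealOf ⟨x, hV hxV⟩ = ⟨pk ψ, (pk_isMaximal ψ).isPrime⟩ :=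
      (chartX i j).2.fromSpec.isOpenEmbedding.injective (((chartX i j).2.fromSpec_primeIdealOf _).trans hψ)
    rw [e] at h
    exact h
  obtain ⟨b, hb⟩ := surj_atPrime S (pk ψ) 2 (algebraMap Γ(X, V.1) S T)
  obtain ⟨c, hc⟩ := jets_of_generators (coord i j) j (coord_self i j) (exists_aeval_coord i hi j) (pk ψ) b
  let e : LefPen.Form r k d →ₗ[k] Γ(X, (chartX i j).1) :=
    (MvPolynomial.aeval (coord i j)).toLinearMap.comp (CohB1.polyGrading r k d).subtype
  have hmem : ∀ l, (MvPolynomial.X l * MvPolynomial.X j ^ (d - 1) :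
      MvPolynomial (Fin (r + 1)) k) ∈ CohB1.polyGrading r k d := fun l => by
    have := (MvPolynomial.isHomogeneous_X k l).mul ((MvPolynomial.isHomogeneous_X k j).pow (d - 1))
    rwa [one_mul, show 1 + (d - 1) = d by omega] at this
  let H : LefPen.Form r k d := ∑ l, c l • ⟨_, hmem l⟩
  have hw' : b - e H ∈ pk ψ ^ 2 := by
    convert hc using 2
    simp only [H, map_sum, map_smul]
    refine Finset.sum_congr rfl fun l _ => ?_
    congr 1
    show MvPolynomial.aeval (coord i j) (MvPolynomial.X l * MvPolynomial.X j ^ (d - 1)) = coord i j l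
    simp [map_mul, map_pow, coord_self]
  refine ⟨H, (mem_pow_atPrime S (pk φ) 2 _).mp ?_⟩
  rw [map_sub, show algebraMap Γ(X, V.1) S (evOn i V hV H) = algebraMap Γ(X, (chartX i j).1) S (e H) from
    germ_evOn i V hV H x hxV]
  have h1 := (mem_pow_atPrime S (pk ψ) 2 _).mpr hw'
  rw [map_sub] at h1
  have := neg_mem (add_mem h1 hb)
  convert this using 1
  ring

include hi in
/-- Finitely many framed affine opens contain all closed points. -/
theorem exists_finite_frames :
    ∃ (ι : Type u) (_ : Fintype ι) (j : ι → Fin (r + 1)) (V : ι → X.affineOpens),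
      (∀ p, (V p).1 ≤ (chartX i (j p)).1) ∧ (∀ p, Nonempty (Frame k Γ(X, (V p).1) (m + 1))) ∧
      ∀ x : X, ∃ p, x ∈ (V p).1 := by
  classical
  haveI : Smooth (X ↘ Spec (CommRingCat.of k)) := SmoothOfRelativeDimension.smooth (m + 1) _
  haveI : JacobsonSpace X := LocallyOfFiniteType.jacobsonSpace (X ↘ Spec (CommRingCat.of k))
  haveI : CompactSpace X := QuasiCompact.compactSpace_of_compactSpace (X ↘ Spec (CommRingCat.of k))
  let J := {x : X // IsClosed ({x} : Set X)}
  choose j hj using fun x : J => exists_chart_mem i x.1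
  choose V hV φ hφ hF using fun x : J => exists_frame_nhd i hi (m := m) x.1 x.2 (j x) (hj x)
  have hcov : ∀ x : X, ∃ p : J, x ∈ (V p).1 := by
    by_contra hcon
    push Not at hcon
    obtain ⟨x, hx⟩ := hcon
    let Z : Set X := (⋃ p : J, ((V p).1 : Set X))ᶜ
    have hZ : IsClosed Z := (isOpen_iUnion fun p => (V p).1.2).isClosed_compl
    obtain ⟨z, hzZ, hzc⟩ := nonempty_inter_closedPoints (Z := Z) ⟨x, by simpa [Z] using hx⟩ hZ.isLocallyClosed
    exact hzZ (Set.mem_iUnion.mpr ⟨⟨z, hzc⟩, by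
      have h := hφ ⟨z, hzc⟩
      exact (congrArg (· ∈ (V ⟨z, hzc⟩).1) h).mpr (point_mem _ _)⟩)
  obtain ⟨s, hs⟩ := isCompact_univ.elim_finite_subcover (fun p : J => ((V p).1 : Set X)) (fun p => (V p).1.2)
    fun x _ => Set.mem_iUnion.mpr (hcov x)
  refine ⟨s, inferInstance, fun p => j p.1, fun p => V p.1, fun p => hV p.1, fun p => hF p.1, fun x => ?_⟩
  have := hs (Set.mem_univ x)
  simp only [Set.mem_iUnion] at this
  obtain ⟨p, hp, hxp⟩ := this
  exact ⟨⟨p, hp⟩, hxp⟩

variable {d : ℕ} {N : ℕ} (b : Module.Basis (Fin N) k (LefPen.Form r k d))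

include m in
omit [IsProper (X ↘ Spec (CommRingCat.of k))] in
theorem locally_std (V : X.affineOpens) :
    RingHom.Locally (RingHom.IsStandardSmoothOfRelativeDimension (m + 1)) (algebraMap k Γ(X, V.1)) := by
  suffices hS : SmoothOfRelativeDimension (m + 1) (Spec.map (CommRingCat.ofHom (algebraMap k Γ(X, V.1)))) by
    exact (HasRingHomProperty.Spec_iff (P := @SmoothOfRelativeDimension (m + 1))
      (φ := CommRingCat.ofHom (algebraMap k Γ(X, V.1)))).mp hS
  have e := fromSpec_over (k := k) V.2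
  rw [show CommRingCat.ofHom (constHom (k := k) V.1) = CommRingCat.ofHom (algebraMap k Γ(X, V.1)) from rfl] at e
  rw [← e]
  exact IsZariskiLocalAtSource.comp (P := @SmoothOfRelativeDimension (m + 1)) inferInstance _

include hi m in
/-- The base locus of a general pencil through a transversal form is transversal. -/
theorem exists_base_generic (hd : 1 ≤ d) (H₀ : LefPen.Form r k d) (hH₀ : ¬ Bad i H₀) :
    ∃ P : MvPolynomial (Fin N) k, P ≠ 0 ∧
      ∀ G : LefPen.Form r k d, MvPolynomial.eval (b.equivFun G) P ≠ 0 → ¬ BadBase i H₀ G := by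
  classical
  haveI : Smooth (X ↘ Spec (CommRingCat.of k)) := SmoothOfRelativeDimension.smooth (m + 1) _
  obtain ⟨ι, _, j, V, hV, hF, hcov⟩ := exists_finite_frames i hi (m := m)
  have F := fun p => (hF p).some
  have hnb : ∀ p (ψ : Γ(X, (V p).1) →ₐ[k] k), evOn i (V p) (hV p) H₀ ∉ pk ψ ^ 2 := fun p ψ h =>
    hH₀ ((bad_iff_closed i hi (m := m) H₀).mpr
      ⟨_, isClosed_point (V p) ψ, (badX_point_iff i hi (V p) (hV p) ψ H₀ _ rfl).mpr h⟩)
  have key : ∀ p (a₀ : Fin (m + 1)), ∃ P : MvPolynomial (Fin N) k, P ≠ 0 ∧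
      ∀ G : LefPen.Form r k d, MvPolynomial.eval (b.equivFun G) P ≠ 0 →
      ∀ ψ : Γ(X, (V p).1) →ₐ[k] k, ψ ((F p).g a₀ (evOn i (V p) (hV p) H₀)) ≠ 0 →
        ψ (evOn i (V p) (hV p) H₀) = 0 → ψ (evOn i (V p) (hV p) G) = 0 →
        ∀ s t : k, (s ≠ 0 ∨ t ≠ 0) → evOn i (V p) (hV p) (s • H₀ + t • G) ∉ pk ψ ^ 2 := by
    intro p a₀
    by_cases hne : ∃ ψ : Γ(X, (V p).1) →ₐ[k] k, True
    swap
    · exact ⟨1, one_ne_zero, fun G _ ψ => absurd ⟨ψ, trivial⟩ hne⟩
    obtain ⟨ψ₀, -⟩ := hne
    haveI : Nonempty (V p).1 := ⟨⟨_, point_mem (V p) ψ₀⟩⟩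
    haveI : Algebra.Smooth k Γ(X, (V p).1) := smooth_constHom (V p)
    let B := Γ(X, (V p).1)
    let h := evOn i (V p) (hV p) H₀
    have hne0 : h ≠ 0 := fun e => hnb p ψ₀ (by rw [show evOn i (V p) (hV p) H₀ = 0 from e]; exact zero_mem _)
    let M : Matrix (Fin (m + 1)) (Fin N) B := Matrix.of fun a l => Fin.cases (evOn i (V p) (hV p) (b l))
      (fun a' => (F p).g (a₀.succAbove a') (evOn i (V p) (hV p) (b l)) * (F p).g a₀ h -
        (F p).g a₀ (evOn i (V p) (hV p) (b l)) * (F p).g (a₀.succAbove a') h) a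
    have hM : ∀ (ψ : B →ₐ[k] k) (G : LefPen.Form r k d) (a : Fin (m + 1)),
        ∑ l, ψ (M a l) * b.equivFun G l = Fin.cases (ψ (evOn i (V p) (hV p) G))
          (fun a' => ψ ((F p).g (a₀.succAbove a') (evOn i (V p) (hV p) G)) * ψ ((F p).g a₀ h) -
            ψ ((F p).g a₀ (evOn i (V p) (hV p) G)) * ψ ((F p).g (a₀.succAbove a') h)) a := by
      intro ψ G a
      refine Fin.cases ?_ (fun a' => ?_) a
      · simp only [M, Matrix.of_apply, Fin.cases_zero, ← sum_evOn i b (V p) (hV p) G, map_sum]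
        exact Finset.sum_congr rfl fun l _ => by rw [map_smul, smul_eq_mul, mul_comm]
      · simp only [M, Matrix.of_apply, Fin.cases_succ, ← sum_evOn i b (V p) (hV p) G, map_sum, map_sub, map_mul,
          Finset.sum_mul, ← Finset.sum_sub_distrib]
        refine Finset.sum_congr rfl fun l _ => ?_
        simp only [Derivation.map_smul, map_smul, smul_eq_mul]
        ring
    obtain ⟨P, hP0, hP⟩ := exists_ne_zero_count (k := k) (Ideal.span {h}) ((F p).g a₀ h) M 0 (fun q hIq hgq => by
      obtain ⟨t, ht, -, htlt⟩ := trdeg_residue_le (k := k) (locally_std (m := m) (V p)) q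
      have hqb : q.asIdeal ≠ ⊥ := fun e => hne0 (by
        have := hIq (Ideal.mem_span_singleton_self h)
        rwa [e, Ideal.mem_bot] at this)
      refine ⟨m + 1, id, t, ht, htlt hqb, ?_⟩
      haveI : Algebra.FiniteType k B := inferInstance
      haveI : IsJacobsonRing B := isJacobsonRing_of_finiteType (A := k) (B := B)
      obtain ⟨Mx, hMx, hqM, hgM⟩ : ∃ Mx : Ideal B, Mx.IsMaximal ∧ q.asIdeal ≤ Mx ∧ (F p).g a₀ h ∉ Mx := by
        by_contra hall
        push Not at hall
        refine hgq ?_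
        rw [← q.2.isRadical.radical, Ideal.radical_eq_jacobson]
        exact Submodule.mem_sInf.mpr fun Mx hMx => hall Mx hMx.2 hMx.1
      obtain ⟨ψ, hψ⟩ := exists_point (k := k) Mx
      rw [Matrix.submatrix_id_id]
      refine surjective_residue M ψ q.asIdeal (le_of_le_of_eq hqM hψ.symm) (surjective_of_no_relation _ fun z hz => ?_)
      have hg : ψ ((F p).g a₀ h) ≠ 0 := fun e => hgM (hψ.le (show (F p).g a₀ h ∈ pk ψ from e))
      have hall : ∀ G : LefPen.Form r k d, ∑ a, z a * ∑ l, ψ (M a l) * b.equivFun G l = 0 := fun G => by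
        simp only [Finset.mul_sum]
        rw [Finset.sum_comm]
        refine Finset.sum_eq_zero fun l _ => ?_
        have := hz l
        simp only [Matrix.map_apply] at this
        rw [← mul_zero (b.equivFun G l), ← this, Finset.mul_sum]
        exact Finset.sum_congr rfl fun a _ => by ring
      have hjets : ∀ T : B, ∃ G : LefPen.Form r k d, evOn i (V p) (hV p) G - T ∈ pk ψ ^ 2 :=
        fun T => jets₁ i hi (m := m) hd (V p) (hV p) ψ T
      have hz' : ∀ T : B, z 0 * ψ T + ∑ a : Fin m, z a.succ * (ψ ((F p).g (a₀.succAbove a) T) * ψ ((F p).g a₀ h) -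
          ψ ((F p).g a₀ T) * ψ ((F p).g (a₀.succAbove a) h)) = 0 := by
        intro T
        obtain ⟨G, hG⟩ := hjets T
        have h0 : ψ T = ψ (evOn i (V p) (hV p) G) := by
          have : ψ (evOn i (V p) (hV p) G - T) = 0 := Ideal.pow_le_self two_ne_zero hG
          rw [map_sub, sub_eq_zero] at this
          exact this.symm
        have h1 : ∀ a, ψ ((F p).g a T) = ψ ((F p).g a (evOn i (V p) (hV p) G)) := fun a => by
          have := deriv_apply_eq_zero (F p) ψ a hG
          rw [map_sub, map_sub, sub_eq_zero] at this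
          exact this.symm
        have := hall G
        simp only [hM, Fin.sum_univ_succ, Fin.cases_zero, Fin.cases_succ] at this
        simp only [h0, h1]
        exact this
      funext a
      refine Fin.cases ?_ (fun a' => ?_) a
      · simpa using hz' 1
      · have := hz' (uc (F p) ψ (a₀.succAbove a'))
        simp only [g_uc, apply_ite ψ, map_one, map_zero, Fin.succAbove_right_inj,
          (Fin.succAbove_ne a₀ a').symm, if_false, zero_mul, sub_zero, ite_mul, one_mul, mul_ite, mul_zero,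
          Finset.sum_ite_eq', Finset.mem_univ, if_true, show ψ (uc (F p) ψ (a₀.succAbove a')) = 0 from sub_mem_pk ψ _,
          zero_add] at this
        simpa [hg] using this)
    refine ⟨P, hP0, fun G hG ψ hg h0 hG0 s t hst hsq => ?_⟩
    obtain ⟨a, ha⟩ := hP ψ (b.equivFun G) (fun x hx => by
      obtain ⟨c, rfl⟩ := Ideal.mem_span_singleton'.mp hx
      rw [map_mul, h0, mul_zero]) hg hG
    refine ha ?_
    rw [Pi.zero_apply, map_zero, zero_add, hM]
    have ht : t ≠ 0 := by
      intro e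
      subst e
      have hs := hst.resolve_right (by simp)
      rw [evOn_comb, zero_smul, add_zero, Algebra.smul_def] at hsq
      refine hnb p ψ ((Ideal.unit_mul_mem_iff_mem _ ?_).mp hsq)
      exact (isUnit_iff_ne_zero.mpr hs).map _
    rw [evOn_comb] at hsq
    have hd' : ∀ l, s * ψ ((F p).g l h) + t * ψ ((F p).g l (evOn i (V p) (hV p) G)) = 0 := fun l => by
      have := deriv_apply_eq_zero (F p) ψ l hsq
      rwa [map_add, Derivation.map_smul, Derivation.map_smul, map_add, map_smul, map_smul] at this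
    refine Fin.cases ?_ (fun a' => ?_) a
    · simpa using hG0
    · simp only [Fin.cases_succ]
      refine (mul_eq_zero.mp ?_).resolve_left ht
      linear_combination ψ ((F p).g a₀ h) * hd' (a₀.succAbove a') - ψ ((F p).g (a₀.succAbove a') h) * hd' a₀
  choose P hP0 hP using key
  refine ⟨∏ p, ∏ a₀, P p a₀,
    Finset.prod_ne_zero_iff.mpr fun p _ => Finset.prod_ne_zero_iff.mpr fun a _ => hP0 p a, fun G hG => ?_⟩
  rintro ⟨x, hx, j', hj', hF0, hG0, s, t, hst, hbad⟩
  obtain ⟨p, hp⟩ := hcov x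
  haveI : Algebra.Smooth k Γ(X, (V p).1) := smooth_constHom (V p)
  obtain ⟨ψ, hψ⟩ := exists_char_of_closed (k := k) (V p) x hx hp
  have hm : ∀ H : LefPen.Form r k d, (X.presheaf.germ (chartX i j').1 _ hj').hom (ev i j' H) ∈
      maximalIdeal (X.presheaf.stalk _) → ψ (evOn i (V p) (hV p) H) = 0 := fun H hH => by
    rw [← germ_mem_iff (V p) ψ _ hψ hp, germ_evOn i (V p) (hV p) H _ hp]
    exact Ideal.mem_of_dvd _ (germ_dvd i hi hj' (hV p hp) H) hH
  obtain ⟨a₀, ha₀⟩ : ∃ a₀, ψ ((F p).g a₀ (evOn i (V p) (hV p) H₀)) ≠ 0 := by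
    by_contra hall
    push Not at hall
    exact hnb p ψ ((mem_sq_iff (F p) ψ _).mpr ⟨hm _ hF0, hall⟩)
  simp only [map_prod] at hG
  exact hP p a₀ G (Finset.prod_ne_zero_iff.mp (Finset.prod_ne_zero_iff.mp hG p (Finset.mem_univ _)) a₀
    (Finset.mem_univ _)) ψ ha₀ (hm _ hF0) (hm _ hG0) s t hst ((badX_point_iff i hi (V p) (hV p) ψ _ x hψ).mp hbad)

include hi m in
/-- General pencils through a transversal form are Lefschetz, given the codimension of bad forms. -/
theorem isGeneric_through (hd : 1 ≤ d)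
    (h : (∃ H : LefPen.Form r k d, Bad i H ∧ LefPen.OneOrdQuad k (m + 1) i H) ∨
      ∃ F G : LefPen.Form r k d, ∀ s t : k, (s ≠ 0 ∨ t ≠ 0) → ¬ Bad i (s • F + t • G))
    (H₀ : LefPen.Form r k d) (hH₀ : ¬ Bad i H₀) :
    ∃ P : MvPolynomial (Fin N) k, P ≠ 0 ∧ ∀ G : LefPen.Form r k d, MvPolynomial.eval (b.equivFun G) P ≠ 0 →
      LefPen.IsLefschetzPencil k (m + 1) i d H₀ G := by
  classical
  haveI : Smooth (X ↘ Spec (CommRingCat.of k)) := SmoothOfRelativeDimension.smooth (m + 1) _
  obtain ⟨P1, hP10, hP1⟩ := exists_base_generic i hi (m := m) b hd H₀ hH₀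
  obtain ⟨P2, hP20, hP2⟩ := exists_avoid_bad i hi (m := m) b hd h H₀
  refine ⟨P1 * P2, mul_ne_zero hP10 hP20, fun G hG => ?_⟩
  rw [map_mul, mul_ne_zero_iff] at hG
  obtain ⟨hz1, hz2⟩ := bad_zero i hi (m := m) (d := d)
  refine ⟨?_, (transversal_two_iff i hi H₀ G).mpr (hP1 G hG.1), ?_, ?_⟩
  · rw [LinearIndependent.pair_iff]
    intro s t hst
    by_cases ht : t = 0
    · subst ht
      rw [zero_smul, add_zero, smul_eq_zero] at hst
      exact ⟨hst.resolve_right fun e => hH₀ (e ▸ hz1), rfl⟩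
    · exfalso
      have e : G + (s / t) • H₀ = 0 := by
        have := congrArg (t⁻¹ • ·) hst
        simp only [smul_add, smul_smul, smul_zero, inv_mul_cancel₀ ht, one_smul] at this
        rw [add_comm, div_eq_mul_inv, mul_comm]
        exact this
      exact hz2 (e ▸ hP2 G (s / t) hG.2 (e.symm ▸ hz1))
  · obtain ⟨P, hP0, hP⟩ := DualVar12.exists_separating i hi d b H₀ hH₀
    let p : Polynomial k := MvPolynomial.aeval
      (fun l => Polynomial.C (b.equivFun H₀ l) + Polynomial.X * Polynomial.C (b.equivFun G l)) P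
    have hp : ∀ c : k, p.eval c = MvPolynomial.eval (b.equivFun (H₀ + c • G)) P := fun c => by
      rw [← Polynomial.coe_evalRingHom]
      show Polynomial.evalRingHom c (MvPolynomial.aeval _ P) = _
      rw [MvPolynomial.aeval_def, MvPolynomial.eval₂_comp_left (Polynomial.evalRingHom c)]
      show _ = MvPolynomial.eval₂ (RingHom.id k) _ P
      congr 1
      · ext x; simp
      · funext l
        simp only [Function.comp_apply, Polynomial.coe_evalRingHom, Polynomial.eval_add, Polynomial.eval_mul,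
          Polynomial.eval_C, Polynomial.eval_X, map_add, map_smul, Pi.add_apply, Pi.smul_apply, smul_eq_mul]
    have hpne : p ≠ 0 := fun e => hP0 (by
      have := hp 0
      rwa [e, Polynomial.eval_zero, zero_smul, add_zero, eq_comm] at this)
    refine (p.roots.toFinset.finite_toSet).subset fun c hc => ?_
    simp only [Finset.mem_coe, Multiset.mem_toFinset, Polynomial.mem_roots hpne, Polynomial.IsRoot.def, hp]
    by_contra hne
    exact hc (transversal_of_not_bad i hi (by omega) _ (hP _ hne))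
  · intro H hH hT
    have hb : Bad i H := by_contra fun hn => hT (transversal_of_not_bad i hi (by omega) _ hn)
    rcases hH with h1 | ⟨c, rfl⟩
    · rw [Set.mem_singleton_iff] at h1
      subst h1
      have := hP2 H 0 hG.2 (by rw [zero_smul, add_zero]; exact hb)
      rwa [zero_smul, add_zero] at this
    · dsimp only at hb hT ⊢
      have hc : c ≠ 0 := fun e => hH₀ (by rwa [e, zero_smul, add_zero] at hb)
      have e : H₀ + c • G = c • (G + c⁻¹ • H₀) := by rw [smul_add, smul_smul, mul_inv_cancel₀ hc, one_smul, add_comm]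
      have hb' : Bad i (G + c⁻¹ • H₀) := by
        rw [bad_iff_closed i hi (m := m)] at hb ⊢
        obtain ⟨x, hx, hbx⟩ := hb
        rw [e, badX_smul i hi hc] at hbx
        exact ⟨x, hx, hbx⟩
      have h1 := (oneOrdQuad_iff i hi _).mp (hP2 G c⁻¹ hG.2 hb')
      rw [e, oneOrdQuad_iff i hi]
      simpa only [badX_smul i hi hc, nondegX_smul i hi hc] using h1

end GrothLib.OrdQuad12
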