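import Groth.Agent.Lib.OrdQuad12.ExistAlg
import Groth.Agent.Lib.OrdQuad12.GenPencil
import Groth.Agent.Lib.OrdQuad12.Exists

/-!
# Forms of degree at least two with exactly one ordinary quadratic singularity on a smooth variety
-/

set_option autoImplicit false
set_option linter.all false
set_option maxHeartbeats 1000000
set_option backward.isDefEq.respectTransparency false
set_option backward.isDefEq.respectTransparency.types false
universe u

open CategoryTheory CategoryTheory.Limits AlgebraicGeometry TopologicalSpace IsLocalRing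

noncomputable section

namespace GrothLib.OrdQuad12

open GrothLib.DualVar12 GrothLib.Jets

attribute [local instance] constAlgebra

variable {k : Type u} [Field k] [IsAlgClosed k] {r : ℕ} {X : Scheme.{u}} (i : X ⟶ CohB1.ProjSpace r k)
  [IsClosedImmersion i] [X.Over (Spec (CommRingCat.of k))]
  (hi : i ≫ CohB1.ProjSpace.toSpec r k = X ↘ Spec (CommRingCat.of k))

/-- Restriction of functions, linearly over the base field. -/
def resA {U V : X.Opens} (h : V ≤ U) : Γ(X, U) →ₐ[k] Γ(X, V) :=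
  { (X.presheaf.map (homOfLE h).op).hom with
    commutes' := fun c => (congrArg (fun f => f.hom (Coh.toGlobal (X ↘ Spec (CommRingCat.of k)) c))
        (X.presheaf.map_comp (homOfLE le_top).op (homOfLE h).op)).symm }

/-- Polynomials as functions on an open inside a chart. -/
def rho {j : Fin (r + 1)} (V : X.affineOpens) (hV : V.1 ≤ (chartX i j).1) :
    MvPolynomial (Fin (r + 1)) k →ₐ[k] Γ(X, V.1) :=
  (resA hV).comp (MvPolynomial.aeval (coord i j))

theorem rho_eq_evOn {j : Fin (r + 1)} (V : X.affineOpens) (hV : V.1 ≤ (chartX i j).1) {d : ℕ}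
    (H : LefPen.Form r k d) : rho i V hV H.1 = evOn i V hV H := rfl

theorem rho_X_self {j : Fin (r + 1)} (V : X.affineOpens) (hV : V.1 ≤ (chartX i j).1) :
    rho i V hV (MvPolynomial.X j) = 1 := by
  show resA (k := k) hV (MvPolynomial.aeval (coord i j) (MvPolynomial.X j)) = 1
  rw [MvPolynomial.aeval_X, coord_self, map_one]

/-- Linear forms centred at a point. -/
def cl (j : Fin (r + 1)) (α : Fin (r + 1) → k) (a : Fin (r + 1)) : MvPolynomial (Fin (r + 1)) k :=
  MvPolynomial.X a - MvPolynomial.C (α a) * MvPolynomial.X j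

theorem cl_mem (j : Fin (r + 1)) (α : Fin (r + 1) → k) (a : Fin (r + 1)) :
    cl j α a ∈ CohB1.polyGrading r k 1 :=
  (MvPolynomial.isHomogeneous_X k a).sub (MvPolynomial.isHomogeneous_C_mul_X (α a) j)

theorem rho_X {j : Fin (r + 1)} (V : X.affineOpens) (hV : V.1 ≤ (chartX i j).1) (α : Fin (r + 1) → k)
    (a : Fin (r + 1)) : rho i V hV (MvPolynomial.X a) = α a • 1 + rho i V hV (cl j α a) := by
  rw [cl, map_sub, map_mul, rho_X_self, mul_one, ← MvPolynomial.algebraMap_eq, AlgHom.commutes,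
    Algebra.algebraMap_eq_smul_one]
  abel

variable [IsIntegral X] {m : ℕ} [SmoothOfRelativeDimension (m + 1) (X ↘ Spec (CommRingCat.of k))]
  [IsProper (X ↘ Spec (CommRingCat.of k))]

include hi m in
/-- Centred linear forms and constants give all first jets. -/
theorem exists_affine_jet {j : Fin (r + 1)} (V : X.affineOpens) (hV : V.1 ≤ (chartX i j).1)
    (α : Fin (r + 1) → k) (ψ : Γ(X, V.1) →ₐ[k] k) (T : Γ(X, V.1)) :
    ∃ (c₀ : k) (c : Fin (r + 1) → k),
      T - (c₀ • 1 + ∑ a, c a • rho i V hV (cl j α a)) ∈ pk ψ ^ 2 := by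
  obtain ⟨G, hG⟩ := jets₁ i hi (m := m) (le_refl 1) V hV ψ T
  have hG1 : G.1 ∈ MvPolynomial.homogeneousSubmodule (Fin (r + 1)) k 1 := G.2
  rw [MvPolynomial.homogeneousSubmodule_one_eq_span_X, Submodule.mem_span_range_iff_exists_fun] at hG1
  obtain ⟨c, hc⟩ := hG1
  refine ⟨∑ a, c a * α a, c, ?_⟩
  have e : evOn i V hV G = (∑ a, c a * α a) • 1 + ∑ a, c a • rho i V hV (cl j α a) := by
    rw [← rho_eq_evOn, ← hc, map_sum, Finset.sum_smul, ← Finset.sum_add_distrib]
    exact Finset.sum_congr rfl fun a _ => by rw [map_smul, rho_X i V hV α a, smul_add, smul_smul]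
  rw [← e]
  simpa using neg_mem hG

include hi m in
omit [IsProper (X ↘ Spec (CommRingCat.of k))] in
/-- Vanishing at a point does not depend on the open used. -/
theorem rho_eq_zero_iff {j : Fin (r + 1)} (V : X.affineOpens) (hV : V.1 ≤ (chartX i j).1)
    (ψ : Γ(X, V.1) →ₐ[k] k) (φ : Γ(X, (chartX i j).1) →ₐ[k] k) (x : X)
    (hψ : x = V.2.fromSpec ⟨pk ψ, (pk_isMaximal ψ).isPrime⟩)
    (hφ : x = (chartX i j).2.fromSpec ⟨pk φ, (pk_isMaximal φ).isPrime⟩)
    (P : MvPolynomial (Fin (r + 1)) k) :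
    ψ (rho i V hV P) = 0 ↔ φ (MvPolynomial.aeval (coord i j) P) = 0 := by
  have hxV : x ∈ V.1 := hψ.symm ▸ point_mem V ψ
  rw [← germ_mem_iff V ψ x hψ hxV, ← germ_mem_iff (chartX i j) φ x hφ (hV hxV)]
  show (X.presheaf.germ V.1 x hxV).hom ((X.presheaf.map (homOfLE hV).op).hom _) ∈ _ ↔ _
  rw [TopCat.Presheaf.germ_res_apply]
  exact Iff.rfl

include hi m in
/-- If linear forms singular at `x₀` vanish on `X`, quadrics nondegenerate at `x₀` are singular only there. -/
theorem no_double_zero_linear {j : Fin (r + 1)} (x₀ : X) (hx₀ : IsClosed ({x₀} : Set X))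
    (hxj : x₀ ∈ (chartX i j).1)
    (hlin : ∀ G : LefPen.Form r k 1, BadX i x₀ G → ev i j G = 0) (H : LefPen.Form r k 2) (hH : NondegX i x₀ H)
    (φ₁ : Γ(X, (chartX i j).1) →ₐ[k] k)
    (hφ₁ : x₀ = (chartX i j).2.fromSpec ⟨pk φ₁, (pk_isMaximal φ₁).isPrime⟩)
    (V : X.affineOpens) (hV : V.1 ≤ (chartX i j).1) (F : Frame k Γ(X, V.1) (m + 1)) (ψ : Γ(X, V.1) →ₐ[k] k)
    (b : Fin (r + 1)) (hb : ψ (rho i V hV (cl j (fun a => φ₁ (coord i j a)) b)) ≠ 0) :
    evOn i V hV H ∉ pk ψ ^ 2 := by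
  classical
  obtain ⟨V', hV', φ, hφ, ⟨F'⟩⟩ := exists_frame_nhd i hi (m := m) x₀ hx₀ j hxj
  haveI : Smooth (X ↘ Spec (CommRingCat.of k)) := SmoothOfRelativeDimension.smooth (m + 1) _
  haveI : Algebra.Smooth k Γ(X, V'.1) := smooth_constHom V'
  choose G hG using fun a => jets₁ i hi (m := m) (le_refl 1) V' hV' φ (uc F' φ a)
  let w : Fin (m + 1) → Γ(X, (chartX i j).1) := fun a => ev i j (G a)
  have hGa : ∀ a, φ (evOn i V' hV' (G a)) = 0 := fun a => by
    have h0 : φ (evOn i V' hV' (G a) - uc F' φ a) = 0 := Ideal.pow_le_self two_ne_zero (hG a)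
    rwa [map_sub, show φ (uc F' φ a) = 0 from sub_mem_pk φ _, sub_zero] at h0
  have hGd : ∀ a e, φ (F'.g e (evOn i V' hV' (G a))) = if e = a then 1 else 0 := fun a e => by
    have h0 := deriv_apply_eq_zero F' φ e (hG a)
    rw [map_sub, map_sub, g_uc, sub_eq_zero, apply_ite φ, map_one, map_zero] at h0
    exact h0
  have hexp : ∀ P : LefPen.Form r k 1,
      ev i j P = φ (evOn i V' hV' P) • 1 + ∑ a, φ (F'.g a (evOn i V' hV' P)) • w a := by
    intro P
    set c₀ := φ (evOn i V' hV' P) with hc₀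
    let XJ : LefPen.Form r k 1 := ⟨MvPolynomial.X j, MvPolynomial.isHomogeneous_X k j⟩
    let P' : LefPen.Form r k 1 := P - (c₀ • XJ + ∑ a, φ (F'.g a (evOn i V' hV' P)) • G a)
    have hJ : evOn i V' hV' XJ = 1 := (rho_eq_evOn i V' hV' XJ).symm.trans (rho_X_self i V' hV')
    have he : evOn i V' hV' P' = evOn i V' hV' P -
        (c₀ • 1 + ∑ a, φ (F'.g a (evOn i V' hV' P)) • evOn i V' hV' (G a)) := by
      show evL i V' hV' 1 P' = _
      simp only [P', map_sub, map_add, map_sum, map_smul]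
      rw [show evL i V' hV' 1 XJ = 1 from hJ]
      rfl
    have hbad : BadX i x₀ P' := by
      refine (badX_point_iff i hi V' hV' φ P' x₀ hφ).mpr ((mem_sq_iff F' φ _).mpr ⟨?_, fun e => ?_⟩)
      · rw [he]
        simp only [map_sub, map_add, map_sum, map_smul, map_one, smul_eq_mul, hGa, mul_zero, Finset.sum_const_zero,
          add_zero, mul_one, hc₀, sub_self]
      · rw [he]
        simp only [map_sub, map_add, map_sum, Derivation.map_smul, map_smul, Derivation.map_one_eq_zero, map_zero,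
          smul_zero, zero_add, smul_eq_mul, hGd, mul_ite, mul_one, mul_zero, Finset.sum_ite_eq, Finset.mem_univ,
          if_true, sub_self]
    have h0 : MvPolynomial.aeval (coord i j) P'.1 = 0 := hlin P' hbad
    simp only [P', Submodule.coe_sub, Submodule.coe_add, Submodule.coe_smul, Submodule.coe_sum, map_sub, map_add,
      map_sum, map_smul, XJ, MvPolynomial.aeval_X, coord_self, sub_eq_zero] at h0
    exact h0
  obtain ⟨c₀, e, c, hq⟩ : ∃ (c₀ : k) (e : Fin (m + 1) → k) (c : Fin (m + 1) → Fin (m + 1) → k),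
      ev i j H = c₀ • 1 + ∑ a, e a • w a + ∑ a, ∑ a', c a a' • (w a * w a') := by
    have h2 : H.1 ∈ MvPolynomial.homogeneousSubmodule (Fin (r + 1)) k 1 *
        MvPolynomial.homogeneousSubmodule (Fin (r + 1)) k 1 := by
      rw [← pow_two, MvPolynomial.homogeneousSubmodule_one_pow]
      exact H.2
    show ∃ (c₀ : k) (e : Fin (m + 1) → k) (c : Fin (m + 1) → Fin (m + 1) → k),
      MvPolynomial.aeval (coord i j) H.1 = _
    refine Submodule.mul_induction_on h2 (fun P hP Q hQ => ?_) ?_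
    · obtain ⟨p₀, p, hp⟩ : ∃ (p₀ : k) (p : Fin (m + 1) → k),
          MvPolynomial.aeval (coord i j) P = p₀ • 1 + ∑ a, p a • w a := ⟨_, _, hexp ⟨P, hP⟩⟩
      obtain ⟨q₀, q, hq⟩ : ∃ (q₀ : k) (q : Fin (m + 1) → k),
          MvPolynomial.aeval (coord i j) Q = q₀ • 1 + ∑ a, q a • w a := ⟨_, _, hexp ⟨Q, hQ⟩⟩
      refine ⟨p₀ * q₀, fun a => p₀ * q a + q₀ * p a, fun a a' => p a * q a', ?_⟩
      rw [map_mul, hp, hq, add_mul, smul_mul_assoc, one_mul, smul_add, smul_smul, Finset.smul_sum, mul_add,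
        mul_smul_comm, mul_one, Finset.smul_sum, Finset.sum_mul_sum]
      simp only [smul_smul, add_smul, Finset.sum_add_distrib, smul_mul_smul_comm]
      abel
    · rintro P Q ⟨p₀, p, pc, hp⟩ ⟨q₀, q, qc, hq⟩
      refine ⟨p₀ + q₀, p + q, pc + qc, ?_⟩
      rw [map_add, hp, hq]
      simp only [Pi.add_apply, add_smul, Finset.sum_add_distrib]
      abel
  have hres : ∀ (W : X.affineOpens) (hW : W.1 ≤ (chartX i j).1), evOn i W hW H = c₀ • 1 +
      ∑ a, e a • evOn i W hW (G a) + ∑ a, ∑ a', c a a' • (evOn i W hW (G a) * evOn i W hW (G a')) := by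
    intro W hW
    show resA (k := k) hW (ev i j H) = _
    rw [hq]
    simp only [map_add, map_sum, map_smul, map_mul, map_one]
    rfl
  have hnd := (nondegX_point_iff i hi V' hV' φ H x₀ hφ).mp hH
  have hc0 : c₀ = 0 := by
    have h0 : φ (evOn i V' hV' H) = 0 := Ideal.pow_le_self two_ne_zero hnd.1
    rw [hres V' hV'] at h0
    simp only [map_add, map_sum, map_smul, map_mul, map_one, smul_eq_mul, hGa, mul_zero, mul_one,
      Finset.sum_const_zero, add_zero] at h0
    exact h0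
  have he0 : e = 0 := by
    funext a
    have h0 := deriv_apply_eq_zero F' φ a hnd.1
    rw [hres V' hV', hc0, zero_smul, zero_add] at h0
    simp only [map_add, map_sum, Derivation.map_smul, Derivation.leibniz, map_smul, map_mul, smul_eq_mul, hGa, hGd,
      zero_mul, mul_zero, mul_ite, mul_one, Finset.sum_const_zero, add_zero, Finset.sum_ite_eq, Finset.mem_univ,
      if_true, ite_self] at h0
    simpa only [Pi.zero_apply, ite_self, add_zero, mul_zero, Finset.sum_const_zero] using h0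
  have hres' : ∀ (W : X.affineOpens) (hW : W.1 ≤ (chartX i j).1), evOn i W hW H =
      ∑ a, ∑ a', c a a' • (evOn i W hW (G a) * evOn i W hW (G a')) := by
    intro W hW
    rw [hres W hW, hc0, he0]
    simp only [zero_smul, Pi.zero_apply, Finset.sum_const_zero, zero_add]
  have hc : ¬ DegQ c := fun hdeg => hnd.2 ((degen_iff F' φ (fun a => evOn i V' hV' (G a)) hGa
    (by simp only [lin, hGd, mul_ite, mul_one, mul_zero, Finset.sum_ite_eq', Finset.mem_univ, if_true]
        exact Function.bijective_id) c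
    (by
      rw [hres' V' hV']
      simp only [Algebra.smul_def, mul_assoc, sub_self]
      exact zero_mem _)).mpr hdeg)
  rw [hres' V hV]
  refine no_double_zero F ψ (fun a => evOn i V hV (G a)) (fun T => ?_) c hc ?_
  · obtain ⟨P, hP⟩ := jets₁ i hi (m := m) (le_refl 1) V hV ψ T
    refine ⟨φ (evOn i V' hV' P), fun a => φ (F'.g a (evOn i V' hV' P)), ?_⟩
    have hP' : evOn i V hV P = φ (evOn i V' hV' P) • 1 +
        ∑ a, φ (F'.g a (evOn i V' hV' P)) • evOn i V hV (G a) := by
      show resA (k := k) hV (ev i j P) = _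
      rw [hexp P]
      simp only [map_add, map_sum, map_smul, map_one]
      rfl
    rw [← hP']
    simpa using neg_mem hP
  · by_contra hall
    push Not at hall
    let Lb : LefPen.Form r k 1 := ⟨_, cl_mem j (fun a => φ₁ (coord i j a)) b⟩
    refine hb ?_
    show ψ (resA (k := k) hV (ev i j Lb)) = 0
    have h0 : φ (evOn i V' hV' Lb) = 0 := (rho_eq_zero_iff i hi (m := m) V' hV' φ φ₁ x₀ hφ hφ₁
      (cl j (fun a => φ₁ (coord i j a)) b)).mpr (by
      simp [cl, coord_self])
    rw [hexp Lb, h0, zero_smul, zero_add]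
    simp only [map_sum, map_smul]
    exact Finset.sum_eq_zero fun a _ => by rw [show ψ (resA (k := k) hV (w a)) = 0 from hall a, smul_zero]

include hi m in
/-- A form of degree at least two with exactly one singular point on `X`, an ordinary one. -/
theorem exists_one {d : ℕ} (hd : 2 ≤ d) :
    ∃ H : LefPen.Form r k d, Bad i H ∧ LefPen.OneOrdQuad k (m + 1) i H := by
  classical
  haveI : Smooth (X ↘ Spec (CommRingCat.of k)) := SmoothOfRelativeDimension.smooth (m + 1) _
  haveI : JacobsonSpace X := LocallyOfFiniteType.jacobsonSpace (X ↘ Spec (CommRingCat.of k))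
  haveI : Infinite k := IsAlgClosed.instInfinite
  obtain ⟨x₀, hx₀, hall⟩ : ∃ x₀ : X, IsClosed ({x₀} : Set X) ∧
      ∀ (j : Fin (r + 1)) (y : X), y ∈ (chartX i j).1 → x₀ ∈ (chartX i j).1 := by
    let U : Set X := ⋂ j ∈ {j : Fin (r + 1) | genericPoint X ∈ (chartX i j).1}, ((chartX i j).1 : Set X)
    have hU : IsOpen U := (Set.toFinite _).isOpen_biInter fun j _ => (chartX i j).1.2
    obtain ⟨x, hxU, hxc⟩ := nonempty_inter_closedPoints (Z := U)
      ⟨genericPoint X, Set.mem_iInter₂.mpr fun j hj => hj⟩ hU.isLocallyClosed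
    exact ⟨x, hxc, fun j y hy => Set.mem_iInter₂.mp hxU j
      (((genericPoint_spec X).mem_open_set_iff (chartX i j).1.2).mpr ⟨y, trivial, hy⟩)⟩
  obtain ⟨j₀, hj₀⟩ := exists_chart_mem i x₀
  obtain ⟨V₀, hV₀, φ₀, hφ₀, ⟨F₀⟩⟩ := exists_frame_nhd i hi (m := m) x₀ hx₀ j₀ hj₀
  haveI : Algebra.Smooth k Γ(X, V₀.1) := smooth_constHom V₀
  haveI := FormBertini12.finite_form (k := k) (r := r) d
  let K₀ : Submodule k (LefPen.Form r k d) := ((pk φ₀ ^ 2).restrictScalars k).comap (evL i V₀ hV₀ d)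
  haveI : Module.Free k K₀ := Module.Free.of_divisionRing k K₀
  haveI : Module.Finite k K₀ := inferInstance
  let κ := Module.finBasis k K₀
  let M := Module.finrank k K₀
  let Hs : (Fin M → k) → LefPen.Form r k d := fun s => ((κ.equivFun.symm s : K₀) : LefPen.Form r k d)
  have hK : ∀ H, BadX i x₀ H ↔ H ∈ K₀ := fun H => badX_point_iff i hi V₀ hV₀ φ₀ H x₀ hφ₀
  have hHs : ∀ {j : Fin (r + 1)} (W : X.affineOpens) (hW : W.1 ≤ (chartX i j).1) (s : Fin M → k),
      evOn i W hW (Hs s) = ∑ l, s l • evOn i W hW (κ l : LefPen.Form r k d) := fun W hW s => by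
    show evL i W hW d (K₀.subtype (κ.equivFun.symm s)) = _
    rw [κ.equivFun_symm_apply, map_sum, map_sum]
    simp only [map_smul]
    rfl
  let g₀ : Fin M → Γ(X, V₀.1) := fun l => evOn i V₀ hV₀ (κ l : LefPen.Form r k d)
  have hmem0 : ∀ v, member g₀ (fun l => MvPolynomial.X l) φ₀ v = evOn i V₀ hV₀ (Hs v) := fun v => by
    rw [hHs V₀ hV₀]
    simp [member, g₀]
  obtain ⟨H₁, hH₁⟩ := exists_nondegX i hi (m := m) hd x₀ hx₀
  obtain ⟨D, hD0, hD⟩ := exists_diag F₀ g₀ (fun l => MvPolynomial.X l) φ₀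
    (κ.equivFun ⟨H₁, (hK H₁).mp hH₁.badX⟩) (by
      rw [hmem0]
      simp only [Hs, LinearEquiv.symm_apply_apply]
      exact (nondegX_point_iff i hi V₀ hV₀ φ₀ H₁ x₀ hφ₀).mp hH₁)
  let Pnd : MvPolynomial (Fin M) k := MvPolynomial.map (pairPt φ₀ φ₀).toRingHom D
  have hnd : ∀ s, MvPolynomial.eval s Pnd ≠ 0 → NondegX i x₀ (Hs s) := fun s hs => by
    have h1 : evOn i V₀ hV₀ (Hs s) ∈ pk φ₀ ^ 2 := (κ.equivFun.symm s).2
    have h2 := hD φ₀ φ₀ s hs (by rwa [hmem0]) (by rwa [hmem0])
    rw [hmem0] at h2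
    exact (nondegX_point_iff i hi V₀ hV₀ φ₀ _ x₀ hφ₀).mpr ⟨h1, h2.2⟩
  obtain ⟨ι, _, jf, Vf, hVf, hFf, hcov⟩ := exists_finite_frames i hi (m := m)
  have key : ∀ p, ∃ P : MvPolynomial (Fin M) k, P ≠ 0 ∧ ∀ (ψ : Γ(X, (Vf p).1) →ₐ[k] k) (s : Fin M → k),
      MvPolynomial.eval s P ≠ 0 → NondegX i x₀ (Hs s) → evOn i (Vf p) (hVf p) (Hs s) ∈ pk ψ ^ 2 →
        (Vf p).2.fromSpec ⟨pk ψ, (pk_isMaximal ψ).isPrime⟩ = x₀ := by
    intro p
    by_cases hne : ∃ ψ : Γ(X, (Vf p).1) →ₐ[k] k, True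
    swap
    · exact ⟨1, one_ne_zero, fun ψ => absurd ⟨ψ, trivial⟩ hne⟩
    obtain ⟨ψ₁, -⟩ := hne
    set j := jf p
    set V := Vf p
    have hV : V.1 ≤ (chartX i j).1 := hVf p
    haveI : Nonempty V.1 := ⟨⟨_, point_mem V ψ₁⟩⟩
    haveI : Algebra.Smooth k Γ(X, V.1) := smooth_constHom V
    haveI := finiteType_chart i hi j
    have hxj : x₀ ∈ (chartX i j).1 := hall j _ (hV (point_mem V ψ₁))
    obtain ⟨φ₁, hφ₁⟩ := exists_char_of_closed (k := k) (chartX i j) x₀ hx₀ hxj
    let α : Fin (r + 1) → k := fun a => φ₁ (coord i j a)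
    let β : Fin (r + 1) → Γ(X, V.1) := fun a => rho i V hV (cl j α a)
    let g : Fin M → Γ(X, V.1) := fun l => evOn i V hV (κ l : LefPen.Form r k d)
    let gm : Γ(X, (chartX i j).1) →+* X.presheaf.stalk x₀ := (X.presheaf.germ (chartX i j).1 x₀ hxj).hom
    have hspan : ∀ W : MvPolynomial (Fin (r + 1)) k, W ∈ CohB1.polyGrading r k d →
        gm (MvPolynomial.aeval (coord i j) W) ∈ maximalIdeal (X.presheaf.stalk x₀) ^ 2 →
        rho i V hV W ∈ Submodule.span k (Set.range g) := by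
      intro W hW hg
      let H : K₀ := ⟨⟨W, hW⟩, (hK _).mp ((badX_iff i hi hxj _).mpr hg)⟩
      rw [Submodule.mem_span_range_iff_exists_fun]
      exact ⟨κ.equivFun H, by
        rw [← hHs V hV]
        simp only [Hs, LinearEquiv.symm_apply_apply]
        rfl⟩
    have hclm : ∀ a, gm (MvPolynomial.aeval (coord i j) (cl j α a)) ∈ maximalIdeal (X.presheaf.stalk x₀) := by
      intro a
      exact (germ_mem_iff (chartX i j) φ₁ x₀ hφ₁ hxj _).mpr (by simp [cl, α, coord_self])
    have hpad : ∀ (P : MvPolynomial (Fin (r + 1)) k) (e : ℕ), P ∈ CohB1.polyGrading r k e → e ≤ d →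
        gm (MvPolynomial.aeval (coord i j) P) ∈ maximalIdeal (X.presheaf.stalk x₀) ^ 2 →
        rho i V hV P ∈ Submodule.span k (Set.range g) := by
      intro P e hP he hg
      have hW : P * MvPolynomial.X j ^ (d - e) ∈ CohB1.polyGrading r k d := by
        have h := (show MvPolynomial.IsHomogeneous P e from hP).mul ((MvPolynomial.isHomogeneous_X k j).pow (d - e))
        rwa [one_mul, Nat.add_sub_cancel' he] at h
      have h := hspan _ hW (by rwa [map_mul, map_pow, MvPolynomial.aeval_X, coord_self, one_pow, mul_one])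
      rwa [map_mul, map_pow, rho_X_self, one_pow, mul_one] at h
    have hstd := locally_std (k := k) (m := m) V
    have key2 : ∀ b, ∃ P : MvPolynomial (Fin M) k, P ≠ 0 ∧ ∀ (ψ : Γ(X, V.1) →ₐ[k] k) (s : Fin M → k),
        ψ (β b) ≠ 0 → MvPolynomial.eval s P ≠ 0 → NondegX i x₀ (Hs s) → evOn i V hV (Hs s) ∉ pk ψ ^ 2 := by
      intro b
      by_cases hb : ∃ ψ : Γ(X, V.1) →ₐ[k] k, ψ (β b) ≠ 0
      swap
      · exact ⟨1, one_ne_zero, fun ψ s h => absurd ⟨ψ, h⟩ hb⟩
      by_cases hex : ∃ (L : MvPolynomial (Fin (r + 1)) k) (e : ℕ), e + 1 ≤ d ∧ L ∈ CohB1.polyGrading r k e ∧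
          gm (MvPolynomial.aeval (coord i j) L) ∈ maximalIdeal (X.presheaf.stalk x₀) ^ 2 ∧
          ∃ ψ : Γ(X, V.1) →ₐ[k] k, ψ (β b) ≠ 0 ∧ ψ (rho i V hV L) ≠ 0
      · obtain ⟨L, e, he, hL, hLm, ψ₀, hψb, hψL⟩ := hex
        obtain ⟨P, hP0, hP⟩ := exists_no_other hstd (hFf p).some g β b
          (fun ψ T => exists_affine_jet i hi (m := m) V hV α ψ T)
          (fun a => by
            have := hpad (cl j α b * cl j α a) 2 ((show MvPolynomial.IsHomogeneous _ 1 from cl_mem j α b).mul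
              (cl_mem j α a)) hd (by rw [map_mul, map_mul, pow_two]; exact Ideal.mul_mem_mul (hclm b) (hclm a))
            rwa [map_mul] at this)
          ψ₀ hψb (rho i V hV L) hψL (hpad L e hL (by omega) hLm)
          (fun a => by
            have := hpad (L * cl j α a) (e + 1) ((show MvPolynomial.IsHomogeneous L e from hL).mul (cl_mem j α a))
              he (by rw [map_mul, map_mul]; exact Ideal.mul_mem_right _ _ hLm)
            rwa [map_mul] at this)
        exact ⟨P, hP0, fun ψ s hψ hs _ => by rw [hHs V hV]; exact hP ψ s hψ hs⟩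
      · push Not at hex
        have hd2 : d = 2 := by
          by_contra hne
          obtain ⟨ψ, hψ⟩ := hb
          have := hex (cl j α b * cl j α b) 2 (by omega)
            ((show MvPolynomial.IsHomogeneous _ 1 from cl_mem j α b).mul (cl_mem j α b))
            (by rw [map_mul, map_mul, pow_two]; exact Ideal.mul_mem_mul (hclm b) (hclm b)) ψ hψ
          rw [map_mul, map_mul, mul_self_eq_zero] at this
          exact hψ this
        have hlin : ∀ G : LefPen.Form r k 1, BadX i x₀ G → ev i j G = 0 := by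
          intro G hG
          obtain ⟨ψ, hψ⟩ := hb
          have h0 : rho i V hV G.1 * β b = 0 := DualVar12.eq_zero_of_points (k := k) _ fun ψ' => by
            by_cases hb' : ψ' (β b) = 0
            · rw [map_mul, hb', mul_zero]
            · rw [map_mul, hex G.1 1 (by omega) G.2 ((badX_iff i hi hxj G).mp hG) ψ' hb', zero_mul]
          have h1 : (X.presheaf.map (homOfLE hV).op).hom (ev i j G) = 0 :=
            (mul_eq_zero.mp h0).resolve_right fun e => hψ (by rw [e, map_zero])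
          exact map_injective_of_isIntegral X (homOfLE hV) (h1.trans (map_zero _).symm)
        refine ⟨1, one_ne_zero, fun ψ s hψ _ hnd' => ?_⟩
        subst hd2
        exact no_double_zero_linear i hi (m := m) x₀ hx₀ hxj hlin (Hs s) hnd' φ₁ hφ₁ V hV (hFf p).some ψ b hψ
    choose P hP0 hP using key2
    refine ⟨∏ b, P b, Finset.prod_ne_zero_iff.mpr fun b _ => hP0 b, fun ψ s hs hn hbad => ?_⟩
    rw [map_prod] at hs
    set x := V.2.fromSpec ⟨pk ψ, (pk_isMaximal ψ).isPrime⟩ with hx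
    obtain ⟨φ, hφ⟩ := exists_char_of_closed (k := k) (chartX i j) x (isClosed_point V ψ) (hV (point_mem V ψ))
    have hco : ∀ b, φ (coord i j b) = φ₁ (coord i j b) := fun b => by
      have h0 : ψ (β b) = 0 := by_contra fun h =>
        hP b ψ s h (Finset.prod_ne_zero_iff.mp hs b (Finset.mem_univ _)) hn hbad
      have h1 := (rho_eq_zero_iff i hi (m := m) V hV ψ φ x hx hφ (cl j α b)).mp h0
      simpa [cl, coord_self, α, sub_eq_zero] using h1
    have hφeq : φ = φ₁ := AlgHom.ext fun y => by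
      obtain ⟨a, rfl⟩ := exists_aeval_coord i hi j y
      rw [← AlgHom.comp_apply, MvPolynomial.comp_aeval, ← AlgHom.comp_apply, MvPolynomial.comp_aeval]
      simp only [hco]
    subst hφeq
    exact hφ.trans hφ₁.symm
  choose P hP0 hP using key
  have hne : Pnd * ∏ p, P p ≠ 0 := mul_ne_zero (fun e => hD0 (by
    show MvPolynomial.eval _ Pnd = 0
    rw [e, map_zero])) (Finset.prod_ne_zero_iff.mpr fun p _ => hP0 p)
  obtain ⟨s, hs⟩ : ∃ s, MvPolynomial.eval s (Pnd * ∏ p, P p) ≠ 0 := by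
    by_contra h
    push Not at h
    exact hne (MvPolynomial.funext fun c => by rw [h c, map_zero])
  rw [map_mul, map_prod, mul_ne_zero_iff] at hs
  have hn := hnd s hs.1
  refine ⟨Hs s, (bad_iff_closed i hi (m := m) _).mpr ⟨x₀, hx₀, hn.badX⟩,
    (oneOrdQuad_iff i hi _).mpr ⟨⟨x₀, hx₀, hn.badX⟩, fun x hx hb => ?_⟩⟩
  have huniq : ∀ y : X, IsClosed ({y} : Set X) → BadX i y (Hs s) → y = x₀ := by
    intro y hy hby
    obtain ⟨p, hp⟩ := hcov y
    haveI : Algebra.Smooth k Γ(X, (Vf p).1) := smooth_constHom (Vf p)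
    obtain ⟨ψ, hψ⟩ := exists_char_of_closed (k := k) (Vf p) y hy hp
    exact hψ.trans (hP p ψ s (Finset.prod_ne_zero_iff.mp hs.2 p (Finset.mem_univ _)) hn
      ((badX_point_iff i hi (Vf p) (hVf p) ψ _ y hψ).mp hby))
  obtain rfl := huniq x hx hb
  exact ⟨hn, fun y hy hby => huniq y hy hby⟩

end GrothLib.OrdQuad12
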