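import Groth.Agent.Lib.OrdQuad12.SmoothPointDet
import Groth.Agent.Lib.OrdQuad12.ExistOne
import Groth.Agent.Lib.OrdQuad12.ConeDual

/-!
# Smooth points of the dual variety in characteristic zero

Either the tangent hyperplanes fill a set of codimension at least two, or a hyperplane at a smooth point of the dual
hypersurface is tangent at a single point, nondegenerately.
-/

set_option autoImplicit false
set_option linter.all false
set_option maxHeartbeats 1000000
set_option backward.isDefEq.respectTransparency false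
set_option backward.isDefEq.respectTransparency.types false
universe u

open CategoryTheory CategoryTheory.Limits AlgebraicGeometry TopologicalSpace IsLocalRing

noncomputable section

namespace GrothLib.OrdQuad12

open GrothLib.DualVar12 GrothLib.Jets

theorem degreeOf_pderiv_lt {k : Type u} [Field k] {N : ℕ} (f : MvPolynomial (Fin N) k) (l : Fin N)
    (hf : 0 < f.degreeOf l) : (MvPolynomial.pderiv l f).degreeOf l < f.degreeOf l := by
  classical
  refine lt_of_le_of_lt (MvPolynomial.degreeOf_le_iff.mpr fun m hm => ?_) (Nat.sub_one_lt hf.ne')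
  rw [MvPolynomial.mem_support_iff, MvPolynomial.coeff_pderiv] at hm
  have h := MvPolynomial.degreeOf_le_iff.mp (le_refl (f.degreeOf l)) _
    (MvPolynomial.mem_support_iff.mpr (left_ne_zero_of_mul hm))
  rw [Finsupp.add_apply, Finsupp.single_eq_same] at h
  omega

theorem pderiv_ne_zero {k : Type u} [Field k] [CharZero k] {N : ℕ} (f : MvPolynomial (Fin N) k) (l : Fin N)
    (hf : 0 < f.degreeOf l) : MvPolynomial.pderiv l f ≠ 0 := by
  classical
  intro e
  rw [MvPolynomial.degreeOf_eq_sup] at hf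
  obtain ⟨s, hs, hsl⟩ := Finset.lt_sup_iff.mp hf
  have h := congrArg (MvPolynomial.coeff (s - Finsupp.single l 1)) e
  rw [MvPolynomial.coeff_pderiv, MvPolynomial.coeff_zero,
    tsub_add_cancel_of_le (Finsupp.single_le_iff.mpr hsl)] at h
  rcases mul_eq_zero.mp h with h | h
  · exact MvPolynomial.mem_support_iff.mp hs h
  · exact Nat.cast_add_one_ne_zero _ h

attribute [local instance] constAlgebra

variable {k : Type u} [Field k] [IsAlgClosed k] {r : ℕ} {X : Scheme.{u}} (i : X ⟶ CohB1.ProjSpace r k)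
  [IsClosedImmersion i] [X.Over (Spec (CommRingCat.of k))]
  (hi : i ≫ CohB1.ProjSpace.toSpec r k = X ↘ Spec (CommRingCat.of k))

include hi in
/-- Where a coordinate ratio is a unit, the point lies in both charts. -/
theorem mem_chart_of_unit {j : Fin (r + 1)} (a : Fin (r + 1)) (x : X) (hx : x ∈ (chartX i j).1)
    (hu : (X.presheaf.germ (chartX i j).1 x hx).hom (coord i j a) ∉ maximalIdeal (X.presheaf.stalk x)) :
    x ∈ (chartX i a).1 := by
  classical
  rw [mem_chart_iff i a x]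
  intro ha
  let h : ↥(CohB1.polyGrading r k 1) := ⟨MvPolynomial.X a, MvPolynomial.isHomogeneous_X k a⟩
  have e := stalkMap_symm_linear i hi h j x hx
  have hsum : ∑ l, MvPolynomial.coeff (Finsupp.single l 1) (h : MvPolynomial (Fin (r + 1)) k) • coord i j l =
      coord i j a := by
    simp [h, MvPolynomial.coeff_X', Finsupp.single_left_inj one_ne_zero]
  rw [hsum] at e
  refine hu ?_
  show _ ∈ nonunits _
  intro hunit
  erw [← e] at hunit
  have h1 := isUnit_of_map_unit (i.stalkMap x).hom _ hunit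
  have h2 := h1.map (Proj.stalkIso' (CohB1.polyGrading r k) (i.base x))
  erw [RingEquiv.apply_symm_apply] at h2
  rw [← HomogeneousLocalization.isUnit_iff_isUnit_val, HomogeneousLocalization.val_mk,
    Localization.mk_eq_mk'] at h2
  exact (IsLocalization.AtPrime.isUnit_mk'_iff _ _ _ _).mp h2 ha

variable [IsIntegral X] {m : ℕ} [SmoothOfRelativeDimension (m + 1) (X ↘ Spec (CommRingCat.of k))]
  [IsProper (X ↘ Spec (CommRingCat.of k))]

include hi m in
/-- Two points giving proportional evaluations of linear forms coincide. -/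
theorem eq_of_eval_prop {j j' : Fin (r + 1)} (V V' : X.affineOpens) (hV : V.1 ≤ (chartX i j).1)
    (hV' : V'.1 ≤ (chartX i j').1) (ψ : Γ(X, V.1) →ₐ[k] k) (ψ' : Γ(X, V'.1) →ₐ[k] k) (x x' : X)
    (hx : x = V.2.fromSpec ⟨pk ψ, (pk_isMaximal ψ).isPrime⟩)
    (hx' : x' = V'.2.fromSpec ⟨pk ψ', (pk_isMaximal ψ').isPrime⟩) (μ μ' : k) (hμ : μ ≠ 0) (hμ' : μ' ≠ 0)
    (h : ∀ G : LefPen.Form r k 1, μ * ψ (evOn i V hV G) = μ' * ψ' (evOn i V' hV' G)) : x = x' := by
  haveI := finiteType_chart i hi j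
  haveI := finiteType_chart i hi j'
  haveI : Smooth (X ↘ Spec (CommRingCat.of k)) := SmoothOfRelativeDimension.smooth (m + 1) _
  have hxV : x ∈ V.1 := hx.symm ▸ point_mem V ψ
  have hxV' : x' ∈ V'.1 := hx'.symm ▸ point_mem V' ψ'
  have hcl : IsClosed ({x} : Set X) := hx.symm ▸ isClosed_point V ψ
  have hcl' : IsClosed ({x'} : Set X) := hx'.symm ▸ isClosed_point V' ψ'
  obtain ⟨φ, hφ⟩ := exists_char_of_closed (k := k) (chartX i j) x hcl (hV hxV)
  let XJ : LefPen.Form r k 1 := ⟨MvPolynomial.X j, MvPolynomial.isHomogeneous_X k j⟩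
  have hJ : evOn i V hV XJ = 1 := (rho_eq_evOn i V hV XJ).symm.trans (rho_X_self i V hV)
  have hJ' : ψ' (evOn i V' hV' XJ) ≠ 0 := by
    intro e
    have := h XJ
    rw [hJ, map_one, mul_one, e, mul_zero] at this
    exact hμ this
  have hxj : x' ∈ (chartX i j).1 := by
    refine mem_chart_of_unit i hi j x' (hV' hxV') fun hm => hJ' ?_
    rw [← germ_mem_iff V' ψ' x' hx' hxV', germ_evOn i V' hV' XJ x' hxV']
    convert hm using 2
    exact (MvPolynomial.aeval_X _ _)
  obtain ⟨φ', hφ'⟩ := exists_char_of_closed (k := k) (chartX i j) x' hcl' hxj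
  have hco : ∀ a, φ' (coord i j a) = φ (coord i j a) := by
    intro a
    let α : Fin (r + 1) → k := fun a => φ (coord i j a)
    let G : LefPen.Form r k 1 := ⟨_, cl_mem j α a⟩
    have h0 : ψ (evOn i V hV G) = 0 := by
      rw [← rho_eq_evOn]
      exact (rho_eq_zero_iff i hi (m := m) V hV ψ φ x hx hφ (cl j α a)).mpr (by simp [cl, α, coord_self])
    have h1 : ψ' (evOn i V' hV' G) = 0 := by
      have := h G
      rw [h0, mul_zero, eq_comm, mul_eq_zero] at this
      exact this.resolve_left hμ'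
    rw [← germ_mem_iff V' ψ' x' hx' hxV', germ_evOn i V' hV' G x' hxV'] at h1
    have h2 := Ideal.mem_of_dvd _ (germ_dvd i hi (hV' hxV') hxj G) h1
    rw [germ_mem_iff (chartX i j) φ' x' hφ' hxj] at h2
    simpa [G, ev, cl, α, coord_self, sub_eq_zero] using h2
  have hφeq : φ' = φ := AlgHom.ext fun y => by
    obtain ⟨p, rfl⟩ := exists_aeval_coord i hi j y
    rw [← AlgHom.comp_apply, MvPolynomial.comp_aeval, ← AlgHom.comp_apply, MvPolynomial.comp_aeval]
    simp only [hco]
  subst hφeq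
  exact hφ.trans hφ'.symm

variable [CharZero k] {N : ℕ} (b : Module.Basis (Fin N) k (LefPen.Form r k 1))

include hi b in
/-- The dichotomy for the dual variety. -/
theorem exists_one_or_pencil (H₀ : LefPen.Form r k 1) (hH₀ : ¬ Bad i H₀) :
    (∃ H : LefPen.Form r k 1, Bad i H ∧ LefPen.OneOrdQuad k (m + 1) i H) ∨
      ∃ F G : LefPen.Form r k 1, ∀ s t : k, (s ≠ 0 ∨ t ≠ 0) → ¬ Bad i (s • F + t • G) := by
  classical
  haveI : Infinite k := IsAlgClosed.instInfinite
  haveI : Smooth (X ↘ Spec (CommRingCat.of k)) := SmoothOfRelativeDimension.smooth (m + 1) _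
  let D : Set (Fin N → k) := {c | Bad i (b.equivFun.symm c)}
  obtain ⟨hz1, hz2⟩ := bad_zero i hi (m := m) (d := 1)
  have hD0 : (0 : Fin N → k) ∈ D := by
    show Bad i (b.equivFun.symm 0); rw [map_zero]; exact hz1
  have hiff : ∀ H : LefPen.Form r k 1,
      ¬ LefPen.Transversal k (m + 1) 1 (LefPen.secToSpec i ({H} : Set (LefPen.Form r k 1))) ↔ Bad i H := fun H =>
    ⟨fun h => by_contra fun hb => h (transversal_of_not_bad i hi (by omega) H hb),
      not_transversal_of_bad i hi (by omega) H⟩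
  have hprime : (vanI D).IsPrime := by
    refine ⟨fun e => ?_, fun {P Q} hPQ => ?_⟩
    · have := mem_vanI.mp ((Ideal.eq_top_iff_one _).mp e) 0 hD0
      simp at this
    · rcases (dual_variety i hi (n := m + 1) (by omega) 1 le_rfl).2 _ _ (isPolyFun_eval b P) (isPolyFun_eval b Q)
        (fun H hH => by
          rw [← map_mul]
          refine mem_vanI.mp hPQ _ ?_
          show Bad i (b.equivFun.symm (b.equivFun H))
          rw [LinearEquiv.symm_apply_apply]
          exact (hiff H).mp hH) with h1 | h1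
      · refine Or.inl (mem_vanI.mpr fun c hc => ?_)
        have := h1 (b.equivFun.symm c) ((hiff _).mpr hc)
        rwa [LinearEquiv.apply_symm_apply] at this
      · refine Or.inr (mem_vanI.mpr fun c hc => ?_)
        have := h1 (b.equivFun.symm c) ((hiff _).mpr hc)
        rwa [LinearEquiv.apply_symm_apply] at this
  have hDne : vanI D ≠ ⊥ := by
    obtain ⟨P, hP0, hP⟩ := DualVar12.exists_separating i hi 1 b H₀ hH₀
    intro e
    have hm : P ∈ vanI D := mem_vanI.mpr fun c hc => by_contra fun hne =>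
      hP (b.equivFun.symm c) (by rwa [LinearEquiv.apply_symm_apply]) hc
    rw [e, Ideal.mem_bot] at hm
    exact hP0 (by rw [hm, map_zero])
  have hsm : ∀ {s : k}, s ≠ 0 → ∀ G : LefPen.Form r k 1, Bad i (s • G) → Bad i G := fun hs G hG => by
    rw [bad_iff_closed i hi (m := m)] at hG ⊢
    obtain ⟨x, hx, hb⟩ := hG
    exact ⟨x, hx, (badX_smul i hi hs x G).mp hb⟩
  haveI := hprime
  obtain ⟨f, hf, hfp⟩ := Ideal.IsPrime.exists_mem_prime_of_ne_bot hprime hDne
  by_cases hI : Ideal.span {f} = vanI D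
  swap
  · -- the tangent forms have codimension two
    refine Or.inr ?_
    haveI : (Ideal.span {f}).IsPrime := (Ideal.span_singleton_prime hfp.ne_zero).mpr hfp
    have hlt : Ideal.span {f} < vanI D :=
      lt_of_le_of_ne ((Ideal.span_singleton_le_iff_mem _).mpr hf) hI
    obtain ⟨P, hP0, hP⟩ := exists_avoid (vanI D) (fun Q hQ hle => by
      haveI := hQ
      exact trdeg_chain (Ideal.span {f}) Q (fun e => hfp.ne_zero (Ideal.span_singleton_eq_bot.mp e))
        (hlt.trans_le hle)) (b.equivFun H₀)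
    obtain ⟨c, hc⟩ : ∃ c, MvPolynomial.eval c P ≠ 0 := by
      by_contra h
      push Not at h
      exact hP0 (MvPolynomial.funext fun c => by rw [h c, map_zero])
    refine ⟨b.equivFun.symm c, H₀, fun s t hst hb => ?_⟩
    by_cases hs : s = 0
    · subst hs
      rw [zero_smul, zero_add] at hb
      exact hH₀ (hsm (hst.resolve_left (by simp)) _ hb)
    · have e : s • b.equivFun.symm c + t • H₀ = s • (b.equivFun.symm c + (s⁻¹ * t) • H₀) := by
        rw [smul_add, smul_smul, ← mul_assoc, mul_inv_cancel₀ hs, one_mul]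
      rw [e] at hb
      obtain ⟨F, hF, hF0⟩ := hP c (s⁻¹ * t) hc
      refine hF0 (mem_vanI.mp hF _ ?_)
      show Bad i _
      rw [map_add, map_smul, LinearEquiv.symm_apply_apply]
      exact hsm hs _ hb
  -- the tangent forms fill the hypersurface `f = 0`
  refine Or.inl ?_
  obtain ⟨l₀, hl₀⟩ : ∃ l₀, 0 < f.degreeOf l₀ := by
    by_contra hall
    push Not at hall
    have hC : f = MvPolynomial.C (f.coeff 0) := by
      refine MvPolynomial.ext _ _ fun s => ?_
      rw [MvPolynomial.coeff_C]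
      split_ifs with hs
      · rw [← hs]
      · by_contra hne
        refine hs (Finsupp.ext fun l => ?_).symm
        exact Nat.le_zero.mp ((MvPolynomial.degreeOf_le_iff.mp (hall l)) s (MvPolynomial.mem_support_iff.mpr hne))
    have h0 := mem_vanI.mp hf 0 hD0
    rw [hC, MvPolynomial.eval_C] at h0
    rw [h0, map_zero] at hC
    exact hfp.ne_zero hC
  have hdeg : ∀ P : MvPolynomial (Fin N) k, P ≠ 0 → P.degreeOf l₀ < f.degreeOf l₀ → ∃ c ∈ D, MvPolynomial.eval c P ≠ 0 := by
    intro P hP0 hPd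
    by_contra hall
    push Not at hall
    have hm : P ∈ vanI D := mem_vanI.mpr hall
    rw [← hI, Ideal.mem_span_singleton'] at hm
    obtain ⟨q, rfl⟩ := hm
    rw [MvPolynomial.degreeOf_mul_eq (left_ne_zero_of_mul hP0) hfp.ne_zero] at hPd
    omega
  obtain ⟨c₀, hc₀, hgrad⟩ := hdeg _ (pderiv_ne_zero f l₀ hl₀) (degreeOf_pderiv_lt f l₀ hl₀)
  obtain ⟨ι, _, jf, Vf, hVf, hFf, hcov⟩ := exists_finite_frames i hi (m := m)
  have key : ∀ (j : Fin (r + 1)) (V : X.affineOpens) (hV : V.1 ≤ (chartX i j).1)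
      (F : Frame k Γ(X, V.1) (m + 1)) (ψ : Γ(X, V.1) →ₐ[k] k),
      evOn i V hV (b.equivFun.symm c₀) ∈ pk ψ ^ 2 →
      (∃ μ : k, μ ≠ 0 ∧ ∀ l, MvPolynomial.eval c₀ (MvPolynomial.pderiv l f) = μ * ψ (evOn i V hV (b l))) ∧
        NondegAt (pk ψ) (evOn i V hV (b.equivFun.symm c₀)) := by
    intro j V hV F ψ₁ hψ₁
    haveI : Nonempty V.1 := ⟨⟨_, point_mem V ψ₁⟩⟩
    haveI : Algebra.Smooth k Γ(X, V.1) := smooth_constHom V
    let g : Fin N → Γ(X, V.1) := fun l => evOn i V hV (b l)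
    have hg : ∀ c : Fin N → k, ∑ l, c l • g l = evOn i V hV (b.equivFun.symm c) := fun c =>
      sum_evOn_symm i b V hV c
    have hj : ∀ (ψ : Γ(X, V.1) →ₐ[k] k) (T : Γ(X, V.1)), ∃ c : Fin N → k, T - ∑ l, c l • g l ∈ pk ψ ^ 2 :=
      fun ψ T => by
        obtain ⟨G, hG⟩ := jets₁ i hi (m := m) le_rfl V hV ψ T
        exact ⟨b.equivFun G, by rw [hg, LinearEquiv.symm_apply_apply, ← neg_sub]; exact neg_mem hG⟩
    have hjet : ∀ q : Ideal Γ(X, V.1), q.IsMaximal → ∀ x, ∃ c : Fin N → k, x - ∑ l, c l • g l ∈ q ^ 2 :=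
      fun q hq x => by
        obtain ⟨φ, hφ⟩ := exists_point (k := k) q
        rw [← hφ]
        exact hj φ x
    obtain ⟨Mat, hA, hB⟩ := DualVar12.exists_param g hjet
    have hD : ∀ (ψ : Γ(X, V.1) →ₐ[k] k) (c : Fin N → k), ∑ l, c l • g l ∈ pk ψ ^ 2 → c ∈ D := fun ψ c hc =>
      (bad_iff_closed i hi (m := m) _).mpr
        ⟨_, isClosed_point V ψ, (badX_point_iff i hi V hV ψ _ _ rfl).mpr (hg c ▸ hc)⟩
    let S : TangentData k Γ(X, V.1) (m + 1) N :=
      { F := F, g := g, Mat := Mat, f := f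
        hM1 := fun ψ c => sq_of_tang (hA ψ c)
        hM2 := fun ψ c hc => hB ψ c (tang_of_sq hc)
        hj := hj
        hf := fun ψ c hc => mem_vanI.mp hf c (hD ψ c hc) }
    have hind : ∀ P : MvPolynomial (Fin N) k, P ≠ 0 → P.degreeOf l₀ = 0 →
        ∃ (ψ : Γ(X, V.1) →ₐ[k] k) (c : Fin N → k), ∑ l, c l • g l ∈ pk ψ ^ 2 ∧ MvPolynomial.eval c P ≠ 0 := by
      intro P hP0 hPd
      by_contra hall
      push Not at hall
      obtain ⟨c, hc, hcP⟩ := hdeg P hP0 (hPd ▸ hl₀)
      obtain ⟨x, hx, hbx⟩ := (bad_iff_closed i hi (m := m) _).mp hc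
      obtain ⟨p', hp'⟩ := hcov x
      set V' := Vf p'
      have hV' : V'.1 ≤ (chartX i (jf p')).1 := hVf p'
      haveI : Nonempty V'.1 := ⟨⟨x, hp'⟩⟩
      haveI : Algebra.Smooth k Γ(X, V'.1) := smooth_constHom V'
      obtain ⟨φ, hφ⟩ := exists_char_of_closed (k := k) V' x hx hp'
      obtain ⟨y, hy, hy'⟩ := nonempty_preirreducible_inter V.1.2 V'.1.2 ⟨_, point_mem V ψ₁⟩ ⟨x, hp'⟩
      obtain ⟨t, htle, hyt⟩ := V'.2.exists_basicOpen_le ⟨y, hy⟩ hy'
      have ht : t ≠ 0 := fun e => by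
        subst e
        rw [Scheme.basicOpen_zero] at hyt
        exact hyt
      let g' : Fin N → Γ(X, V'.1) := fun l => evOn i V' hV' (b l)
      have hjet' : ∀ q : Ideal Γ(X, V'.1), q.IsMaximal → ∀ w, ∃ c : Fin N → k, w - ∑ l, c l • g' l ∈ q ^ 2 :=
        fun q hq w => by
          obtain ⟨ω, hω⟩ := exists_point (k := k) q
          obtain ⟨G, hG⟩ := jets₁ i hi (m := m) le_rfl V' hV' ω w
          exact ⟨b.equivFun G, by
            rw [← hω, sum_evOn_symm i b V' hV', LinearEquiv.symm_apply_apply, ← neg_sub]; exact neg_mem hG⟩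
      refine hcP (eq_zero_of_dense g' hjet' P t ht (fun ω hω c' hc' => ?_) φ c (tang_of_sq ?_))
      · have hmem : V'.2.fromSpec ⟨pk ω, (pk_isMaximal ω).isPrime⟩ ∈ V.1 := htle (by
          show (⟨pk ω, _⟩ : PrimeSpectrum Γ(X, V'.1)) ∈ V'.2.fromSpec ⁻¹ᵁ X.basicOpen t
          rw [V'.2.fromSpec_preimage_basicOpen]
          exact hω)
        obtain ⟨χ, hχ⟩ := exists_char_of_closed (k := k) V _ (isClosed_point V' ω) hmem
        refine hall χ c' ?_
        rw [hg, ← badX_point_iff i hi V hV χ _ _ hχ, badX_point_iff i hi V' hV' ω _ _ rfl,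
          ← sum_evOn_symm i b V' hV']
        exact sq_of_tang hc'
      · rw [sum_evOn_symm i b V' hV']
        exact (badX_point_iff i hi V' hV' φ _ x hφ).mp hbx
    have hdet := S.hessR_det_ne_zero (locally_std (m := m) V) ψ₁ l₀ hind
    obtain ⟨hμ, hnd⟩ := S.eval_and_nondeg hdet ψ₁ c₀ (by
      show ∑ l, c₀ l • g l ∈ _
      rwa [hg]) (fun e => hgrad (congrFun e l₀))
    refine ⟨hμ, ?_⟩
    have e : ∑ l, c₀ l • S.g l = evOn i V hV (b.equivFun.symm c₀) := hg c₀
    rwa [e] at hnd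
  refine ⟨b.equivFun.symm c₀, hc₀, (oneOrdQuad_iff i hi _).mpr
    ⟨(bad_iff_closed i hi (m := m) _).mp hc₀, fun x hx hb => ?_⟩⟩
  obtain ⟨p, hp⟩ := hcov x
  haveI : Algebra.Smooth k Γ(X, (Vf p).1) := smooth_constHom (Vf p)
  obtain ⟨ψ, hψ⟩ := exists_char_of_closed (k := k) (Vf p) x hx hp
  obtain ⟨⟨μ, hμ, hμl⟩, hnd⟩ := key (jf p) (Vf p) (hVf p) (hFf p).some ψ ((badX_point_iff i hi (Vf p) (hVf p) ψ _ x hψ).mp hb)
  refine ⟨(nondegX_point_iff i hi (Vf p) (hVf p) ψ _ x hψ).mpr hnd, fun y hy hby => ?_⟩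
  obtain ⟨p', hp'⟩ := hcov y
  haveI : Algebra.Smooth k Γ(X, (Vf p').1) := smooth_constHom (Vf p')
  obtain ⟨ψ', hψ'⟩ := exists_char_of_closed (k := k) (Vf p') y hy hp'
  obtain ⟨⟨μ', hμ', hμl'⟩, -⟩ := key (jf p') (Vf p') (hVf p') (hFf p').some ψ' ((badX_point_iff i hi (Vf p') (hVf p') ψ' _ y hψ').mp hby)
  refine eq_of_eval_prop i hi (m := m) (Vf p') (Vf p) (hVf p') (hVf p) ψ' ψ y x hψ' hψ μ' μ hμ' hμ fun G => ?_
  rw [← sum_evOn i b (Vf p') (hVf p') G, ← sum_evOn i b (Vf p) (hVf p) G, map_sum, map_sum, Finset.mul_sum,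
    Finset.mul_sum]
  refine Finset.sum_congr rfl fun l _ => ?_
  rw [map_smul, map_smul, smul_eq_mul, smul_eq_mul, mul_left_comm, ← hμl', hμl, mul_left_comm]

end GrothLib.OrdQuad12
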