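import Groth.Agent.Lib.OrdQuad12.Degen
import Groth.Agent.Lib.OrdQuad12.Count

/-!
# Functions with one prescribed double zero: the conditions at the other points
-/

set_option autoImplicit false
set_option linter.all false
set_option maxHeartbeats 1000000
universe u

noncomputable section

namespace GrothLib.OrdQuad12

open GrothLib.DualVar12 GrothLib.Jets

variable {k : Type u} [Field k] {B : Type u} [CommRing B] [Algebra k B]

/-- A functional on first jets killing the products of centred coordinates is determined by one value, and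
vanishes if it also kills one function not vanishing at the point together with its products with them. -/
theorem relation_core {N : ℕ} (ψ : B →ₐ[k] k) (β : Fin N → B)
    (hspan : ∀ T : B, ∃ (c₀ : k) (c : Fin N → k), T - (c₀ • 1 + ∑ a, c a • β a) ∈ pk ψ ^ 2)
    (lam : B →ₗ[k] k) (hsq : ∀ x ∈ pk ψ ^ 2, lam x = 0) (b : Fin N) (hb : ψ (β b) ≠ 0)
    (h2 : ∀ a, lam (β b * β a) = 0) :
    (lam (β b) = 0 → lam = 0) ∧
      ∀ ℓ : B, ψ ℓ ≠ 0 → lam ℓ = 0 → (∀ a, lam (ℓ * β a) = 0) → lam (β b) = 0 := by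
  classical
  have hdiv : ∀ T : B, ∃ u : B, β b * u - T ∈ pk ψ ^ 2 := by
    intro T
    set v := algebraMap k B (ψ (β b))⁻¹ with hv
    refine ⟨T * v * (2 - β b * v), ?_⟩
    have e : β b * (T * v * (2 - β b * v)) - T = -T * (1 - β b * v) ^ 2 := by ring
    rw [e]
    refine Ideal.mul_mem_left _ _ (Ideal.pow_mem_pow ?_ 2)
    show ψ (1 - β b * v) = 0
    rw [map_sub, map_one, map_mul, hv, AlgHom.commutes, Algebra.algebraMap_self, RingHom.id_apply,
      mul_inv_cancel₀ hb, sub_self]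
  have hdec : ∀ (T : B) (c₀ : k) (c : Fin N → k), T - (c₀ • 1 + ∑ a, c a • β a) ∈ pk ψ ^ 2 →
      lam (β b * T) = c₀ * lam (β b) := by
    intro T c₀ c h
    have h0 : lam (β b * (T - (c₀ • 1 + ∑ a, c a • β a))) = 0 := hsq _ (Ideal.mul_mem_left _ _ h)
    rw [mul_sub, map_sub, sub_eq_zero] at h0
    rw [h0, mul_add, map_add, Finset.mul_sum, map_sum, mul_smul_comm, mul_one, map_smul, smul_eq_mul]
    rw [Finset.sum_eq_zero (fun a _ => by rw [mul_smul_comm, map_smul, h2, smul_zero]), add_zero]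
  refine ⟨fun he => LinearMap.ext fun T => ?_, fun ℓ hℓ hl hla => ?_⟩
  · obtain ⟨u, hu⟩ := hdiv T
    obtain ⟨c₀, c, hc⟩ := hspan u
    have h0 := hsq _ hu
    rw [map_sub, hdec u c₀ c hc, he, mul_zero, zero_sub, neg_eq_zero] at h0
    exact h0
  · by_contra he
    obtain ⟨u, hu⟩ := hdiv ℓ
    obtain ⟨c₀, c, hc⟩ := hspan u
    have hbu : lam (β b * u) = 0 := by
      have h0 := hsq _ hu
      rwa [map_sub, hl, sub_zero] at h0
    have hc0 : c₀ = 0 := by
      have := hdec u c₀ c hc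
      rw [hbu] at this
      exact (mul_eq_zero.mp this.symm).resolve_right he
    have hlu : lam (ℓ * u) = 0 := by
      have h0 : lam (ℓ * (u - (c₀ • 1 + ∑ a, c a • β a))) = 0 := hsq _ (Ideal.mul_mem_left _ _ hc)
      rw [hc0, zero_smul, zero_add, mul_sub, map_sub, sub_eq_zero] at h0
      rw [h0, Finset.mul_sum, map_sum]
      exact Finset.sum_eq_zero fun a _ => by rw [mul_smul_comm, map_smul, hla, smul_zero]
    have hbuu : lam (β b * (u * u)) = 0 := by
      have h0 : lam ((β b * u - ℓ) * u) = 0 := hsq _ (Ideal.mul_mem_right _ _ hu)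
      rw [sub_mul, map_sub, hlu, sub_zero, mul_assoc] at h0
      exact h0
    have hq : ψ u ≠ 0 := by
      intro e
      have h0 : ψ (β b * u - ℓ) = 0 := Ideal.pow_le_self two_ne_zero hu
      rw [map_sub, map_mul, e, mul_zero, zero_sub, neg_eq_zero] at h0
      exact hℓ h0
    have hsqu : lam (β b * (u - algebraMap k B (ψ u)) ^ 2) = 0 :=
      hsq _ (Ideal.mul_mem_left _ _ (Ideal.pow_mem_pow (by simp [RingHom.mem_ker]) 2))
    have e : β b * (u - algebraMap k B (ψ u)) ^ 2 =
        β b * (u * u) - (2 * ψ u) • (β b * u) + (ψ u * ψ u) • β b := by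
      simp only [Algebra.smul_def, map_mul, map_ofNat]
      ring
    rw [e, map_add, map_sub, map_smul, map_smul, hbuu, hbu, smul_zero, sub_zero, zero_add, smul_eq_mul] at hsqu
    exact he ((mul_eq_zero.mp hsqu).resolve_left (mul_ne_zero hq hq))

/-- Away from the prescribed point, a general member of the linear system has no double zero. -/
theorem exists_no_other [IsAlgClosed k] [IsDomain B] [Algebra.Smooth k B] {n : ℕ}
    (hstd : RingHom.Locally (RingHom.IsStandardSmoothOfRelativeDimension n) (algebraMap k B))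
    (F : Frame k B n) {M N : ℕ} (g : Fin M → B) (β : Fin N → B) (b : Fin N)
    (hspan : ∀ (ψ : B →ₐ[k] k) (T : B), ∃ (c₀ : k) (c : Fin N → k),
      T - (c₀ • 1 + ∑ a, c a • β a) ∈ pk ψ ^ 2)
    (h2 : ∀ a, β b * β a ∈ Submodule.span k (Set.range g))
    (ψ₀ : B →ₐ[k] k) (hb₀ : ψ₀ (β b) ≠ 0) (ℓ : B) (hℓ₀ : ψ₀ ℓ ≠ 0)
    (hℓ : ℓ ∈ Submodule.span k (Set.range g)) (hℓ2 : ∀ a, ℓ * β a ∈ Submodule.span k (Set.range g)) :
    ∃ P : MvPolynomial (Fin M) k, P ≠ 0 ∧ ∀ (ψ : B →ₐ[k] k) (s : Fin M → k), ψ (β b) ≠ 0 →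
      MvPolynomial.eval s P ≠ 0 → ∑ l, s l • g l ∉ pk ψ ^ 2 := by
  classical
  let Mat : Matrix (Fin (n + 1)) (Fin M) B :=
    Matrix.of fun a l => Fin.cases (g l) (fun a' => F.g a' (g l)) a
  let lamz : (B →ₐ[k] k) → (Fin (n + 1) → k) → B →ₗ[k] k := fun ψ z =>
    z 0 • ψ.toLinearMap + ∑ a : Fin n, z a.succ • (ψ.toLinearMap.comp (F.g a).toLinearMap)
  have hlam : ∀ ψ z T, lamz ψ z T = z 0 * ψ T + ∑ a : Fin n, z a.succ * ψ (F.g a T) := fun ψ z T => by
    simp only [lamz, LinearMap.add_apply, LinearMap.smul_apply, LinearMap.sum_apply, LinearMap.comp_apply,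
      AlgHom.toLinearMap_apply, smul_eq_mul]
    rfl
  have hlsq : ∀ ψ z, ∀ x ∈ pk ψ ^ 2, lamz ψ z x = 0 := fun ψ z x hx => by
    rw [hlam, show ψ x = 0 from Ideal.pow_le_self two_ne_zero hx]
    simp [deriv_apply_eq_zero F ψ _ hx]
  have hlrow : ∀ (ψ : B →ₐ[k] k) z l, lamz ψ z (g l) = ∑ a, z a * ψ (Mat a l) := fun ψ z l => by
    rw [hlam, Fin.sum_univ_succ]
    rfl
  have hkill : ∀ ψ z, (∀ l, ∑ a, z a * ψ (Mat a l) = 0) →
      ∀ T ∈ Submodule.span k (Set.range g), lamz ψ z T = 0 := by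
    intro ψ z hz T hT
    have hle : Submodule.span k (Set.range g) ≤ LinearMap.ker (lamz ψ z) := by
      rw [Submodule.span_le]
      rintro _ ⟨l, rfl⟩
      exact (hlrow ψ z l).trans (hz l)
    exact hle hT
  have hinj : ∀ ψ z, lamz ψ z = 0 → z = 0 := by
    intro ψ z hz
    funext a
    refine Fin.cases ?_ (fun a' => ?_) a
    · simpa [hlam] using LinearMap.congr_fun hz (1 : B)
    · have := LinearMap.congr_fun hz (uc F ψ a')
      simp only [hlam, g_uc, apply_ite ψ, map_one, map_zero, mul_ite, mul_one, mul_zero, Finset.sum_ite_eq',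
        Finset.mem_univ, if_true, show ψ (uc F ψ a') = 0 from sub_mem_pk ψ _, zero_add, LinearMap.zero_apply]
        at this
      exact this
  have hone : ∀ ψ : B →ₐ[k] k, ψ (β b) ≠ 0 → ∀ z, (∀ l, ∑ a, z a * ψ (Mat a l) = 0) →
      lamz ψ z (β b) = 0 → z = 0 := fun ψ hψ z hz he =>
    hinj ψ z ((relation_core ψ β (hspan ψ) _ (hlsq ψ z) b hψ fun a => hkill ψ z hz _ (h2 a)).1 he)
  have hfull : Function.Surjective (Mat.map ψ₀).mulVec := by
    refine surjective_of_no_relation _ fun z hz => ?_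
    have hz' : ∀ l, ∑ a, z a * ψ₀ (Mat a l) = 0 := fun l => by simpa [Matrix.map_apply] using hz l
    exact hone ψ₀ hb₀ z hz' ((relation_core ψ₀ β (hspan ψ₀) _ (hlsq ψ₀ z) b hb₀
      fun a => hkill ψ₀ z hz' _ (h2 a)).2 ℓ hℓ₀ (hkill ψ₀ z hz' _ hℓ) fun a => hkill ψ₀ z hz' _ (hℓ2 a))
  obtain ⟨P, hP0, hP⟩ := exists_ne_zero_count (k := k) (⊥ : Ideal B) (β b) Mat 0 (fun q _ hgq => by
    obtain ⟨t, ht, htn, htlt⟩ := trdeg_residue_le (k := k) hstd q
    by_cases hq : q.asIdeal = ⊥
    · refine ⟨n + 1, id, t, ht, Nat.lt_succ_of_le htn, ?_⟩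
      rw [Matrix.submatrix_id_id]
      exact surjective_residue Mat ψ₀ q.asIdeal (hq ▸ bot_le) hfull
    · haveI : IsJacobsonRing B := isJacobsonRing_of_finiteType (A := k) (B := B)
      obtain ⟨Mx, hMx, hqM, hgM⟩ : ∃ Mx : Ideal B, Mx.IsMaximal ∧ q.asIdeal ≤ Mx ∧ β b ∉ Mx := by
        by_contra hall
        push Not at hall
        refine hgq ?_
        rw [← q.2.isRadical.radical, Ideal.radical_eq_jacobson]
        exact Submodule.mem_sInf.mpr fun Mx hMx => hall Mx hMx.2 hMx.1
      obtain ⟨ψ, hψ⟩ := exists_point (k := k) Mx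
      have hg : ψ (β b) ≠ 0 := fun e => hgM (hψ.le (show β b ∈ pk ψ from e))
      obtain ⟨a₀, ha₀⟩ : ∃ a₀ : Fin (n + 1), ∀ z : Fin (n + 1) → k, (∀ l, ∑ a, z a * ψ (Mat a l) = 0) → z a₀ = 0 → z = 0 := by
        by_cases hex : ∃ z₁ : Fin (n + 1) → k, z₁ ≠ 0 ∧ ∀ l, ∑ a, z₁ a * ψ (Mat a l) = 0
        · obtain ⟨z₁, hz₁, hr₁⟩ := hex
          obtain ⟨a₀, ha₀⟩ := Function.ne_iff.mp hz₁
          refine ⟨a₀, fun z hz hza => hone ψ hg z hz ?_⟩
          have hl1 : lamz ψ z₁ (β b) ≠ 0 := fun e => hz₁ (hone ψ hg z₁ hr₁ e)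
          have hcomb := hone ψ hg (lamz ψ z₁ (β b) • z - lamz ψ z (β b) • z₁)
            (fun l => by simp [Finset.sum_sub_distrib, sub_mul, mul_assoc, ← Finset.mul_sum, hz l, hr₁ l])
            (by
              simp only [hlam, Pi.sub_apply, Pi.smul_apply, smul_eq_mul, sub_mul, mul_assoc, Finset.sum_sub_distrib,
                ← Finset.mul_sum]
              ring)
          have := congrFun hcomb a₀
          simp only [Pi.sub_apply, Pi.smul_apply, smul_eq_mul, hza, mul_zero, zero_sub, Pi.zero_apply, neg_eq_zero,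
            mul_eq_zero] at this
          exact this.resolve_right (by simpa using ha₀)
        · push Not at hex
          exact ⟨0, fun z hz _ => by_contra fun hne => by obtain ⟨l, hl⟩ := hex z hne; exact hl (hz l)⟩
      refine ⟨n, a₀.succAbove, t, ht, htlt hq, surjective_residue (Mat.submatrix a₀.succAbove id) ψ q.asIdeal
        (le_of_le_of_eq hqM hψ.symm) (surjective_of_no_relation _ fun z hz => ?_)⟩
      have h0 : a₀.insertNth (α := fun _ => k) 0 z = 0 := ha₀ _ (fun l => by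
        rw [Fin.sum_univ_succAbove _ a₀, Fin.insertNth_apply_same, zero_mul, zero_add]
        simpa [Matrix.map_apply, Fin.insertNth_apply_succAbove] using hz l) (Fin.insertNth_apply_same _ _ _)
      funext a
      simpa [Fin.insertNth_apply_succAbove] using congrFun h0 (a₀.succAbove a))
  refine ⟨P, hP0, fun ψ s hψ hs hmem => ?_⟩
  obtain ⟨a, ha⟩ := hP ψ s (fun x hx => by rw [Ideal.mem_bot.mp hx, map_zero]) hψ hs
  refine ha ?_
  rw [Pi.zero_apply, map_zero, zero_add]
  refine Fin.cases ?_ (fun a' => ?_) a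
  · have h0 : ψ (∑ l, s l • g l) = 0 := Ideal.pow_le_self two_ne_zero hmem
    simpa [Mat, map_sum, map_smul, mul_comm] using h0
  · have h0 := deriv_apply_eq_zero F ψ a' hmem
    simpa [Mat, map_sum, map_smul, Derivation.map_smul, mul_comm] using h0

/-- A nondegenerate quadratic form in linear coordinates has no other double zero. -/
theorem no_double_zero {n : ℕ} (F : Frame k B n) (ψ : B →ₐ[k] k) (z : Fin n → B)
    (hspan : ∀ T : B, ∃ (c₀ : k) (c : Fin n → k), T - (c₀ • 1 + ∑ a, c a • z a) ∈ pk ψ ^ 2)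
    (c : Fin n → Fin n → k) (hc : ¬ DegQ c) (hne : ∃ a, ψ (z a) ≠ 0) :
    (∑ a, ∑ b, c a b • (z a * z b)) ∉ pk ψ ^ 2 := by
  classical
  intro hmem
  refine hc ⟨fun a => ψ (z a), fun e => hne.elim fun a ha => ha (congrFun e a), ?_, ?_⟩
  · have h0 : ψ (∑ a, ∑ b, c a b • (z a * z b)) = 0 := Ideal.pow_le_self two_ne_zero hmem
    simpa [qf, map_sum, mul_assoc] using h0
  · let D : Fin n → k := fun a => dq c a fun b => ψ (z b)
    let G : Matrix (Fin n) (Fin n) k := Matrix.of fun e a => ψ (F.g e (z a))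
    have hD : ∀ e, ∑ a, G e a * D a = 0 := by
      intro e
      have h0 := deriv_apply_eq_zero F ψ e hmem
      simp only [map_sum, Derivation.map_smul, Derivation.leibniz, smul_eq_mul, map_smul, map_add, map_mul] at h0
      rw [← h0]
      simp only [D, dq, G, Matrix.of_apply, Finset.mul_sum, add_mul, mul_add, Finset.sum_add_distrib]
      rw [add_comm]
      congr 1
      · rw [Finset.sum_comm]
        exact Finset.sum_congr rfl fun a _ => Finset.sum_congr rfl fun b _ => by ring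
      · exact Finset.sum_congr rfl fun a _ => Finset.sum_congr rfl fun b _ => by ring
    choose c₀ μ hμ using fun a => hspan (uc F ψ a)
    have hinv : G * Matrix.of (fun a e => μ e a) = 1 := by
      ext e e'
      have h0 := deriv_apply_eq_zero F ψ e (hμ e')
      rw [map_sub, map_sub, g_uc] at h0
      simp only [map_add, map_sum, Derivation.map_smul, Derivation.map_one_eq_zero, smul_zero, zero_add,
        apply_ite ψ, map_one, map_zero, map_smul, smul_eq_mul, sub_eq_zero] at h0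
      rw [Matrix.mul_apply, Matrix.one_apply, h0]
      exact Finset.sum_congr rfl fun a _ => mul_comm _ _
    intro a
    have h1 := mul_eq_one_comm.mp hinv
    have h2 : Matrix.mulVec (Matrix.of (fun a e => μ e a) * G) D = 0 := by
      rw [← Matrix.mulVec_mulVec, show G.mulVec D = 0 from funext hD, Matrix.mulVec_zero]
    rw [h1, Matrix.one_mulVec] at h2
    exact congrFun h2 a

end GrothLib.OrdQuad12
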