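import Groth.Agent.Lib.OrdQuad12.Quad
import Groth.Agent.Lib.DualVar12.Alg

/-!
# Second order Taylor expansions on a smooth affine variety

A frame is a family of functions whose differentials form a basis, together with a function on
`Spec B × Spec B`, equal to one on the diagonal, for which second order expansions hold.
-/

set_option autoImplicit false
set_option linter.all false
set_option maxHeartbeats 1000000
universe u

open TensorProduct

noncomputable section

namespace GrothLib.OrdQuad12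

open GrothLib.DualVar12 (pk pk_isMaximal)

variable {k : Type u} [Field k] {B : Type u} [CommRing B] [Algebra k B] {n : ℕ}

/-- The difference of the two pull-backs of a function. -/
def δ (b : B) : B ⊗[k] B := (1 : B) ⊗ₜ[k] b - b ⊗ₜ[k] (1 : B)

/-- The first order remainder. -/
def rem (u : Fin n → B) (g : Fin n → Derivation k B B) (b : B) : B ⊗[k] B :=
  δ (k := k) b - ∑ a, ((g a b) ⊗ₜ[k] (1 : B)) * δ (k := k) (u a)

variable (k B n) in
/-- Coordinates with a second order Taylor formula. -/
structure Frame where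
  u : Fin n → B
  g : Fin n → Derivation k B B
  hg : ∀ i a, g i (u a) = if i = a then 1 else 0
  s : B ⊗[k] B
  hs : Algebra.TensorProduct.lmul' k s = 1
  hsep : ∀ b : B, s * δ (k := k) b ∈ Ideal.span (Set.range fun a => δ (k := k) (u a))
  hexp : ∀ b : B, ∃ A : Fin n → Fin n → B ⊗[k] B,
    s * rem u g b = ∑ a, ∑ c, A a c * δ (k := k) (u a) * δ (k := k) (u c)

theorem δ_eq (b : B) : δ (k := k) b = (1 : B) ⊗ₜ[k] b - algebraMap B (B ⊗[k] B) b := rfl

theorem δ_mem (b : B) : δ (k := k) b ∈ KaehlerDifferential.ideal k B :=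
  KaehlerDifferential.one_smul_sub_smul_one_mem_ideal k b

theorem exists_frame [Algebra.FiniteType k B] (u : Fin n → B) (e : Module.Basis (Fin n) B Ω[B⁄k])
    (he : ∀ a, e a = KaehlerDifferential.D k B (u a)) : Nonempty (Frame k B n) := by
  classical
  let g : Fin n → Derivation k B B := fun i => (e.coord i).compDer (KaehlerDifferential.D k B)
  have hgb : ∀ b, KaehlerDifferential.D k B b = ∑ a, g a b • KaehlerDifferential.D k B (u a) := fun b => by
    conv_lhs => rw [← e.sum_repr (KaehlerDifferential.D k B b)]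
    simp only [he]
    rfl
  have hg : ∀ i a, g i (u a) = if i = a then 1 else 0 := fun i a => by
    show e.coord i (KaehlerDifferential.D k B (u a)) = _
    rw [← he, Module.Basis.coord_apply, e.repr_self, Finsupp.single_apply]
    simp [eq_comm]
  let I := KaehlerDifferential.ideal k B
  let J : Ideal (B ⊗[k] B) := Ideal.span (Set.range fun a => δ (k := k) (u a))
  have hr : ∀ b, rem u g b ∈ I ^ 2 := by
    intro b
    have hmem : rem u g b ∈ I := sub_mem (δ_mem b) (sum_mem fun a _ => I.mul_mem_left _ (δ_mem _))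
    refine (I.toCotangent_eq_zero ⟨_, hmem⟩).mp ?_
    have e1 : (⟨rem u g b, hmem⟩ : I) = ⟨δ (k := k) b, δ_mem b⟩ -
        ∑ a, (algebraMap B (B ⊗[k] B) (g a b)) • (⟨δ (k := k) (u a), δ_mem _⟩ : I) := by
      ext
      simp [rem, Algebra.TensorProduct.algebraMap_apply]
    rw [e1, map_sub, map_sum]
    simp only [map_smul, algebraMap_smul]
    show KaehlerDifferential.D k B b - ∑ a, g a b • KaehlerDifferential.D k B (u a) = 0
    rw [← hgb, sub_self]
  have hJI : J ≤ I := Ideal.span_le.mpr (by rintro _ ⟨a, rfl⟩; exact δ_mem _)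
  have hI : I ≤ J ⊔ I ^ 2 := by
    conv_lhs => rw [show I = Ideal.span (Set.range fun b : B => (1 : B) ⊗ₜ[k] b - b ⊗ₜ[k] (1 : B)) from
      (KaehlerDifferential.span_range_eq_ideal k B).symm]
    rw [Ideal.span_le]
    rintro _ ⟨b, rfl⟩
    dsimp only
    have e1 : (1 : B) ⊗ₜ[k] b - b ⊗ₜ[k] (1 : B) = rem u g b + ∑ a, ((g a b) ⊗ₜ[k] (1 : B)) * δ (k := k) (u a) := by
      simp [rem, δ]
    rw [SetLike.mem_coe, e1]
    exact add_mem (Ideal.mem_sup_right (hr b))
      (Ideal.mem_sup_left (sum_mem fun a _ => J.mul_mem_left _ (Ideal.subset_span ⟨a, rfl⟩)))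
  let N := I.map (Ideal.Quotient.mk J)
  have hN : IsIdempotentElem N := by
    refine le_antisymm Ideal.mul_le_left ?_
    have := Ideal.map_mono (f := Ideal.Quotient.mk J) hI
    rwa [Ideal.map_sup, Ideal.map_quotient_self, bot_sup_eq, Ideal.map_pow, pow_two] at this
  obtain ⟨e0, he0, hNe⟩ := (Ideal.isIdempotentElem_iff_of_fg N ((KaehlerDifferential.ideal_fg k B).map _)).mp hN
  obtain ⟨s0, hs0, hs0'⟩ := (Ideal.mem_map_iff_of_surjective (Ideal.Quotient.mk J) Ideal.Quotient.mk_surjective).mp
    (show e0 ∈ N from hNe ▸ Submodule.mem_span_singleton_self e0)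
  have hsI : ∀ x ∈ I, (1 - s0) * x ∈ J := by
    intro x hx
    rw [← Ideal.Quotient.eq_zero_iff_mem, map_mul, map_sub, map_one, hs0']
    have hx' : Ideal.Quotient.mk J x ∈ N := Ideal.mem_map_of_mem _ hx
    rw [hNe] at hx'
    obtain ⟨c, hc⟩ := Ideal.mem_span_singleton'.mp hx'
    rw [← hc, sub_mul, one_mul, mul_left_comm, he0, sub_self]
  refine ⟨⟨u, g, hg, (1 - s0) * (1 - s0), ?_, fun b => ?_, fun b => ?_⟩⟩
  · have h0 : Algebra.TensorProduct.lmul' k s0 = 0 := hs0
    simp [h0]
  · rw [mul_assoc]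
    exact J.mul_mem_left _ (hsI _ (δ_mem b))
  · have hmem : (1 - s0) * (1 - s0) * rem u g b ∈ J * J := by
      have h2 := hr b
      rw [pow_two] at h2
      refine Submodule.mul_induction_on h2 (fun x hx y hy => ?_) fun x y hx hy => by
        rw [mul_add]; exact add_mem hx hy
      rw [show (1 - s0) * (1 - s0) * (x * y) = ((1 - s0) * x) * ((1 - s0) * y) by ring]
      exact Ideal.mul_mem_mul (hsI x hx) (hsI y hy)
    refine Submodule.mul_induction_on hmem (fun x hx y hy => ?_) fun x y ⟨Ax, hx⟩ ⟨Ay, hy⟩ => ?_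
    · obtain ⟨c, rfl⟩ := Ideal.mem_span_range_iff_exists_fun.mp hx
      obtain ⟨d, rfl⟩ := Ideal.mem_span_range_iff_exists_fun.mp hy
      refine ⟨fun a b => c a * d b, ?_⟩
      rw [Finset.sum_mul_sum]
      exact Finset.sum_congr rfl fun a _ => Finset.sum_congr rfl fun b _ => by ring
    · refine ⟨Ax + Ay, ?_⟩
      rw [hx, hy]
      simp [add_mul, Finset.sum_add_distrib]

variable (F : Frame k B n) (φ : B →ₐ[k] k)

/-- Evaluation of the first factor. -/
def slice : B ⊗[k] B →ₐ[k] B :=
  Algebra.TensorProduct.lift ((Algebra.ofId k B).comp φ) (AlgHom.id k B) fun _ _ => Commute.all _ _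

/-- A pair of points. -/
def pairPt (φ' : B →ₐ[k] k) : B ⊗[k] B →ₐ[k] k :=
  Algebra.TensorProduct.lift φ φ' fun _ _ => Commute.all _ _

theorem slice_δ (b : B) : slice φ (δ (k := k) b) = b - algebraMap k B (φ b) := by
  simp [slice, δ]

theorem pairPt_δ (φ' : B →ₐ[k] k) (b : B) : pairPt φ φ' (δ (k := k) b) = φ' b - φ b := by
  simp [pairPt, δ]

theorem φ_slice (x : B ⊗[k] B) : φ (slice φ x) = φ (Algebra.TensorProduct.lmul' k x) := by
  induction x using TensorProduct.induction_on with
  | zero => simp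
  | tmul a b => simp [slice]
  | add x y hx hy => simp only [map_add, hx, hy]

theorem pairPt_self (x : B ⊗[k] B) : pairPt φ φ x = φ (Algebra.TensorProduct.lmul' k x) := by
  induction x using TensorProduct.induction_on with
  | zero => simp
  | tmul a b => simp [pairPt]
  | add x y hx hy => simp only [map_add, hx, hy]

theorem φ_slice_s : φ (slice φ F.s) = 1 := by rw [φ_slice, F.hs, map_one]

theorem sub_mem_pk (b : B) : b - algebraMap k B (φ b) ∈ pk φ := by simp [RingHom.mem_ker]

/-- Centred coordinates. -/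
abbrev uc (a : Fin n) : B := F.u a - algebraMap k B (φ (F.u a))

theorem g_uc (i a : Fin n) : F.g i (uc F φ a) = if i = a then 1 else 0 := by
  simp [uc, F.hg]

theorem slice_left (b : B) : slice φ (b ⊗ₜ[k] (1 : B)) = algebraMap k B (φ b) := by simp [slice]

theorem slice_rem (b : B) :
    slice φ (rem F.u F.g b) = b - algebraMap k B (φ b) - ∑ a, algebraMap k B (φ (F.g a b)) * uc F φ a := by
  simp [rem, slice_δ, slice_left, uc, map_sum]

theorem deriv_apply_eq_zero (i : Fin n) {x : B} (hx : x ∈ pk φ ^ 2) : φ (F.g i x) = 0 :=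
  by
    rw [pow_two] at hx
    refine Submodule.mul_induction_on hx (fun a ha b hb => ?_) fun a b ha hb => by
      rw [map_add, map_add, ha, hb, add_zero]
    rw [Derivation.leibniz, smul_eq_mul, smul_eq_mul, map_add, map_mul, map_mul, show φ a = 0 from ha,
      show φ b = 0 from hb, zero_mul, zero_mul, add_zero]

/-- Multiplication by the diagonal function does not change classes. -/
theorem sub_mul_mem (m : ℕ) {x : B} (hx : x ∈ pk φ ^ m) : x - slice φ F.s * x ∈ pk φ ^ (m + 1) := by
  rw [show x - slice φ F.s * x = (1 - slice φ F.s) * x by ring, pow_succ']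
  exact Ideal.mul_mem_mul (by simp [RingHom.mem_ker, φ_slice_s]) hx

/-- Linear expansion. -/
theorem lin_expand {b : B} (hb : b ∈ pk φ) :
    b - ∑ a, algebraMap k B (φ (F.g a b)) * uc F φ a ∈ pk φ ^ 2 := by
  set x := b - ∑ a, algebraMap k B (φ (F.g a b)) * uc F φ a
  obtain ⟨A, hA⟩ := F.hexp b
  have h1 : slice φ F.s * x ∈ pk φ ^ 2 := by
    have hb0 : φ b = 0 := hb
    have := congrArg (slice φ) hA
    rw [map_mul, slice_rem, hb0, map_zero, sub_zero] at this
    rw [this, map_sum]
    refine sum_mem fun a _ => ?_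
    rw [map_sum]
    refine sum_mem fun c _ => ?_
    rw [map_mul, map_mul, slice_δ, slice_δ, mul_assoc, pow_two]
    exact Ideal.mul_mem_left _ _ (Ideal.mul_mem_mul (sub_mem_pk φ _) (sub_mem_pk φ _))
  have h2 : x ∈ pk φ := sub_mem hb (sum_mem fun a _ => Ideal.mul_mem_left _ _ (sub_mem_pk φ _))
  have h3 := sub_mul_mem F φ 1 (by rwa [pow_one])
  have := add_mem h1 h3
  rwa [add_sub_cancel] at this

/-- A function is in the square of the maximal ideal iff it and its derivatives vanish. -/
theorem mem_sq_iff (h : B) : h ∈ pk φ ^ 2 ↔ φ h = 0 ∧ ∀ a, φ (F.g a h) = 0 := by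
  refine ⟨fun hh => ⟨Ideal.pow_le_self two_ne_zero hh, fun a => deriv_apply_eq_zero F φ a hh⟩, fun ⟨h0, h1⟩ => ?_⟩
  simpa [h1] using lin_expand F φ (show h ∈ pk φ from h0)

/-- The quadratic form at a point. -/
def cAt (A : Fin n → Fin n → B ⊗[k] B) : Fin n → Fin n → k :=
  fun a c => φ (Algebra.TensorProduct.lmul' k (A a c))

/-- The quadratic expansion. -/
theorem quad_expand {h : B} (hh : h ∈ pk φ ^ 2) (A : Fin n → Fin n → B ⊗[k] B)
    (hA : F.s * rem F.u F.g h = ∑ a, ∑ c, A a c * δ (k := k) (F.u a) * δ (k := k) (F.u c)) :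
    h - ∑ a, ∑ c, algebraMap k B (cAt φ A a c) * uc F φ a * uc F φ c ∈ pk φ ^ 3 := by
  obtain ⟨h0, h1⟩ := (mem_sq_iff F φ h).mp hh
  have := congrArg (slice φ) hA
  rw [map_mul, slice_rem, h0, map_zero, sub_zero] at this
  simp only [h1, map_zero, zero_mul, Finset.sum_const_zero, sub_zero, map_sum, map_mul, slice_δ] at this
  have e1 : slice φ F.s * h - ∑ a, ∑ c, algebraMap k B (cAt φ A a c) * uc F φ a * uc F φ c ∈ pk φ ^ 3 := by
    rw [this, ← Finset.sum_sub_distrib]
    refine sum_mem fun a _ => ?_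
    rw [← Finset.sum_sub_distrib]
    refine sum_mem fun c _ => ?_
    rw [← sub_mul, ← sub_mul, mul_assoc, pow_succ']
    refine Ideal.mul_mem_mul (by simp [RingHom.mem_ker, cAt, φ_slice]) ?_
    rw [pow_two]
    exact Ideal.mul_mem_mul (sub_mem_pk φ _) (sub_mem_pk φ _)
  have := add_mem e1 (sub_mul_mem F φ 2 hh)
  convert this using 1
  ring

/-- Derivation in the second factor. -/
def der₂ (D : Derivation k B B) : B ⊗[k] B →ₗ[k] B ⊗[k] B := TensorProduct.map LinearMap.id D.toLinearMap

theorem der₂_mul (D : Derivation k B B) (x y : B ⊗[k] B) : der₂ D (x * y) = x * der₂ D y + y * der₂ D x := by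
  induction x using TensorProduct.induction_on with
  | zero => simp
  | tmul a b =>
    induction y using TensorProduct.induction_on with
    | zero => simp
    | tmul c d =>
      simp [der₂, Derivation.leibniz, TensorProduct.tmul_add, mul_comm c a]
    | add y z hy hz => simp only [mul_add, map_add, hy, hz, add_mul]; abel
  | add x z hx hz => simp only [add_mul, map_add, hx, hz, mul_add]; abel

theorem der₂_δ (D : Derivation k B B) (b : B) : der₂ D (δ (k := k) b) = (1 : B) ⊗ₜ[k] D b := by
  simp [der₂, δ]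

theorem der₂_left (D : Derivation k B B) (b : B) : der₂ D (b ⊗ₜ[k] (1 : B)) = 0 := by simp [der₂]

/-- The linear system satisfied by the difference of two singular points. -/
def Msys (A : Fin n → Fin n → B ⊗[k] B) (i c : Fin n) : B ⊗[k] B :=
  A i c + A c i + ∑ a, der₂ (F.g i) (A a c) * δ (k := k) (F.u a)

theorem pairPt_Msys_self (A : Fin n → Fin n → B ⊗[k] B) (i : Fin n) (v : Fin n → k) :
    ∑ c, pairPt φ φ (Msys F A i c) * v c = dq (cAt φ A) i v := by
  simp [Msys, dq, cAt, pairPt_δ, ← pairPt_self]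

/-- Two singular points of one function have difference a common zero. -/
theorem pair_eqs (φ' : B →ₐ[k] k) {h : B} (hh : h ∈ pk φ ^ 2) (hh' : h ∈ pk φ' ^ 2)
    (A : Fin n → Fin n → B ⊗[k] B)
    (hA : F.s * rem F.u F.g h = ∑ a, ∑ c, A a c * δ (k := k) (F.u a) * δ (k := k) (F.u c)) :
    qf (fun a c => pairPt φ φ' (A a c)) (fun a => φ' (F.u a) - φ (F.u a)) = 0 ∧
      ∀ i, ∑ c, pairPt φ φ' (Msys F A i c) * (φ' (F.u c) - φ (F.u c)) = 0 := by
  obtain ⟨h0, h1⟩ := (mem_sq_iff F φ h).mp hh
  obtain ⟨h0', h1'⟩ := (mem_sq_iff F φ' h).mp hh'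
  have hl : ∀ a, pairPt φ φ' ((F.g a h) ⊗ₜ[k] (1 : B)) = 0 := fun a => by simp [pairPt, h1]
  have hr : pairPt φ φ' (rem F.u F.g h) = 0 := by
    simp [rem, map_sum, pairPt_δ, h0, h0', hl]
  refine ⟨?_, fun i => ?_⟩
  · have := congrArg (pairPt φ φ') hA
    rw [map_mul, hr, mul_zero] at this
    simpa [qf, map_sum, map_mul, pairPt_δ] using this.symm
  · have := congrArg (fun z => pairPt φ φ' (der₂ (F.g i) z)) hA
    simp only [der₂_mul, map_sum, map_add, map_mul, hr, zero_mul, add_zero] at this
    have hl2 : pairPt φ φ' (der₂ (F.g i) (rem F.u F.g h)) = 0 := by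
      simp only [rem, map_sub, map_sum, der₂_mul, der₂_δ, der₂_left, mul_zero, add_zero, map_mul, hl, zero_mul,
        Finset.sum_const_zero, sub_zero]
      simp [pairPt, h1']
    rw [hl2, mul_zero] at this
    have hd : ∀ a, pairPt φ φ' (der₂ (F.g i) (δ (k := k) (F.u a))) = if i = a then 1 else 0 := fun a => by
      rw [der₂_δ, F.hg]
      split <;> simp [pairPt]
    set P := fun a c => pairPt φ φ' (A a c)
    set E := fun a c => pairPt φ φ' (der₂ (F.g i) (A a c))
    set d := fun a => φ' (F.u a) - φ (F.u a)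
    simp only [pairPt_δ, hd] at this
    change 0 = ∑ a, ∑ c, (P a c * d a * (if i = c then 1 else 0) +
      d c * (P a c * (if i = a then 1 else 0) + d a * E a c)) at this
    simp only [Msys, map_add, map_sum, map_mul, pairPt_δ]
    show ∑ c, (P i c + P c i + ∑ a, E a c * d a) * d c = 0
    rw [this]
    simp only [Finset.sum_add_distrib, mul_add, mul_ite, mul_one, mul_zero, Finset.sum_ite_eq,
      Finset.sum_ite_irrel, Finset.sum_const_zero, Finset.mem_univ, if_true, add_mul, Finset.sum_mul]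
    rw [← add_assoc]
    conv_lhs => arg 2; rw [Finset.sum_comm]
    rw [add_comm (∑ c, P i c * d c)]
    congr 1
    · congr 1
      exact Finset.sum_congr rfl fun c _ => by ring
    · exact Finset.sum_congr rfl fun c _ => Finset.sum_congr rfl fun a _ => by ring

/-- Points with equal coordinates, near the diagonal, are equal. -/
theorem eq_of_u_eq (φ' : B →ₐ[k] k) (hs : pairPt φ φ' F.s ≠ 0) (h : ∀ a, φ' (F.u a) = φ (F.u a)) : φ' = φ := by
  ext b
  obtain ⟨c, hc⟩ := Ideal.mem_span_range_iff_exists_fun.mp (F.hsep b)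
  have := congrArg (pairPt φ φ') hc
  simp [map_sum, pairPt_δ, h] at this
  exact sub_eq_zero.mp (this.resolve_left hs)

end GrothLib.OrdQuad12
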