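import Groth.Agent.Lib.OrdQuad12.Degen

/-!
# Existence of exact bases; transport of nondegeneracy to local rings
-/

set_option autoImplicit false
set_option linter.all false
set_option maxHeartbeats 1000000
universe u

open TensorProduct

noncomputable section

namespace GrothLib.OrdQuad12

open GrothLib.DualVar12 (pk pk_isMaximal)

variable {k : Type u} [Field k] {B : Type u} [CommRing B] [Algebra k B]

/-- Around every point, after shrinking, some exact forms give a basis of the differentials. -/
theorem exists_exact_basis [Algebra.Smooth k B] (n : ℕ)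
    (hn : ∀ p : PrimeSpectrum B, Module.rankAtStalk (R := B) Ω[B⁄k] p = n) (φ : B →ₐ[k] k) :
    ∃ t : B, φ t ≠ 0 ∧ ∀ (B' : Type u) [CommRing B'] [Algebra B B'] [Algebra k B'] [IsScalarTower k B B']
      [IsLocalization.Away t B'],
      ∃ (u : Fin n → B') (e : Module.Basis (Fin n) B' Ω[B'⁄k]), ∀ a, e a = KaehlerDifferential.D k B' (u a) := by
  classical
  letI : Algebra B k := φ.toRingHom.toAlgebra
  haveI : IsScalarTower k B k := IsScalarTower.of_algebraMap_eq fun c => (φ.commutes c).symm
  have hsurjφ : Function.Surjective (algebraMap B k) := fun c => ⟨algebraMap k B c, φ.commutes c⟩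
  haveI : Module.Projective B Ω[B⁄k] := inferInstance
  haveI : Module.Finite B Ω[B⁄k] := inferInstance
  have hV : Module.finrank k (k ⊗[B] Ω[B⁄k]) = n := by
    have h := Module.rankAtStalk_eq_finrank_of_free (R := k) (M := k ⊗[B] Ω[B⁄k])
    have h2 := congrFun h ⟨⊥, Ideal.bot_prime⟩
    rw [Module.rankAtStalk_baseChange, hn] at h2
    exact h2.symm
  let π : Ω[B⁄k] →ₗ[B] k ⊗[B] Ω[B⁄k] := TensorProduct.mk B k Ω[B⁄k] 1
  have hspan : Submodule.span k (Set.range fun b => π (KaehlerDifferential.D k B b)) = ⊤ := by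
    rw [eq_top_iff]
    intro z _
    induction z using TensorProduct.induction_on with
    | zero => exact zero_mem _
    | add x y hx hy => exact add_mem (hx trivial) (hy trivial)
    | tmul c ω =>
      rw [show c ⊗ₜ[B] ω = c • π ω by simp [π, TensorProduct.smul_tmul']]
      refine Submodule.smul_mem _ c ?_
      have hω : ω ∈ Submodule.span B (Set.range (KaehlerDifferential.D k B)) := by
        rw [KaehlerDifferential.span_range_derivation]; trivial
      clear * - hω
      induction hω using Submodule.span_induction with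
      | mem x hx => obtain ⟨b, rfl⟩ := hx; exact Submodule.subset_span ⟨b, rfl⟩
      | zero => simp
      | add x y _ _ hx hy => rw [map_add]; exact add_mem hx hy
      | smul r x _ hx => rw [map_smul, ← algebraMap_smul k r (π x)]; exact Submodule.smul_mem _ _ hx
  obtain ⟨f, hf, hfspan, hfli⟩ := Submodule.exists_fun_fin_finrank_span_eq k
    (Set.range fun b => π (KaehlerDifferential.D k B b))
  have hcard : n = Module.finrank k (Submodule.span k (Set.range fun b => π (KaehlerDifferential.D k B b))) := by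
    rw [hspan, finrank_top, hV]
  let v : Fin n → k ⊗[B] Ω[B⁄k] := f ∘ finCongr hcard
  have hvspan : Submodule.span k (Set.range v) = ⊤ := by
    rw [Function.Surjective.range_comp (finCongr hcard).surjective, hfspan, hspan]
  let bv : Module.Basis (Fin n) k (k ⊗[B] Ω[B⁄k]) :=
    Module.Basis.mk (hfli.comp _ (finCongr hcard).injective) hvspan.ge
  choose u hu using fun a => hf (finCongr hcard a)
  have hbv : ∀ a, bv a = π (KaehlerDifferential.D k B (u a)) := fun a => by
    rw [Module.Basis.mk_apply]; exact (hu a).symm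
  -- functionals
  have hℓ : ∀ i, ∃ ℓ : Ω[B⁄k] →ₗ[B] B, ∀ ω, φ (ℓ ω) = bv.coord i (π ω) := fun i => by
    obtain ⟨ℓ, hℓ⟩ := Module.projective_lifting_property (Algebra.linearMap B k)
      (((bv.coord i).restrictScalars B).comp π) hsurjφ
    exact ⟨ℓ, fun ω => LinearMap.congr_fun hℓ ω⟩
  choose ℓ hℓ using hℓ
  let G : Matrix (Fin n) (Fin n) B := Matrix.of fun i a => ℓ i (KaehlerDifferential.D k B (u a))
  have hG : φ G.det = 1 := by
    have e : φ.toRingHom.mapMatrix G = 1 := by
      ext i a
      show φ (ℓ i (KaehlerDifferential.D k B (u a))) = _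
      rw [hℓ, ← hbv, Module.Basis.coord_apply, bv.repr_self, Finsupp.single_apply, Matrix.one_apply]
      simp [eq_comm]
    have := φ.toRingHom.map_det G
    rw [e, Matrix.det_one] at this
    exact this
  -- generation near the point
  let M : Submodule B Ω[B⁄k] := Submodule.span B (Set.range fun a => KaehlerDifferential.D k B (u a))
  haveI : (pk φ).IsMaximal := pk_isMaximal φ
  have hker : ∀ ω, π ω = 0 → ω ∈ pk φ • (⊤ : Submodule B Ω[B⁄k]) := by
    intro ω hω
    obtain ⟨s, hs⟩ := (Module.projective_def (R := B) (P := Ω[B⁄k])).mp inferInstance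
    rw [← hs ω, Finsupp.linearCombination_apply]
    refine Submodule.sum_mem _ fun x _ => Submodule.smul_mem_smul ?_ trivial
    let L : Ω[B⁄k] →ₗ[B] k := (Algebra.linearMap B k).comp ((Finsupp.lapply x).comp s)
    let L' : k ⊗[B] Ω[B⁄k] →ₗ[k] k := L.liftBaseChange k
    have : φ (s ω x) = L' (π ω) := by
      simp [π, L', L]
      rfl
    rw [hω, map_zero] at this
    exact this
  have hsup : (⊤ : Submodule B (Ω[B⁄k] ⧸ M)) ≤ pk φ • ⊤ := by
    intro x _
    obtain ⟨ω, rfl⟩ := Submodule.Quotient.mk_surjective M x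
    choose r hr using fun a => hsurjφ (bv.repr (π ω) a)
    have h1 : π (ω - ∑ a, r a • KaehlerDifferential.D k B (u a)) = 0 := by
      rw [map_sub, map_sum, sub_eq_zero]
      conv_lhs => rw [← bv.sum_repr (π ω)]
      refine Finset.sum_congr rfl fun a _ => ?_
      rw [map_smul, ← hbv, ← algebraMap_smul k (r a), hr]
    have h2 : (Submodule.Quotient.mk ω : Ω[B⁄k] ⧸ M) =
        M.mkQ (ω - ∑ a, r a • KaehlerDifferential.D k B (u a)) := by
      symm
      refine (Submodule.Quotient.eq M).mpr ?_
      rw [sub_sub_cancel_left]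
      exact neg_mem (sum_mem fun a _ => M.smul_mem _ (Submodule.subset_span ⟨a, rfl⟩))
    rw [h2]
    have h3 := Submodule.mem_map_of_mem (f := M.mkQ) (hker _ h1)
    rw [Submodule.map_smul''] at h3
    exact Submodule.smul_mono le_rfl le_top h3
  obtain ⟨r, hr1, hr0⟩ :=
    Submodule.exists_sub_one_mem_and_smul_eq_zero_of_fg_of_le_smul (pk φ) ⊤ Module.Finite.fg_top hsup
  have hφr : φ r = 1 := by
    have : φ (r - 1) = 0 := hr1
    rwa [map_sub, map_one, sub_eq_zero] at this
  refine ⟨r * G.det, by rw [map_mul, hφr, hG, one_mul]; exact one_ne_zero, fun B' _ _ _ _ _ => ?_⟩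
  haveI : Algebra.FormallyEtale B B' := Algebra.FormallyEtale.of_isLocalization (.powers (r * G.det))
  have hunit : IsUnit (algebraMap B B' (r * G.det)) :=
    IsLocalization.map_units B' (⟨_, 1, pow_one _⟩ : Submonoid.powers (r * G.det))
  rw [map_mul, IsUnit.mul_iff] at hunit
  let u' : Fin n → B' := fun a => algebraMap B B' (u a)
  let T : (Fin n → B') →ₗ[B'] Ω[B'⁄k] :=
    Fintype.linearCombination B' fun a => KaehlerDifferential.D k B' (u' a)
  have hTs : Function.Surjective T := by
    rw [← LinearMap.range_eq_top, eq_top_iff, ← KaehlerDifferential.span_range_map_derivation_of_isLocalization k B B'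
      (.powers (r * G.det)), Submodule.span_le]
    rintro _ ⟨b, rfl⟩
    have hb : r • KaehlerDifferential.D k B b ∈ M := by
      rw [← Submodule.Quotient.mk_eq_zero M, Submodule.Quotient.mk_smul]
      exact hr0 _ trivial
    obtain ⟨c, hc⟩ := (Submodule.mem_span_range_iff_exists_fun B).mp hb
    obtain ⟨r', hr'⟩ := hunit.1.exists_left_inv
    refine ⟨fun a => r' * algebraMap B B' (c a), ?_⟩
    have h1 := congrArg (KaehlerDifferential.map k k B B') hc
    simp only [map_sum, map_smul, KaehlerDifferential.map_D] at h1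
    rw [Function.comp_apply, KaehlerDifferential.map_D, Fintype.linearCombination_apply]
    simp only [mul_smul, algebraMap_smul, u']
    rw [← Finset.smul_sum, h1, ← algebraMap_smul B' r, smul_smul, hr', one_smul]
  let ℓ' : Fin n → (Ω[B'⁄k] →ₗ[B'] B') := fun i =>
    ((AlgebraTensorModule.rid B B' B').toLinearMap.comp ((ℓ i).baseChange B')).comp
      (KaehlerDifferential.tensorKaehlerEquivOfFormallyEtale k B B').symm.toLinearMap
  have hℓ' : ∀ i a, ℓ' i (KaehlerDifferential.D k B' (u' a)) = algebraMap B B' (G i a) := fun i a => by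
    simp [ℓ', u', G, KaehlerDifferential.tensorKaehlerEquivOfFormallyEtale_symm_D_algebraMap]
    rw [Algebra.smul_def, mul_one]
  have hTi : Function.Injective T := (injective_iff_map_eq_zero T).2 fun c hc => by
    refine Matrix.mulVec_injective_of_isUnit
      (((Matrix.isUnit_iff_isUnit_det _).mpr ?_) : IsUnit ((algebraMap B B').mapMatrix G)) ?_
    · rw [← RingHom.map_det]; exact hunit.2
    · rw [Matrix.mulVec_zero]
      funext i
      have := congrArg (ℓ' i) hc
      simp only [T, Fintype.linearCombination_apply, map_sum, map_smul, map_zero, hℓ', smul_eq_mul] at this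
      rw [Pi.zero_apply, ← this]
      simp only [Matrix.mulVec, dotProduct, RingHom.mapMatrix_apply, Matrix.map_apply]
      exact Finset.sum_congr rfl fun a _ => mul_comm _ _
  refine ⟨u', (Pi.basisFun B' (Fin n)).map (LinearEquiv.ofBijective T ⟨hTi, hTs⟩), fun a => ?_⟩
  rw [Module.Basis.map_apply, Pi.basisFun_apply]
  show T _ = _
  simp [T, Fintype.linearCombination_apply_single]

/-- Multiples of a function vanish at least as degenerately. -/
theorem Degen.mul_left {p : Ideal B} {h : B} (hd : Degen p h) (a : B) : Degen p (a * h) := by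
  obtain ⟨𝔞, h2, hlt, hh⟩ := hd
  exact ⟨𝔞, h2, hlt, Ideal.mul_mem_left _ a hh⟩

theorem NondegAt.of_dvd {p : Ideal B} {h h' : B} (hh : NondegAt p h) (h1 : h ∣ h') (h2 : h' ∣ h) :
    NondegAt p h' := by
  obtain ⟨a, rfl⟩ := h1
  obtain ⟨b, hb⟩ := h2
  refine ⟨Ideal.mul_mem_right _ _ hh.1, fun hd => hh.2 ?_⟩
  have := hd.mul_left b
  rwa [mul_comm b, ← hb] at this

/-- Nondegeneracy is insensitive to maps inducing isomorphisms of infinitesimal neighbourhoods. -/
theorem nondegAt_map {S : Type u} [CommRing S] (f : B →+* S) (p : Ideal B) (m : Ideal S)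
    (hmem : ∀ (j : ℕ) (b : B), f b ∈ m ^ j ↔ b ∈ p ^ j)
    (hsurj : ∀ (j : ℕ) (x : S), ∃ b, x - f b ∈ m ^ j) (h : B) :
    NondegAt m (f h) ↔ NondegAt p h := by
  have hmem1 : ∀ b, f b ∈ m ↔ b ∈ p := fun b => by simpa using hmem 1 b
  have key : Degen m (f h) ↔ Degen p h := by
    constructor
    · rintro ⟨𝔟, h2, hlt, hh⟩
      have h3 : m ^ 3 ≤ 𝔟 := le_trans (Ideal.pow_le_pow_right (by norm_num)) h2
      refine ⟨𝔟.comap f, fun x hx => h2 ((hmem 2 x).mpr hx), lt_of_le_of_ne (fun x hx => (hmem1 x).mp (hlt.le hx)) ?_, ?_⟩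
      · intro e
        refine hlt.not_ge fun x hx => ?_
        obtain ⟨b, hb⟩ := hsurj 2 x
        have hbm : f b ∈ m := by
          have := sub_mem hx (Ideal.pow_le_self two_ne_zero hb)
          simpa using this
        have : b ∈ 𝔟.comap f := e.symm ▸ (hmem1 b).mp hbm
        simpa using add_mem (h2 hb) (show f b ∈ 𝔟 from this)
      · obtain ⟨x, hx, y, hy, e⟩ := Submodule.mem_sup.mp hh
        obtain ⟨a, ha, hxa⟩ : ∃ a ∈ (𝔟.comap f) ^ 2, x - f a ∈ m ^ 3 := by
          clear e
          rw [pow_two] at hx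
          refine Submodule.mul_induction_on hx (fun u hu v hv => ?_) fun u v ⟨a, ha, hu⟩ ⟨b, hb, hv⟩ => ?_
          · obtain ⟨a, ha⟩ := hsurj 3 u
            obtain ⟨b, hb⟩ := hsurj 3 v
            refine ⟨a * b, ?_, ?_⟩
            · rw [pow_two]
              refine Ideal.mul_mem_mul ?_ ?_
              · simpa using sub_mem hu (h3 ha)
              · simpa using sub_mem hv (h3 hb)
            · rw [map_mul, show u * v - f a * f b = (u - f a) * v + f a * (v - f b) by ring]
              exact add_mem (Ideal.mul_mem_right _ _ ha) (Ideal.mul_mem_left _ _ hb)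
          · refine ⟨a + b, add_mem ha hb, ?_⟩
            rw [map_add, show u + v - (f a + f b) = (u - f a) + (v - f b) by ring]
            exact add_mem hu hv
        have : f (h - a) ∈ m ^ 3 := by
          rw [map_sub, ← e, show x + y - f a = (x - f a) + y by ring]
          exact add_mem hxa hy
        exact Submodule.mem_sup.mpr ⟨a, ha, h - a, (hmem 3 _).mp this, add_sub_cancel _ _⟩
    · rintro ⟨𝔞, h2, hlt, hh⟩
      refine ⟨𝔞.map f ⊔ m ^ 2, le_sup_right, lt_of_le_of_ne (sup_le
        (Ideal.map_le_iff_le_comap.mpr fun x hx => (hmem1 x).mpr (hlt.le hx)) (Ideal.pow_le_self two_ne_zero)) ?_, ?_⟩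
      · intro e
        have key : ∀ x ∈ 𝔞.map f ⊔ m ^ 2, ∃ a ∈ 𝔞, x - f a ∈ m ^ 2 := by
          intro x hx
          obtain ⟨y, hy, z, hz, rfl⟩ := Submodule.mem_sup.mp hx
          clear hx
          suffices hs : ∃ a ∈ 𝔞, y - f a ∈ m ^ 2 by
            obtain ⟨a, ha, hya⟩ := hs
            refine ⟨a, ha, ?_⟩
            rw [show y + z - f a = (y - f a) + z by ring]
            exact add_mem hya hz
          refine Submodule.span_induction (p := fun y _ => ∃ a ∈ 𝔞, y - f a ∈ m ^ 2) ?_ ?_ ?_ ?_ hy
          · rintro _ ⟨a, ha, rfl⟩; exact ⟨a, ha, by simp⟩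
          · exact ⟨0, zero_mem _, by simp⟩
          · rintro u v _ _ ⟨a, ha, hu⟩ ⟨b, hb, hv⟩
            refine ⟨a + b, add_mem ha hb, ?_⟩
            rw [map_add, show u + v - (f a + f b) = (u - f a) + (v - f b) by ring]
            exact add_mem hu hv
          · rintro c u _ ⟨a, ha, hu⟩
            obtain ⟨b, hb⟩ := hsurj 2 c
            refine ⟨b * a, Ideal.mul_mem_left _ _ ha, ?_⟩
            rw [smul_eq_mul, map_mul, show c * u - f b * f a = c * (u - f a) + (c - f b) * f a by ring]
            exact add_mem (Ideal.mul_mem_left _ _ hu) (Ideal.mul_mem_right _ _ hb)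
        refine hlt.not_ge fun b hb => ?_
        obtain ⟨a, ha, hab⟩ := key (f b) (e.symm ▸ (hmem1 b).mpr hb)
        rw [← map_sub, hmem] at hab
        simpa using add_mem (h2 hab) ha
      · have h1 := Ideal.mem_map_of_mem f hh
        rw [Ideal.map_sup, Ideal.map_pow, Ideal.map_pow] at h1
        exact sup_le_sup (Ideal.pow_right_mono le_sup_left 2)
          (Ideal.pow_right_mono (Ideal.map_le_iff_le_comap.mpr fun x hx => (hmem1 x).mpr hx) 3) h1
  rw [NondegAt, NondegAt, key, hmem]

end GrothLib.OrdQuad12
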