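import Groth.Agent.Lib.OrdQuad12.Series
import Groth.Agent.Lib.Jets.Engine
import Groth.Agent.Lib.HypSurf.Chart
import Groth.Prelude.Def_LefPen

/-!
# Smooth quadrics and nondegenerate quadratic forms
-/

set_option autoImplicit false
set_option linter.all false
set_option backward.isDefEq.respectTransparency false
universe u

open CategoryTheory CategoryTheory.Limits AlgebraicGeometry

noncomputable section

namespace GrothLib.OrdQuad12

variable {k : Type u} [Field k] {m : ℕ}

theorem sum_dq_mul {R : Type*} [CommRing R] {n : ℕ} (c : Fin n → Fin n → R) (v : Fin n → R) :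
    ∑ i, dq c i v * v i = 2 * qf c v := by
  have h := qf_add c v v
  have h2 : qf c (v + v) = 4 * qf c v := by
    rw [← two_smul R v, qf_smul]; ring
  linear_combination h2 - h

theorem eval_pderiv_quadPoly {n : ℕ} (c : Fin n → Fin n → k) (i : Fin n) (v : Fin n → k) :
    MvPolynomial.eval v (MvPolynomial.pderiv i (quadPoly c)) = dq c i v := by
  classical
  simp only [quadPoly, map_sum, mul_assoc, MvPolynomial.pderiv_C_mul, Derivation.leibniz, MvPolynomial.pderiv_X,
    smul_eq_mul, map_add, map_mul, MvPolynomial.eval_C, MvPolynomial.eval_X, dq, add_mul, mul_add,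
    Finset.sum_add_distrib]
  simp [Pi.single_apply, apply_ite (MvPolynomial.eval v), mul_comm, Finset.sum_ite_irrel]
  ring

theorem eq_quadPoly {n : ℕ} (Q : MvPolynomial (Fin n) k) (hQ : Q.IsHomogeneous 2) :
    Q = quadPoly (triC (Q : MvPowerSeries (Fin n) k)) := by
  ext e
  by_cases he : e.degree = 2
  · rw [coeff_quadPoly_triC _ he, MvPolynomial.coeff_coe]
  · rw [hQ.coeff_eq_zero he, (quadPoly_mem _).coeff_eq_zero he]

theorem eval_subst (j : Fin (m + 1)) (G : MvPolynomial (Fin (m + 1)) k) (a : Fin m → k) :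
    MvPolynomial.eval a (HypSurf.subst j G) = MvPolynomial.eval (Fin.insertNth j 1 a) G := by
  induction G using MvPolynomial.induction_on with
  | C r => simp [HypSurf.subst]
  | add p q hp hq => simp only [map_add, hp, hq]
  | mul_X p l hp =>
    simp only [map_mul, hp, MvPolynomial.eval_X]
    congr 1
    obtain rfl | ⟨l, rfl⟩ := Fin.eq_self_or_eq_succAbove j l <;> simp [HypSurf.subst]

theorem eval_pderiv_subst (j : Fin (m + 1)) (G : MvPolynomial (Fin (m + 1)) k) (a : Fin m → k) (l : Fin m) :
    MvPolynomial.eval a (MvPolynomial.pderiv l (HypSurf.subst j G)) =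
      MvPolynomial.eval (Fin.insertNth j 1 a) (MvPolynomial.pderiv (j.succAbove l) G) := by
  classical
  induction G using MvPolynomial.induction_on with
  | C r => simp [HypSurf.subst]
  | add p q hp hq => simp only [map_add, hp, hq]
  | mul_X p i hp =>
    rw [map_mul]
    simp only [Derivation.leibniz, map_add, smul_eq_mul, map_mul, hp, eval_subst]
    congr 1
    · congr 1
      obtain rfl | ⟨i, rfl⟩ := Fin.eq_self_or_eq_succAbove j i
      · simp [HypSurf.subst, MvPolynomial.pderiv_X, Pi.single_apply, Ne.symm (Fin.succAbove_ne i l)]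
      · simp [HypSurf.subst, MvPolynomial.pderiv_X, Pi.single_apply, Fin.succAbove_right_inj, apply_ite]

theorem subst_ne_zero [Infinite k] (j : Fin (m + 1)) (c : Fin (m + 1) → Fin (m + 1) → k) (hc : quadPoly c ≠ 0) :
    HypSurf.subst j (quadPoly c) ≠ 0 := by
  intro h
  have h0 : MvPolynomial.X j * quadPoly c = 0 := MvPolynomial.funext (q := 0) fun v => by
    rw [map_mul, MvPolynomial.eval_X, eval_quadPoly, map_zero]
    by_cases hv : v j = 0
    · rw [hv, zero_mul]
    · have h1 := eval_subst j (quadPoly c) fun l => (v j)⁻¹ * v (j.succAbove l)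
      rw [h, map_zero, eval_quadPoly] at h1
      have h2 : Fin.insertNth j 1 (fun l => (v j)⁻¹ * v (j.succAbove l)) = (v j)⁻¹ • v := by
        funext i
        obtain rfl | ⟨l, rfl⟩ := Fin.eq_self_or_eq_succAbove j i <;> simp [hv]
      rw [h2, qf_smul, eq_comm, mul_eq_zero] at h1
      rw [h1.resolve_left (pow_ne_zero _ (inv_ne_zero hv)), mul_zero]
  exact hc ((mul_eq_zero.mp h0).resolve_left (MvPolynomial.X_ne_zero j))

/-- The quadric of a form is smooth iff the form is nondegenerate. -/
theorem nondegQuad_iff [IsAlgClosed k] (Q₂ : LefPen.Form m k 2) :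
    LefPen.NondegQuad k Q₂ ↔ ¬ DegQ (triC (Q₂.1 : MvPowerSeries (Fin (m + 1)) k)) := by
  haveI : Infinite k := IsAlgClosed.instInfinite
  set c := triC (Q₂.1 : MvPowerSeries (Fin (m + 1)) k) with hcdef
  have hQ : Q₂.1 = quadPoly c := eq_quadPoly _ ((MvPolynomial.mem_homogeneousSubmodule 2 _).mp Q₂.2)
  have hsing : ∀ (j : Fin (m + 1)) (v : Fin (m + 1) → k), v j = 1 →
      (qf c v = 0 ∧ ∀ l, dq c (j.succAbove l) v = 0) → DegQ c := by
    rintro j v hv ⟨h0, h1⟩
    refine ⟨v, fun e => one_ne_zero (hv.symm.trans (congrFun e j)), h0, fun i => ?_⟩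
    obtain rfl | ⟨l, rfl⟩ := Fin.eq_self_or_eq_succAbove j i
    · have h := sum_dq_mul c v
      rw [h0, mul_zero, Fin.sum_univ_succAbove _ i, hv, mul_one,
        Finset.sum_eq_zero (fun l _ => by rw [h1, zero_mul]), add_zero] at h
      exact h
    · exact h1 l
  have hsm : m ≠ 0 → quadPoly c ≠ 0 →
      (Smooth ((LefPen.hypIdeal Q₂).subschemeι ≫ CohB1.ProjSpace.toSpec m k) ↔ ¬ DegQ c) := by
    intro hm hne
    constructor
    · rintro hs ⟨v, hv0, h0, h1⟩
      obtain ⟨j, hj⟩ : ∃ j, v j ≠ 0 := by
        by_contra hall; push Not at hall; exact hv0 (funext hall)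
      let a : Fin m → k := fun l => (v j)⁻¹ * v (j.succAbove l)
      have h2 : Fin.insertNth j 1 a = (v j)⁻¹ • v := by
        funext i
        obtain rfl | ⟨l, rfl⟩ := Fin.eq_self_or_eq_succAbove j i <;> simp [hj, a]
      haveI := hs
      have hc : Smooth ((LefPen.hypIdeal Q₂).subschemeCover.f ⟨LefPen.chart m k j, HypSurf.isAffineOpen_chart j⟩ ≫
          (LefPen.hypIdeal Q₂).subschemeι ≫ CohB1.ProjSpace.toSpec m k) := inferInstance
      have h := (HypSurf.smooth_hypersurface_iff _ (by rw [hQ]; exact subst_ne_zero j c hne)).1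
        ((HypSurf.smooth_chart_iff Q₂ j).1 hc) (RingHom.ker (MvPolynomial.eval a)) (RingHom.ker_isPrime _) (by
          rw [RingHom.mem_ker, eval_subst, h2, hQ, eval_quadPoly, qf_smul, h0, mul_zero])
      obtain ⟨l, hl⟩ := h
      apply hl
      rw [RingHom.mem_ker, eval_pderiv_subst, h2, hQ, eval_pderiv_quadPoly, dq_smul, h1, mul_zero]
    · intro hd
      refine HypSurf.smooth_of_cover Q₂
        (fun j : ULift.{u} (Fin (m + 1)) => ⟨LefPen.chart m k j.down, HypSurf.isAffineOpen_chart j.down⟩) ?_ fun j => ?_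
      · refine eq_top_iff.2 fun p _ => ?_
        obtain ⟨i, hi⟩ := TopologicalSpace.Opens.mem_iSup.1
          ((GrothLib.Ample.ProjMap.iSup_basicOpen_X m k).ge (TopologicalSpace.Opens.mem_top p))
        exact TopologicalSpace.Opens.mem_iSup.2 ⟨⟨i⟩, hi⟩
      · refine (HypSurf.smooth_chart_iff Q₂ j.down).2 ((HypSurf.smooth_hypersurface_iff _
          (by rw [hQ]; exact subst_ne_zero j.down c hne)).2 fun q hq hgq => ?_)
        by_contra hall
        push Not at hall
        obtain ⟨M, hM, hqM⟩ := Ideal.exists_le_maximal q hq.ne_top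
        obtain ⟨φ, hφ⟩ := GrothLib.Jets.exists_point (k := k) M
        have he : ∀ x, φ x = MvPolynomial.eval (fun l => φ (MvPolynomial.X l)) x := fun x => by
          conv_lhs => rw [MvPolynomial.aeval_unique φ]
          rfl
        have hz : ∀ x ∈ q, MvPolynomial.eval (fun l => φ (MvPolynomial.X l)) x = 0 := fun x hx => by
          rw [← he]; have := hqM hx; rw [← hφ] at this; exact this
        refine hd (hsing j.down (Fin.insertNth j.down 1 fun l => φ (MvPolynomial.X l)) (by simp) ⟨?_, fun l => ?_⟩)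
        · rw [← eval_quadPoly, ← hQ, ← eval_subst]
          exact hz _ hgq
        · rw [← eval_pderiv_quadPoly, ← hQ, ← eval_pderiv_subst]
          exact hz _ (hall l)
  constructor
  · rintro ⟨hne, hm⟩ hd
    rw [hQ] at hne
    rcases hm with rfl | hs
    · obtain ⟨v, hv0, h0, -⟩ := hd
      have hv : v 0 ≠ 0 := fun e => hv0 (funext fun i => by fin_cases i; exact e)
      refine hne (MvPolynomial.funext (q := 0) fun x => ?_)
      rw [eval_quadPoly, map_zero]
      simp [qf] at h0 ⊢
      have hc0 : c 0 0 = 0 := by simpa [hv] using h0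
      simp [hc0]
    · by_cases hm0 : m = 0
      · subst hm0
        obtain ⟨v, hv0, h0, -⟩ := hd
        have hv : v 0 ≠ 0 := fun e => hv0 (funext fun i => by fin_cases i; exact e)
        refine hne (MvPolynomial.funext (q := 0) fun x => ?_)
        rw [eval_quadPoly, map_zero]
        simp [qf] at h0 ⊢
        have hc0 : c 0 0 = 0 := by simpa [hv] using h0
        simp [hc0]
      · exact (hsm hm0 hne).1 hs hd
  · intro hd
    have hne : quadPoly c ≠ 0 := fun e => hd ⟨fun _ => 1, fun h => one_ne_zero (congrFun h 0),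
      by rw [← eval_quadPoly, e, map_zero], fun i => by rw [← eval_pderiv_quadPoly, e, map_zero, map_zero]⟩
    refine ⟨hQ ▸ hne, ?_⟩
    by_cases hm0 : m = 0
    · exact Or.inl hm0
    · exact Or.inr ((hsm hm0 hne).2 hd)

end GrothLib.OrdQuad12
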