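import Groth.Agent.Lib.OrdQuad12.Pencil

/-!
# The open set of Lefschetz pencils
-/

set_option autoImplicit false
set_option linter.all false
set_option maxHeartbeats 1000000
set_option backward.isDefEq.respectTransparency false
set_option backward.isDefEq.respectTransparency.types false
universe u

open CategoryTheory CategoryTheory.Limits AlgebraicGeometry TopologicalSpace IsLocalRing

noncomputable section

namespace GrothLib.OrdQuad12

open GrothLib.DualVar12 GrothLib.Jets

attribute [local instance] constAlgebra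

variable {k : Type u} [Field k]

theorem isPolyFun_eval_basis {V : Type u} [AddCommGroup V] [Module k V] {M : ℕ} (b : Module.Basis (Fin M) k V)
    (P : MvPolynomial (Fin M) k) : LefPen.IsPolyFun k fun v => MvPolynomial.eval (b.equivFun v) P := by
  show _ ∈ Algebra.adjoin k (Set.range fun l : Module.Dual k V => (l : V → k))
  induction P using MvPolynomial.induction_on with
  | C c =>
    simp only [MvPolynomial.eval_C]
    exact Subalgebra.algebraMap_mem _ c
  | add p q hp hq =>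
    simp only [map_add]
    exact add_mem hp hq
  | mul_X p l hp =>
    simp only [map_mul, MvPolynomial.eval_X]
    exact mul_mem hp (Algebra.subset_adjoin ⟨b.coord l, by funext H; simp [Module.Basis.equivFun_apply]⟩)

variable {r d N : ℕ} (b : Module.Basis (Fin N) k (LefPen.Form r k d))

/-- A basis of pairs of forms. -/
def pairBasis : Module.Basis (Fin (N + N)) k (LefPen.Form r k d × LefPen.Form r k d) :=
  (b.prod b).reindex finSumFinEquiv

theorem pairBasis_castAdd (F G : LefPen.Form r k d) (l : Fin N) :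
    (pairBasis b).equivFun (F, G) (Fin.castAdd N l) = b.equivFun F l := by
  rw [Module.Basis.equivFun_apply, pairBasis, Module.Basis.repr_reindex_apply,
    show finSumFinEquiv.symm (Fin.castAdd N l) = Sum.inl l from finSumFinEquiv_symm_apply_castAdd l]
  simp [Module.Basis.equivFun_apply]

theorem pairBasis_natAdd (F G : LefPen.Form r k d) (l : Fin N) :
    (pairBasis b).equivFun (F, G) (Fin.natAdd N l) = b.equivFun G l := by
  rw [Module.Basis.equivFun_apply, pairBasis, Module.Basis.repr_reindex_apply,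
    show finSumFinEquiv.symm (Fin.natAdd N l) = Sum.inr l from finSumFinEquiv_symm_apply_natAdd l]
  simp [Module.Basis.equivFun_apply]

theorem fstF_pair (F G : LefPen.Form r k d) : fstF b ((pairBasis b).equivFun (F, G)) = F := by
  rw [fstF, LinearEquiv.symm_apply_eq]
  funext l
  exact pairBasis_castAdd b F G l

theorem sndF_pair (F G : LefPen.Form r k d) : sndF b ((pairBasis b).equivFun (F, G)) = G := by
  rw [sndF, LinearEquiv.symm_apply_eq]
  funext l
  exact pairBasis_natAdd b F G l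

theorem exists_indep (v₀ : Fin (N + N) → k) (h : LinearIndependent k ![fstF b v₀, sndF b v₀]) :
    ∃ P : MvPolynomial (Fin (N + N)) k, MvPolynomial.eval v₀ P ≠ 0 ∧
      ∀ v, MvPolynomial.eval v P ≠ 0 → LinearIndependent k ![fstF b v, sndF b v] := by
  classical
  rw [LinearIndependent.pair_iff] at h
  obtain ⟨a, c, hac⟩ : ∃ a c : Fin N,
      v₀ (Fin.castAdd N a) * v₀ (Fin.natAdd N c) - v₀ (Fin.castAdd N c) * v₀ (Fin.natAdd N a) ≠ 0 := by
    by_contra hall
    push Not at hall
    obtain ⟨a, ha⟩ : ∃ a, v₀ (Fin.castAdd N a) ≠ 0 := by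
      by_contra h0
      push Not at h0
      have := (h 1 0 (by
        rw [one_smul, zero_smul, add_zero, fstF, LinearEquiv.map_eq_zero_iff]
        funext l; exact h0 l)).1
      exact one_ne_zero this
    have := (h (v₀ (Fin.natAdd N a)) (-v₀ (Fin.castAdd N a)) (by
      rw [fstF, sndF, ← map_smul, ← map_smul, ← map_add, LinearEquiv.map_eq_zero_iff]
      funext l
      simp only [Pi.add_apply, Pi.smul_apply, smul_eq_mul, Pi.zero_apply]
      linear_combination -(hall a l))).2
    exact ha (neg_eq_zero.mp this)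
  refine ⟨MvPolynomial.X (Fin.castAdd N a) * MvPolynomial.X (Fin.natAdd N c) -
    MvPolynomial.X (Fin.castAdd N c) * MvPolynomial.X (Fin.natAdd N a), by simpa using hac, fun v hv => ?_⟩
  simp only [map_sub, map_mul, MvPolynomial.eval_X] at hv
  rw [LinearIndependent.pair_iff]
  intro s t hst
  rw [fstF, sndF, ← map_smul, ← map_smul, ← map_add, LinearEquiv.map_eq_zero_iff] at hst
  have ea := congrFun hst a
  have ec := congrFun hst c
  simp only [Pi.add_apply, Pi.smul_apply, smul_eq_mul, Pi.zero_apply] at ea ec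
  constructor
  · refine (mul_eq_zero.mp ?_).resolve_right hv
    linear_combination v (Fin.natAdd N c) * ea - v (Fin.natAdd N a) * ec
  · refine (mul_eq_zero.mp ?_).resolve_right hv
    linear_combination v (Fin.castAdd N a) * ec - v (Fin.castAdd N c) * ea

variable [IsAlgClosed k] {X : Scheme.{u}} (i : X ⟶ CohB1.ProjSpace r k)
  [IsClosedImmersion i] [X.Over (Spec (CommRingCat.of k))]
  (hi : i ≫ CohB1.ProjSpace.toSpec r k = X ↘ Spec (CommRingCat.of k))
  [IsIntegral X] {m : ℕ} [SmoothOfRelativeDimension (m + 1) (X ↘ Spec (CommRingCat.of k))]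
  [IsProper (X ↘ Spec (CommRingCat.of k))]

include hi m in
omit [IsIntegral X] in
theorem exists_section (x : X) (hx : IsClosed ({x} : Set X)) :
    ∃ s : Spec (CommRingCat.of k) ⟶ X, s ≫ (X ↘ Spec (CommRingCat.of k)) = 𝟙 _ ∧ s (closedPoint k) = x := by
  obtain ⟨j, hj⟩ := exists_chart_mem i x
  haveI := finiteType_chart i hi j
  obtain ⟨φ, hφ⟩ := exists_char_of_closed (k := k) (chartX i j) x hx hj
  exact ⟨ptOf (chartX i j) φ, ptOf_over _ _, by rw [ptOf_apply, hφ]⟩

include hi m in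
omit [IsIntegral X] in
theorem bad_iff_closed (H : LefPen.Form r k d) : Bad i H ↔ ∃ x : X, IsClosed ({x} : Set X) ∧ BadX i x H := by
  constructor
  · rintro ⟨j, φ, hb⟩
    exact ⟨ptOf (chartX i j) φ (closedPoint k), isClosed_section_point i hi _ (ptOf_over _ _),
      ⟨j, (badAt_ptOf_iff i j φ _ H).mpr hb⟩⟩
  · rintro ⟨x, hx, hb⟩
    obtain ⟨j, hj⟩ := exists_chart_mem i x
    haveI := finiteType_chart i hi j
    obtain ⟨φ, hφ⟩ := exists_char_of_closed (k := k) (chartX i j) x hx hj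
    have hxe : ptOf (chartX i j) φ (closedPoint k) = x := by rw [ptOf_apply, hφ]
    refine ⟨j, φ, (badAt_ptOf_iff i j φ (closedPoint k) H).mp ?_⟩
    rw [hxe]
    exact ⟨hj, (badX_iff i hi hj H).mp hb⟩

/-- A point of the base locus with dependent differentials, as a predicate on points. -/
def BasePred (y : Spec (CommRingCat.of k) ⟶ X) (v : Fin (N + N) → k) : Prop :=
  ∃ (j : Fin (r + 1)) (hx : y (closedPoint k) ∈ (chartX i j).1),
    (X.presheaf.germ (chartX i j).1 _ hx).hom (ev i j (fstF b v)) ∈ maximalIdeal (X.presheaf.stalk _) ∧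
    (X.presheaf.germ (chartX i j).1 _ hx).hom (ev i j (sndF b v)) ∈ maximalIdeal (X.presheaf.stalk _) ∧
    ∃ s t : k, (s ≠ 0 ∨ t ≠ 0) ∧ BadX i (y (closedPoint k)) (s • fstF b v + t • sndF b v)

include hi m in
theorem exists_Q_base (v₀ : Fin (N + N) → k) (hbase : ¬ BadBase i (fstF b v₀) (sndF b v₀))
    (z : Spec (CommRingCat.of k) ⟶ X) (hz : z ≫ (X ↘ Spec (CommRingCat.of k)) = 𝟙 _) :
    ∃ (U : X.Opens) (hzU : z (closedPoint k) ∈ U) (Q : MvPolynomial (Fin (N + N)) Γ(X, U)),
      MvPolynomial.eval v₀ (MvPolynomial.map (evalPt z U hzU) Q) ≠ 0 ∧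
      ∀ (y : Spec (CommRingCat.of k) ⟶ X) (v : Fin (N + N) → k), y ≫ (X ↘ Spec (CommRingCat.of k)) = 𝟙 _ →
        ∀ hy : y (closedPoint k) ∈ U, BasePred b i y v →
          MvPolynomial.eval v (MvPolynomial.map (evalPt y U hy) Q) = 0 := by
  classical
  haveI : Smooth (X ↘ Spec (CommRingCat.of k)) := SmoothOfRelativeDimension.smooth (m + 1) _
  obtain ⟨j, hj⟩ := exists_chart_mem i (z (closedPoint k))
  obtain ⟨V, hV, φ', hφ', ⟨F⟩⟩ := exists_frame_nhd i hi (m := m) _ (isClosed_section_point i hi z hz) j hj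
  have hzV : z (closedPoint k) ∈ V.1 := hφ'.symm ▸ point_mem V φ'
  obtain ⟨φ, hφ⟩ := exists_ptOf V z hz hzV
  have hev : ∀ (y : Spec (CommRingCat.of k) ⟶ X) (hy : y (closedPoint k) ∈ V.1) (ψ : Γ(X, V.1) →ₐ[k] k),
      ptOf V ψ = y → ∀ x, evalPt y V.1 hy x = ψ x := fun y hy ψ e x => by
    rw [evalPt_congr e.symm]; exact evalPt_ptOf V ψ _ x
  -- the values at a point of the base locus
  have hval : ∀ (y : Spec (CommRingCat.of k) ⟶ X) (hy : y (closedPoint k) ∈ V.1) (ψ : Γ(X, V.1) →ₐ[k] k) v,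
      ptOf V ψ = y → BasePred b i y v →
      ψ (evOn i V hV (fstF b v)) = 0 ∧ ψ (evOn i V hV (sndF b v)) = 0 ∧
      ∃ s t : k, (s ≠ 0 ∨ t ≠ 0) ∧ evOn i V hV (s • fstF b v + t • sndF b v) ∈ pk ψ ^ 2 := by
    rintro y hy ψ v e ⟨j', hx, hF, hG, s, t, hst, hb⟩
    have he : y (closedPoint k) = V.2.fromSpec ⟨pk ψ, (pk_isMaximal ψ).isPrime⟩ := by rw [← e, ptOf_apply]
    have hm : ∀ H : LefPen.Form r k d, (X.presheaf.germ (chartX i j').1 _ hx).hom (ev i j' H) ∈
        maximalIdeal (X.presheaf.stalk _) → ψ (evOn i V hV H) = 0 := fun H hH => by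
      rw [← germ_mem_iff V ψ _ he hy, germ_evOn i V hV H _ hy]
      exact Ideal.mem_of_dvd _ (germ_dvd i hi hx (hV hy) H) hH
    exact ⟨hm _ hF, hm _ hG, s, t, hst, (badX_point_iff i hi V hV ψ _ _ he).mp hb⟩
  have hlinear : ∀ (c : Fin N → k) (ψ : Γ(X, V.1) →ₐ[k] k),
      ψ (evOn i V hV (b.equivFun.symm c)) = ∑ l, ψ (evOn i V hV (b l)) * c l := fun c ψ => by
    rw [← sum_evOn_symm i b V hV, map_sum]
    exact Finset.sum_congr rfl fun l _ => by rw [map_smul, smul_eq_mul, mul_comm]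
  let L : (Fin N → Γ(X, V.1)) → (Fin N → Fin (N + N)) → MvPolynomial (Fin (N + N)) Γ(X, V.1) := fun q f =>
    ∑ l, MvPolynomial.C (q l) * MvPolynomial.X (f l)
  have hL : ∀ q f y (hy : y (closedPoint k) ∈ V.1) (ψ : Γ(X, V.1) →ₐ[k] k), ptOf V ψ = y → ∀ v,
      MvPolynomial.eval v (MvPolynomial.map (evalPt y V.1 hy) (L q f)) = ∑ l, ψ (q l) * v (f l) :=
    fun q f y hy ψ e v => by simp [L, map_sum, hev y hy ψ e]
  by_cases hf : φ (evOn i V hV (fstF b v₀)) = 0
  swap
  · refine ⟨V.1, hzV, L (fun l => evOn i V hV (b l)) (Fin.castAdd N), ?_, fun y v hys hy hP => ?_⟩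
    · rw [hL _ _ z hzV φ hφ, ← hlinear]; exact hf
    · obtain ⟨ψ, hψ⟩ := exists_ptOf V y hys hy
      rw [hL _ _ y hy ψ hψ, ← hlinear]
      exact (hval y hy ψ v hψ hP).1
  by_cases hg : φ (evOn i V hV (sndF b v₀)) = 0
  swap
  · refine ⟨V.1, hzV, L (fun l => evOn i V hV (b l)) (Fin.natAdd N), ?_, fun y v hys hy hP => ?_⟩
    · rw [hL _ _ z hzV φ hφ, ← hlinear]; exact hg
    · obtain ⟨ψ, hψ⟩ := exists_ptOf V y hys hy
      rw [hL _ _ y hy ψ hψ, ← hlinear]
      exact (hval y hy ψ v hψ hP).2.1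
  have hder : ∀ a (c : Fin N → k) (ψ : Γ(X, V.1) →ₐ[k] k),
      ψ (F.g a (evOn i V hV (b.equivFun.symm c))) = ∑ l, ψ (F.g a (evOn i V hV (b l))) * c l := fun a c ψ => by
    rw [← sum_evOn_symm i b V hV, map_sum, map_sum]
    exact Finset.sum_congr rfl fun l _ => by rw [Derivation.map_smul, map_smul, smul_eq_mul, mul_comm]
  obtain ⟨a, c, hac⟩ : ∃ a c, φ (F.g a (evOn i V hV (fstF b v₀))) * φ (F.g c (evOn i V hV (sndF b v₀))) -
      φ (F.g c (evOn i V hV (fstF b v₀))) * φ (F.g a (evOn i V hV (sndF b v₀))) ≠ 0 := by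
    by_contra hall
    push Not at hall
    obtain ⟨s, t, hst, he⟩ : ∃ s t : k, (s ≠ 0 ∨ t ≠ 0) ∧ ∀ l,
        s * φ (F.g l (evOn i V hV (fstF b v₀))) + t * φ (F.g l (evOn i V hV (sndF b v₀))) = 0 := by
      by_cases hp : ∀ l, φ (F.g l (evOn i V hV (fstF b v₀))) = 0
      · exact ⟨1, 0, Or.inl one_ne_zero, fun l => by rw [hp l, mul_zero, zero_mul, add_zero]⟩
      · push Not at hp
        obtain ⟨l₀, hl₀⟩ := hp
        exact ⟨φ (F.g l₀ (evOn i V hV (sndF b v₀))), -φ (F.g l₀ (evOn i V hV (fstF b v₀))),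
          Or.inr (neg_ne_zero.mpr hl₀), fun l => by linear_combination hall l l₀⟩
    refine hbase (badBase_iff_point i hi (m := m) V hV φ _ _ hf hg hst ((mem_sq_iff F φ _).mpr
      ⟨by rw [map_add, map_smul, map_smul, hf, hg, smul_zero, smul_zero, add_zero], fun l => by
        rw [map_add, Derivation.map_smul, Derivation.map_smul, map_add, map_smul, map_smul]
        exact he l⟩))
  let q : Fin (m + 1) → Fin N → Γ(X, V.1) := fun a l => F.g a (evOn i V hV (b l))
  refine ⟨V.1, hzV, L (q a) (Fin.castAdd N) * L (q c) (Fin.natAdd N) - L (q c) (Fin.castAdd N) * L (q a) (Fin.natAdd N),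
    ?_, fun y v hys hy hP => ?_⟩
  · simp only [map_sub, map_mul, hL _ _ z hzV φ hφ, q, ← hder]
    exact hac
  · obtain ⟨ψ, hψ⟩ := exists_ptOf V y hys hy
    simp only [map_sub, map_mul, hL _ _ y hy ψ hψ, q, ← hder]
    obtain ⟨-, -, s, t, hst, hsq⟩ := hval y hy ψ v hψ hP
    rw [evOn_comb] at hsq
    have hd : ∀ l, s * ψ (F.g l (evOn i V hV (fstF b v))) + t * ψ (F.g l (evOn i V hV (sndF b v))) = 0 := fun l => by
      have := deriv_apply_eq_zero F ψ l hsq
      rwa [map_add, Derivation.map_smul, Derivation.map_smul, map_add, map_smul, map_smul] at this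
    have ea := hd a
    have ec := hd c
    simp only [fstF, sndF] at ea ec
    rcases hst with hs | ht
    · refine (mul_eq_zero.mp ?_).resolve_left hs
      linear_combination (ψ (F.g c (evOn i V hV (b.equivFun.symm fun l => v (Fin.natAdd N l))))) * ea -
        (ψ (F.g a (evOn i V hV (b.equivFun.symm fun l => v (Fin.natAdd N l))))) * ec
    · refine (mul_eq_zero.mp ?_).resolve_left ht
      linear_combination (ψ (F.g a (evOn i V hV (b.equivFun.symm fun l => v (Fin.castAdd N l))))) * ec -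
        (ψ (F.g c (evOn i V hV (b.equivFun.symm fun l => v (Fin.castAdd N l))))) * ea

include hi in
/-- Finitely many bad members is an open condition. -/
theorem exists_finite_bad (hd : 1 ≤ d) (F₀ G₀ : LefPen.Form r k d)
    (hfin : {c : k | ¬ LefPen.Transversal k (m + 1) 1
      (LefPen.secToSpec i ({F₀ + c • G₀} : Set (LefPen.Form r k d)))}.Finite) :
    ∃ P : MvPolynomial (Fin (N + N)) k, MvPolynomial.eval ((pairBasis b).equivFun (F₀, G₀)) P ≠ 0 ∧
      ∀ F G : LefPen.Form r k d, MvPolynomial.eval ((pairBasis b).equivFun (F, G)) P ≠ 0 →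
        {c : k | ¬ LefPen.Transversal k (m + 1) 1
          (LefPen.secToSpec i ({F + c • G} : Set (LefPen.Form r k d)))}.Finite := by
  classical
  haveI : Infinite k := IsAlgClosed.instInfinite
  obtain ⟨c₀, hc₀⟩ := hfin.exists_notMem
  simp only [Set.mem_setOf_eq, not_not] at hc₀
  obtain ⟨f, hf, hf0, hfT⟩ := (dual_variety i hi (by omega) d hd).1 (F₀ + c₀ • G₀) hc₀
  obtain ⟨Q, hQ⟩ := exists_eval_of_isPolyFun b hf
  let P : MvPolynomial (Fin (N + N)) k := MvPolynomial.aeval
    (fun l => MvPolynomial.X (Fin.castAdd N l) + MvPolynomial.C c₀ * MvPolynomial.X (Fin.natAdd N l)) Q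
  have hP : ∀ F G : LefPen.Form r k d,
      MvPolynomial.eval ((pairBasis b).equivFun (F, G)) P = f (F + c₀ • G) := fun F G => by
    rw [hQ]
    show MvPolynomial.eval _ (MvPolynomial.aeval _ Q) = _
    rw [MvPolynomial.aeval_def, MvPolynomial.eval₂_comp_left (MvPolynomial.eval _)]
    rw [show MvPolynomial.eval (b.equivFun (F + c₀ • G)) Q = MvPolynomial.eval₂ (RingHom.id k) (b.equivFun (F + c₀ • G)) Q
      from rfl]
    congr 1
    · ext x; simp
    · funext l
      simp only [Function.comp_apply, map_add, map_mul, MvPolynomial.eval_X, MvPolynomial.eval_C, pairBasis_castAdd,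
        pairBasis_natAdd, map_smul, Pi.add_apply, Pi.smul_apply, smul_eq_mul]
  refine ⟨P, by rw [hP]; exact hf0, fun F G hne => ?_⟩
  rw [hP] at hne
  let p : Polynomial k := MvPolynomial.aeval
    (fun l => Polynomial.C (b.equivFun F l) + Polynomial.X * Polynomial.C (b.equivFun G l)) Q
  have hp : ∀ c : k, p.eval c = f (F + c • G) := fun c => by
    rw [hQ, ← Polynomial.coe_evalRingHom]
    show Polynomial.evalRingHom c (MvPolynomial.aeval _ Q) = _
    rw [MvPolynomial.aeval_def, MvPolynomial.eval₂_comp_left (Polynomial.evalRingHom c)]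
    rw [show MvPolynomial.eval (b.equivFun (F + c • G)) Q = MvPolynomial.eval₂ (RingHom.id k) (b.equivFun (F + c • G)) Q
      from rfl]
    congr 1
    · ext x; simp
    · funext l
      simp only [Function.comp_apply, Polynomial.coe_evalRingHom, Polynomial.eval_add, Polynomial.eval_mul,
        Polynomial.eval_C, Polynomial.eval_X, map_add, map_smul, Pi.add_apply, Pi.smul_apply, smul_eq_mul]
  refine (p.roots.toFinset.finite_toSet).subset fun c hc => ?_
  have hp0 : p ≠ 0 := fun e => hne (by rw [← hp, e, Polynomial.eval_zero])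
  simp only [Finset.mem_coe, Multiset.mem_toFinset, Polynomial.mem_roots hp0, Polynomial.IsRoot.def, hp]
  by_contra h
  exact hc (hfT _ h)

include hi in
/-- Pairs spanning Lefschetz pencils form an open set. -/
theorem exists_open_lefschetz (hd : 1 ≤ d) (F₀ G₀ : LefPen.Form r k d)
    (h₀ : LefPen.IsLefschetzPencil k (m + 1) i d F₀ G₀) :
    ∃ P : MvPolynomial (Fin (N + N)) k, MvPolynomial.eval ((pairBasis b).equivFun (F₀, G₀)) P ≠ 0 ∧
      ∀ F G : LefPen.Form r k d, MvPolynomial.eval ((pairBasis b).equivFun (F, G)) P ≠ 0 →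
        LefPen.IsLefschetzPencil k (m + 1) i d F G := by
  classical
  obtain ⟨hli, hT2, hfin, hmem⟩ := h₀
  set v₀ := (pairBasis b).equivFun (F₀, G₀)
  haveI : Smooth (X ↘ Spec (CommRingCat.of k)) := SmoothOfRelativeDimension.smooth (m + 1) _
  obtain ⟨P1, hP10, hP1⟩ := exists_indep b v₀ (by rw [fstF_pair, sndF_pair]; exact hli)
  have hnb : ¬ BadBase i (fstF b v₀) (sndF b v₀) := by
    rw [fstF_pair, sndF_pair]; exact (transversal_two_iff i hi F₀ G₀).mp hT2
  obtain ⟨P2, hP20, hP2⟩ := exists_separating_gen (BasePred b i) v₀ fun z hz => exists_Q_base b i hi (m := m) v₀ hnb z hz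
  obtain ⟨P3, hP30, hP3⟩ := exists_finite_bad b i hi hd F₀ G₀ hfin
  have hm : ∀ s t : k, (s ≠ 0 ∨ t ≠ 0) → ∀ x : X, IsClosed ({x} : Set X) →
      BadX i x (s • fstF b v₀ + t • sndF b v₀) → NondegX i x (s • fstF b v₀ + t • sndF b v₀) ∧
      ∀ x' : X, IsClosed ({x'} : Set X) → BadX i x' (s • fstF b v₀ + t • sndF b v₀) → x' = x := by
    intro s t hst
    rw [fstF_pair, sndF_pair]
    obtain ⟨u, hu, H, hH, he⟩ : ∃ u : k, u ≠ 0 ∧ ∃ H ∈ LefPen.members k F₀ G₀, s • F₀ + t • G₀ = u • H := by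
      by_cases hs : s = 0
      · refine ⟨t, hst.resolve_left (by simpa using hs), G₀, Or.inl rfl, ?_⟩
        rw [hs, zero_smul, zero_add]
      · refine ⟨s, hs, F₀ + (t / s) • G₀, Or.inr ⟨t / s, rfl⟩, ?_⟩
        rw [smul_add, smul_smul, mul_div_cancel₀ t hs]
    intro x hx hb
    rw [he, badX_smul i hi hu] at hb
    have hbad : Bad i H := (bad_iff_closed i hi (m := m) H).mpr ⟨x, hx, hb⟩
    obtain ⟨-, hall⟩ := (oneOrdQuad_iff i hi H).mp
      (hmem H hH (not_transversal_of_bad i hi (by omega) H hbad))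
    obtain ⟨hn, huniq⟩ := hall x hx hb
    rw [he, nondegX_smul i hi hu]
    exact ⟨hn, fun x' hx' hb' => huniq x' hx' ((badX_smul i hi hu x' H).mp hb')⟩
  let f := X ↘ Spec (CommRingCat.of k)
  let T := pullback f f
  letI : T.Over (Spec (CommRingCat.of k)) := ⟨pullback.fst _ _ ≫ f⟩
  haveI : IsProper (T ↘ Spec (CommRingCat.of k)) := inferInstanceAs (IsProper (pullback.fst f f ≫ f))
  obtain ⟨P4, hP40, hP4⟩ := exists_separating_gen (PencilPred i b) v₀ fun z hz =>
    exists_Q_pencil i hi (m := m) b v₀ hnb hm z hz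
  refine ⟨P1 * P2 * P3 * P4, ?_, fun F G hne => ?_⟩
  · simp only [map_mul]
    exact mul_ne_zero (mul_ne_zero (mul_ne_zero hP10 hP20) hP30) hP40
  set v := (pairBasis b).equivFun (F, G) with hv
  simp only [map_mul, mul_ne_zero_iff] at hne
  obtain ⟨⟨⟨h1, h2⟩, h3⟩, h4⟩ := hne
  refine ⟨?_, ?_, hP3 F G h3, ?_⟩
  · have := hP1 v h1
    rwa [fstF_pair, sndF_pair] at this
  · rw [transversal_two_iff i hi F G]
    rintro ⟨x, hx, j, hj, hF, hG, s, t, hst, hb⟩
    obtain ⟨y, hy, rfl⟩ := exists_section i hi (m := m) x hx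
    refine hP2 y v hy h2 ⟨j, hj, ?_, ?_, s, t, hst, ?_⟩
    · rw [fstF_pair]; exact hF
    · rw [sndF_pair]; exact hG
    · rw [fstF_pair, sndF_pair]; exact hb
  · intro H hH hT
    obtain ⟨s, t, hst, rfl⟩ : ∃ s t : k, (s ≠ 0 ∨ t ≠ 0) ∧ H = s • F + t • G := by
      rcases hH with h | ⟨c, rfl⟩
      · exact ⟨0, 1, Or.inr one_ne_zero, by rw [Set.mem_singleton_iff.mp h, zero_smul, one_smul, zero_add]⟩
      · exact ⟨1, c, Or.inl one_ne_zero, by rw [one_smul]⟩
    have hbad : Bad i (s • F + t • G) := by_contra fun hb => hT (transversal_of_not_bad i hi (by omega) _ hb)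
    refine (oneOrdQuad_iff i hi _).mpr ⟨(bad_iff_closed i hi (m := m) _).mp hbad, fun x hx hxb => ?_⟩
    obtain ⟨y₁, hy₁, rfl⟩ := exists_section i hi (m := m) x hx
    have key : ∀ (y₂ : Spec (CommRingCat.of k) ⟶ X), y₂ ≫ f = 𝟙 _ → BadX i (y₂ (closedPoint k)) (s • F + t • G) →
        y₁ (closedPoint k) = y₂ (closedPoint k) ∧ NondegX i (y₁ (closedPoint k)) (s • F + t • G) := by
      intro y₂ hy₂ hb₂
      have := hP4 (pullback.lift y₁ y₂ (hy₁.trans hy₂.symm)) v
        (by show _ ≫ pullback.fst _ _ ≫ f = 𝟙 _; rw [pullback.lift_fst_assoc, hy₁]) h4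
      simp only [PencilPred, pullback.lift_fst, pullback.lift_snd, hv, fstF_pair, sndF_pair, not_exists, not_and,
        Classical.not_imp, not_not] at this
      exact this s t hst hxb hb₂
    refine ⟨(key y₁ hy₁ hxb).2, fun x' hx' hb' => ?_⟩
    obtain ⟨y₂, hy₂, rfl⟩ := exists_section i hi (m := m) x' hx'
    exact (key y₂ hy₂ hb').1.symm

end GrothLib.OrdQuad12
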