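import Groth.Agent.Lib.DualVar12.Main

/-!
# The incidence argument over a proper scheme of parameters
-/

set_option autoImplicit false
set_option linter.all false
set_option maxHeartbeats 1000000
set_option backward.isDefEq.respectTransparency false
set_option backward.isDefEq.respectTransparency.types false
universe u

open CategoryTheory CategoryTheory.Limits AlgebraicGeometry TopologicalSpace

noncomputable section

namespace GrothLib.OrdQuad12

open GrothLib.DualVar12 GrothLib.Jets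

attribute [local instance] constAlgebra

variable {k : Type u} [Field k]

theorem top_le_preimage {T : Scheme.{u}} (z : Spec (CommRingCat.of k) ⟶ T) (U : T.Opens)
    (hz : z (IsLocalRing.closedPoint k) ∈ U) : ⊤ ≤ z ⁻¹ᵁ U := fun a _ => by
  rw [Subsingleton.elim a (IsLocalRing.closedPoint k)]; exact hz

/-- Evaluation of a function at a rational point. -/
def evalPt {T : Scheme.{u}} (z : Spec (CommRingCat.of k) ⟶ T) (U : T.Opens)
    (hz : z (IsLocalRing.closedPoint k) ∈ U) : Γ(T, U) →+* k :=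
  (z.appLE U ⊤ (top_le_preimage z U hz) ≫ (Scheme.ΓSpecIso (CommRingCat.of k)).hom).hom

theorem evalPt_congr {T : Scheme.{u}} {z z' : Spec (CommRingCat.of k) ⟶ T} (e : z = z') (U : T.Opens)
    (hz : z (IsLocalRing.closedPoint k) ∈ U) : evalPt z U hz = evalPt z' U (e ▸ hz) := by
  subst e; rfl

theorem evalPt_appLE {T W : Scheme.{u}} (f : T ⟶ W) (z : Spec (CommRingCat.of k) ⟶ T) (V : W.Opens) (U : T.Opens)
    (e : U ≤ f ⁻¹ᵁ V) (hz : z (IsLocalRing.closedPoint k) ∈ U) (x : Γ(W, V)) :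
    evalPt z U hz ((f.appLE V U e).hom x) = evalPt (z ≫ f) V (e hz) x := by
  show (Scheme.ΓSpecIso (CommRingCat.of k)).hom.hom ((f.appLE V U e ≫ z.appLE U ⊤ _).hom x) = _
  rw [Scheme.Hom.appLE_comp_appLE]
  rfl

theorem evalPt_ptOf {W : Scheme.{u}} [W.Over (Spec (CommRingCat.of k))] (V : W.affineOpens)
    (φ : Γ(W, V.1) →ₐ[k] k) (hz : ptOf V φ (IsLocalRing.closedPoint k) ∈ V.1) (x : Γ(W, V.1)) :
    evalPt (ptOf V φ) V.1 hz x = φ x := by
  have h1 : V.2.fromSpec.appLE V.1 ⊤ (by rw [V.2.fromSpec_preimage_self]) = (Scheme.ΓSpecIso Γ(W, V.1)).inv := by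
    rw [Scheme.Hom.appLE, V.2.fromSpec_app_self, Category.assoc, ← Functor.map_comp]
    simp
  show (Scheme.ΓSpecIso (CommRingCat.of k)).hom.hom
    (((Spec.map (CommRingCat.ofHom φ.toRingHom)) ≫ V.2.fromSpec).appLE V.1 ⊤ _ x) = _
  rw [← Scheme.Hom.appLE_comp_appLE (Spec.map (CommRingCat.ofHom φ.toRingHom)) V.2.fromSpec V.1 ⊤ ⊤
    (by rw [V.2.fromSpec_preimage_self]) le_top, h1]
  have h2 := congrArg (fun f => f.hom x) (Scheme.ΓSpecIso_inv_naturality (CommRingCat.ofHom φ.toRingHom))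
  simp only [CommRingCat.hom_comp, RingHom.comp_apply] at h2 ⊢
  rw [Scheme.Hom.appTop, ← Scheme.Hom.appLE_eq_app] at h2
  erw [← h2]
  exact congrArg (fun f => f.hom (φ x)) (Scheme.ΓSpecIso (CommRingCat.of k)).inv_hom_id

theorem appTop_eq_evalPt {W : Scheme.{u}} (y : Spec (CommRingCat.of k) ⟶ W) (x : Γ(W, ⊤)) :
    y.appTop x = (Scheme.ΓSpecIso (CommRingCat.of k)).inv.hom (evalPt y ⊤ trivial x) := by
  show y.appTop x =
    ((y.appLE ⊤ ⊤ _ ≫ (Scheme.ΓSpecIso (CommRingCat.of k)).hom) ≫ (Scheme.ΓSpecIso (CommRingCat.of k)).inv).hom x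
  rw [Category.assoc, Iso.hom_inv_id, Category.comp_id, Scheme.Hom.appTop, ← Scheme.Hom.appLE_eq_app]
  rfl

variable [IsAlgClosed k] {T : Scheme.{u}} [T.Over (Spec (CommRingCat.of k))]
  [IsProper (T ↘ Spec (CommRingCat.of k))]

/-- If near every point of a proper scheme some polynomial condition excludes a predicate at the parameter `c₀`,
some polynomial in the parameters alone excludes it everywhere, and is non-zero at `c₀`. -/
theorem exists_separating_gen {N : ℕ} (Pred : (Spec (CommRingCat.of k) ⟶ T) → (Fin N → k) → Prop) (c₀ : Fin N → k)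
    (hloc : ∀ (z : Spec (CommRingCat.of k) ⟶ T), z ≫ (T ↘ Spec (CommRingCat.of k)) = 𝟙 _ →
      ∃ (U : T.Opens) (hz : z (IsLocalRing.closedPoint k) ∈ U) (Q : MvPolynomial (Fin N) Γ(T, U)),
        MvPolynomial.eval c₀ (MvPolynomial.map (evalPt z U hz) Q) ≠ 0 ∧
        ∀ (y : Spec (CommRingCat.of k) ⟶ T) (c : Fin N → k), y ≫ (T ↘ Spec (CommRingCat.of k)) = 𝟙 _ →
          ∀ hy : y (IsLocalRing.closedPoint k) ∈ U, Pred y c →
            MvPolynomial.eval c (MvPolynomial.map (evalPt y U hy) Q) = 0) :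
    ∃ P : MvPolynomial (Fin N) k, MvPolynomial.eval c₀ P ≠ 0 ∧
      ∀ (y : Spec (CommRingCat.of k) ⟶ T) (c : Fin N → k), y ≫ (T ↘ Spec (CommRingCat.of k)) = 𝟙 _ →
        MvPolynomial.eval c P ≠ 0 → ¬ Pred y c := by
  classical
  let R := MvPolynomial (Fin N) k
  let C : Spec (CommRingCat.of R) ⟶ Spec (CommRingCat.of k) := Spec.map (CommRingCat.ofHom MvPolynomial.C)
  haveI hCft : LocallyOfFiniteType C := by
    show LocallyOfFiniteType (Spec.map (CommRingCat.ofHom MvPolynomial.C))
    rw [HasRingHomProperty.Spec_iff (P := @LocallyOfFiniteType)]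
    exact RingHom.finiteType_algebraMap.mpr (inferInstance : Algebra.FiniteType k R)
  let Y := pullback (T ↘ Spec (CommRingCat.of k)) C
  let π : Y ⟶ Spec (CommRingCat.of R) := pullback.snd _ _
  haveI : IsProper π := MorphismProperty.pullback_snd _ _ inferInstance
  haveI : CompactSpace Y := QuasiCompact.compactSpace_of_compactSpace π
  let evc : (Fin N → k) → (CommRingCat.of R ⟶ CommRingCat.of k) := fun c => CommRingCat.ofHom (MvPolynomial.eval c)
  let ptH : (Fin N → k) → (Spec (CommRingCat.of k) ⟶ Spec (CommRingCat.of R)) := fun c => Spec.map (evc c)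
  have hptH : ∀ c, ptH c ≫ C = 𝟙 _ := fun c => by
    simp only [ptH, C, ← Spec.map_comp, evc, ← CommRingCat.ofHom_comp]
    rw [show (MvPolynomial.eval c).comp MvPolynomial.C = RingHom.id k from RingHom.ext fun a => MvPolynomial.eval_C a,
      CommRingCat.ofHom_id, Spec.map_id]
  let S : Set Y := {w | ∃ (x : Spec (CommRingCat.of k) ⟶ T) (c : Fin N → k)
    (hx : x ≫ (T ↘ Spec (CommRingCat.of k)) = 𝟙 _),
    Pred x c ∧ w = (pullback.lift x (ptH c) (by rw [hx, hptH]) : Spec (CommRingCat.of k) ⟶ Y) (IsLocalRing.closedPoint k)}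
  let E : Set Y := closure S
  have hclosed : IsClosed (π '' E) := π.isClosedMap _ isClosed_closure
  let a : (Fin N → k) → Spec (CommRingCat.of R) := fun c => ptH c (IsLocalRing.closedPoint k)
  have ha : ∀ c, (a c).asIdeal = RingHom.ker (MvPolynomial.eval c) := fun c => by
    show Ideal.comap (MvPolynomial.eval c) (IsLocalRing.closedPoint k).asIdeal = _
    rw [RingHom.ker_eq_comap_bot, show (IsLocalRing.closedPoint k).asIdeal = ⊥ from IsLocalRing.maximalIdeal_eq_bot]
  have hamax : ∀ c, (a c).asIdeal.IsMaximal := fun c => by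
    rw [ha]; exact RingHom.ker_isMaximal_of_surjective _ fun v => ⟨MvPolynomial.C v, MvPolynomial.eval_C v⟩
  have hbad : ∀ (x : Spec (CommRingCat.of k) ⟶ T) (c : Fin N → k), x ≫ (T ↘ Spec (CommRingCat.of k)) = 𝟙 _ →
      Pred x c → a c ∈ π '' E := by
    intro x c hx hp
    refine ⟨_, subset_closure ⟨x, c, hx, hp, rfl⟩, ?_⟩
    show ((pullback.lift x (ptH c) _ : Spec (CommRingCat.of k) ⟶ Y) ≫ π) (IsLocalRing.closedPoint k) = _
    rw [pullback.lift_snd]
  have hgood : a c₀ ∉ π '' E := by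
    intro hmem
    let F : Set Y := E ∩ π ⁻¹' {a c₀}
    have hF : IsClosed F := isClosed_closure.inter
      (((PrimeSpectrum.isClosed_singleton_iff_isMaximal _).mpr (hamax c₀)).preimage π.continuous)
    obtain ⟨y₀, hy₀E, hy₀⟩ := hmem
    obtain ⟨z, ⟨hzE, hzπ⟩, hzc⟩ := hF.exists_closed_singleton ⟨y₀, hy₀E, hy₀⟩
    let y := pointOfClosedPoint (π ≫ C) z hzc
    have hy : y ≫ π ≫ C = 𝟙 _ := pointOfClosedPoint_comp _ _ _
    have hyz : ∀ t, y t = z := pointOfClosedPoint_apply _ _ _
    obtain ⟨g, hg⟩ := Spec.map_surjective (y ≫ π)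
    have hgC : ∀ v : k, g (MvPolynomial.C v) = v := fun v => by
      have e : CommRingCat.ofHom (MvPolynomial.C : k →+* R) ≫ g = 𝟙 _ := by
        apply Spec.map_injective
        rw [Spec.map_comp, hg, Category.assoc, Spec.map_id]
        exact hy
      exact congrArg (fun f => f.hom v) e
    have hgX : ∀ l, g (MvPolynomial.X l) = c₀ l := fun l => by
      have h1 : (Spec.map g) (IsLocalRing.closedPoint k) = a c₀ := by
        rw [hg]
        show π (y _) = _
        rw [hyz]
        exact hzπ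
      have h2 : MvPolynomial.X l - MvPolynomial.C (c₀ l) ∈ (a c₀).asIdeal := by
        rw [ha, RingHom.mem_ker, map_sub, MvPolynomial.eval_X, MvPolynomial.eval_C, sub_self]
      rw [← h1] at h2
      change g (MvPolynomial.X l - MvPolynomial.C (c₀ l)) ∈ (IsLocalRing.closedPoint k).asIdeal at h2
      rw [show (IsLocalRing.closedPoint k).asIdeal = ⊥ from IsLocalRing.maximalIdeal_eq_bot, Ideal.mem_bot, map_sub, hgC, sub_eq_zero] at h2
      exact h2
    have hxk : (y ≫ pullback.fst _ _) ≫ (T ↘ Spec (CommRingCat.of k)) = 𝟙 _ := by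
      rw [Category.assoc, pullback.condition]; exact hy
    obtain ⟨U, hzU, Q, hQ0, hQ⟩ := hloc _ hxk
    let O : Y.Opens := (pullback.fst _ _ : Y ⟶ T) ⁻¹ᵁ U
    let fT : (O : Scheme) ⟶ T := O.ι ≫ pullback.fst _ _
    have hO : (⊤ : (O : Scheme).Opens) ≤ fT ⁻¹ᵁ U := fun t _ => t.2
    let m₂ : (O : Scheme) ⟶ Spec (CommRingCat.of R) := O.ι ≫ π
    let Q' : Γ((O : Scheme), ⊤) := MvPolynomial.eval₂ (fT.appLE U ⊤ hO).hom
      (fun l => m₂.appTop ((Scheme.ΓSpecIso (CommRingCat.of R)).inv (MvPolynomial.X l))) Q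
    have hval : ∀ (y' : Spec (CommRingCat.of k) ⟶ (O : Scheme)) (x : Spec (CommRingCat.of k) ⟶ T)
        (hxU : x (IsLocalRing.closedPoint k) ∈ U) (c : Fin N → k)
        (g' : CommRingCat.of R ⟶ CommRingCat.of k), y' ≫ fT = x → y' ≫ m₂ = Spec.map g' →
        (∀ l, g' (MvPolynomial.X l) = c l) →
        y'.appTop Q' = (Scheme.ΓSpecIso (CommRingCat.of k)).inv
          (MvPolynomial.eval c (MvPolynomial.map (evalPt x U hxU) Q)) := by
      intro y' x hxU c g' h1 h2 hc
      subst h1
      suffices hgen : ∀ q : MvPolynomial (Fin N) Γ(T, U), y'.appTop (MvPolynomial.eval₂ (fT.appLE U ⊤ hO).hom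
          (fun l => m₂.appTop ((Scheme.ΓSpecIso (CommRingCat.of R)).inv (MvPolynomial.X l))) q) =
          (Scheme.ΓSpecIso (CommRingCat.of k)).inv
            (MvPolynomial.eval c (MvPolynomial.map (evalPt (y' ≫ fT) U hxU) q)) from hgen Q
      intro q
      induction q using MvPolynomial.induction_on with
      | C b =>
        rw [MvPolynomial.eval₂_C, MvPolynomial.map_C, MvPolynomial.eval_C, ← evalPt_appLE fT y' U ⊤ hO trivial b]
        exact appTop_eq_evalPt y' _
      | add p q hp hq => simp only [MvPolynomial.eval₂_add, map_add, hp, hq]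
      | mul_X p l hp =>
        simp only [MvPolynomial.eval₂_mul, MvPolynomial.eval₂_X, map_mul, hp, MvPolynomial.map_X, MvPolynomial.eval_X]
        congr 1
        rw [appTop_pullback y' m₂ g' h2, hc]
    have hzO : z ∈ O := by
      have := hzU
      rwa [Scheme.Hom.comp_apply, hyz] at this
    have hsub : O.ι ⁻¹' S ⊆ ((O : Scheme).basicOpen Q' : Set (O : Scheme))ᶜ := by
      rintro w ⟨x, c, hx, hp, hw⟩ hQw
      let p : Spec (CommRingCat.of k) ⟶ Y := pullback.lift x (ptH c) (by rw [hx, hptH])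
      have hwO : p (IsLocalRing.closedPoint k) ∈ O := hw ▸ w.2
      have hr' : Set.range p ⊆ Set.range O.ι := by
        rintro _ ⟨t, rfl⟩
        rw [Scheme.Opens.range_ι, Subsingleton.elim t (IsLocalRing.closedPoint k)]
        exact hwO
      let y' := IsOpenImmersion.lift O.ι _ hr'
      have hy' : y' ≫ O.ι = p := IsOpenImmersion.lift_fac _ _ _
      have hwy : w = y' (IsLocalRing.closedPoint k) := by
        apply O.ι.isOpenEmbedding.injective
        rw [hw]
        show _ = (y' ≫ O.ι) _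
        rw [hy']
      have hxU : x (IsLocalRing.closedPoint k) ∈ U := by
        have h3 : (pullback.fst _ _ : Y ⟶ T) (p (IsLocalRing.closedPoint k)) ∈ U := hwO
        change (p ≫ pullback.fst _ _) (IsLocalRing.closedPoint k) ∈ _ at h3
        rwa [pullback.lift_fst] at h3
      rw [hwy, SetLike.mem_coe, mem_basicOpen_iff_of_point y' Q' _ (hval y' x hxU c (evc c)
        (by rw [reassoc_of% hy']; exact pullback.lift_fst _ _ _) (by rw [reassoc_of% hy']; exact pullback.lift_snd _ _ _)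
        fun l => MvPolynomial.eval_X l)] at hQw
      exact hQw (hQ x c hx hxU hp)
    have hzZ : (⟨z, hzO⟩ : (O : Scheme)) ∈ ((O : Scheme).basicOpen Q' : Set (O : Scheme))ᶜ := by
      refine closure_minimal hsub ((O : Scheme).basicOpen Q').2.isClosed_compl ?_
      rw [← O.ι.isOpenEmbedding.isOpenMap.preimage_closure_eq_closure_preimage O.ι.continuous]
      exact hzE
    have hr' : Set.range y ⊆ Set.range O.ι := by
      rintro _ ⟨t, rfl⟩
      rw [Scheme.Opens.range_ι, hyz]
      exact hzO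
    let y' := IsOpenImmersion.lift O.ι y hr'
    have hy' : y' ≫ O.ι = y := IsOpenImmersion.lift_fac _ _ _
    have hzy : (⟨z, hzO⟩ : (O : Scheme)) = y' (IsLocalRing.closedPoint k) := by
      apply O.ι.isOpenEmbedding.injective
      show z = (y' ≫ O.ι) _
      rw [hy', hyz]
    rw [hzy, Set.mem_compl_iff, SetLike.mem_coe, mem_basicOpen_iff_of_point y' Q' _ (hval y' _ hzU c₀ g
      (by rw [reassoc_of% hy']) (by rw [reassoc_of% hy', hg]) hgX), not_not] at hzZ
    exact hQ0 hzZ
  obtain ⟨I, hI⟩ := (PrimeSpectrum.isClosed_iff_zeroLocus_ideal _).mp hclosed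
  rw [hI, PrimeSpectrum.mem_zeroLocus, Set.not_subset] at hgood
  obtain ⟨P, hPI, hP⟩ := hgood
  refine ⟨P, ?_, fun x c hx hc hp => hc ?_⟩
  · rwa [SetLike.mem_coe, ha, RingHom.mem_ker] at hP
  · have h1 := hbad x c hx hp
    rw [hI, PrimeSpectrum.mem_zeroLocus] at h1
    have h2 : P ∈ (a c).asIdeal := h1 hPI
    rwa [ha, RingHom.mem_ker] at h2

end GrothLib.OrdQuad12
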