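import Groth.Agent.Lib.OrdQuad12.Scheme
import Groth.Agent.Lib.OrdQuad12.Separating

/-!
# Sections with one ordinary quadratic singularity form an open subset of the singular ones
-/

set_option autoImplicit false
set_option linter.all false
set_option maxHeartbeats 1000000
set_option backward.isDefEq.respectTransparency false
set_option backward.isDefEq.respectTransparency.types false
universe u

open CategoryTheory CategoryTheory.Limits AlgebraicGeometry TopologicalSpace IsLocalRing TensorProduct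

noncomputable section

namespace GrothLib.OrdQuad12

open GrothLib.DualVar12 GrothLib.Jets

attribute [local instance] constAlgebra

variable {k : Type u} [Field k]

theorem appLE_constHom {T X : Scheme.{u}} [T.Over (Spec (CommRingCat.of k))] [X.Over (Spec (CommRingCat.of k))]
    (p : T ⟶ X) (hp : p ≫ (X ↘ Spec (CommRingCat.of k)) = T ↘ Spec (CommRingCat.of k)) (V : X.Opens) (U : T.Opens)
    (e : U ≤ p ⁻¹ᵁ V) (c : k) : (p.appLE V U e).hom (constHom (k := k) V c) = constHom (k := k) U c := by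
  have h : CommRingCat.ofHom (constHom (k := k) V) ≫ p.appLE V U e = CommRingCat.ofHom (constHom (k := k) U) := by
    rw [constHom_eq, constHom_eq, Category.assoc, Scheme.Hom.appLE_comp_appLE]
    simp only [hp]
  exact congrArg (fun f => f.hom c) h

/-- Pull-back of functions as a map of algebras. -/
def appLEₐ {T X : Scheme.{u}} [T.Over (Spec (CommRingCat.of k))] [X.Over (Spec (CommRingCat.of k))]
    (p : T ⟶ X) (hp : p ≫ (X ↘ Spec (CommRingCat.of k)) = T ↘ Spec (CommRingCat.of k)) (V : X.Opens) (U : T.Opens)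
    (e : U ≤ p ⁻¹ᵁ V) : Γ(X, V) →ₐ[k] Γ(T, U) :=
  { (p.appLE V U e).hom with commutes' := appLE_constHom p hp V U e }

theorem evalPt_appLE_char {T X : Scheme.{u}} [X.Over (Spec (CommRingCat.of k))] (p : T ⟶ X)
    (y : Spec (CommRingCat.of k) ⟶ T) (V : X.affineOpens) (U : T.Opens) (e : U ≤ p ⁻¹ᵁ V.1)
    (hy : y (closedPoint k) ∈ U) (φ : Γ(X, V.1) →ₐ[k] k) (hφ : ptOf V φ = y ≫ p) (x : Γ(X, V.1)) :
    evalPt y U hy ((p.appLE V.1 U e).hom x) = φ x := by
  rw [evalPt_appLE, evalPt_congr hφ.symm]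
  exact evalPt_ptOf V φ _ x

variable [IsAlgClosed k] {r : ℕ} {X : Scheme.{u}} (i : X ⟶ CohB1.ProjSpace r k)
  [IsClosedImmersion i] [X.Over (Spec (CommRingCat.of k))]
  (hi : i ≫ CohB1.ProjSpace.toSpec r k = X ↘ Spec (CommRingCat.of k))
  [IsIntegral X] {m : ℕ} [SmoothOfRelativeDimension (m + 1) (X ↘ Spec (CommRingCat.of k))]
  [IsProper (X ↘ Spec (CommRingCat.of k))]
  {d : ℕ} {N : ℕ} (b : Module.Basis (Fin N) k (LefPen.Form r k d))

include hi in
omit [IsIntegral X] [SmoothOfRelativeDimension (m + 1) (X ↘ Spec (CommRingCat.of k))] in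
theorem isClosed_section_point (x : Spec (CommRingCat.of k) ⟶ X) (hx : x ≫ (X ↘ Spec (CommRingCat.of k)) = 𝟙 _) :
    IsClosed ({x (closedPoint k)} : Set X) := by
  obtain ⟨j, hj⟩ := exists_chart_mem i (x (closedPoint k))
  obtain ⟨φ, hφ⟩ := exists_ptOf (chartX i j) x hx hj
  rw [← hφ, ptOf_apply]
  exact isClosed_point _ φ

omit [IsClosedImmersion i] [IsProper (X ↘ Spec (CommRingCat.of k))] [IsIntegral X] in
theorem sum_evOn {j : Fin (r + 1)} [IsClosedImmersion i] (V : X.affineOpens) (hV : V.1 ≤ (chartX i j).1) (H : LefPen.Form r k d) :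
    ∑ l, b.equivFun H l • evOn i V hV (b l) = evOn i V hV H := by
  let e : LefPen.Form r k d →ₗ[k] Γ(X, (chartX i j).1) :=
    (MvPolynomial.aeval (coord i j)).toLinearMap.comp (CohB1.polyGrading r k d).subtype
  have hres : ∀ c : k, (X.presheaf.map (homOfLE hV).op).hom (constHom (k := k) (chartX i j).1 c) = constHom (k := k) V.1 c :=
    fun c => (congrArg (fun f => f.hom (Coh.toGlobal (X ↘ Spec (CommRingCat.of k)) c))
      (X.presheaf.map_comp (homOfLE le_top).op (homOfLE hV).op)).symm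
  conv_rhs => rw [evOn, show ev i j H = ∑ l, b.equivFun H l • ev i j (b l) from (sum_ev i j b H).symm]
  rw [map_sum]
  refine Finset.sum_congr rfl fun l _ => ?_
  rw [Algebra.smul_def, Algebra.smul_def, map_mul]
  exact congrArg (· * evOn i V hV (b l)) (hres _).symm

/-- Pairs of singular points, degenerate when equal. -/
def PairPred (y : Spec (CommRingCat.of k) ⟶ pullback (X ↘ Spec (CommRingCat.of k)) (X ↘ Spec (CommRingCat.of k)))
    (c : Fin N → k) : Prop :=
  BadX i ((y ≫ pullback.fst _ _) (closedPoint k)) (b.equivFun.symm c) ∧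
  BadX i ((y ≫ pullback.snd _ _) (closedPoint k)) (b.equivFun.symm c) ∧
  ((y ≫ pullback.fst _ _) (closedPoint k) = (y ≫ pullback.snd _ _) (closedPoint k) →
    ¬ NondegX i ((y ≫ pullback.fst _ _) (closedPoint k)) (b.equivFun.symm c))

include hi m in
omit [IsProper (X ↘ Spec (CommRingCat.of k))] in
/-- A condition excluding singular points of the section near a given regular one. -/
theorem exists_Q_single {T : Scheme.{u}} [T.Over (Spec (CommRingCat.of k))] (p : T ⟶ X)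
    (hp : p ≫ (X ↘ Spec (CommRingCat.of k)) = T ↘ Spec (CommRingCat.of k))
    (z : Spec (CommRingCat.of k) ⟶ T) (hz : z ≫ (T ↘ Spec (CommRingCat.of k)) = 𝟙 _) (H₀ : LefPen.Form r k d)
    (hb : ¬ BadX i ((z ≫ p) (closedPoint k)) H₀) :
    ∃ (U : T.Opens) (hzU : z (closedPoint k) ∈ U) (Q : MvPolynomial (Fin N) Γ(T, U)),
      MvPolynomial.eval (b.equivFun H₀) (MvPolynomial.map (evalPt z U hzU) Q) ≠ 0 ∧
      ∀ (y : Spec (CommRingCat.of k) ⟶ T) (c : Fin N → k), y ≫ (T ↘ Spec (CommRingCat.of k)) = 𝟙 _ →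
        ∀ hy : y (closedPoint k) ∈ U, BadX i ((y ≫ p) (closedPoint k)) (b.equivFun.symm c) →
          MvPolynomial.eval c (MvPolynomial.map (evalPt y U hy) Q) = 0 := by
  haveI : Smooth (X ↘ Spec (CommRingCat.of k)) := SmoothOfRelativeDimension.smooth (m + 1) _
  obtain ⟨j, hj⟩ := exists_chart_mem i ((z ≫ p) (closedPoint k))
  have hsec : ∀ y : Spec (CommRingCat.of k) ⟶ T, y ≫ (T ↘ Spec (CommRingCat.of k)) = 𝟙 _ →
      (y ≫ p) ≫ (X ↘ Spec (CommRingCat.of k)) = 𝟙 _ := fun y hy => by rw [Category.assoc, hp, hy]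
  let W := chartX i j
  have hW : W.1 ≤ (chartX i j).1 := le_rfl
  haveI : Algebra.Smooth k Γ(X, W.1) := smooth_constHom W
  obtain ⟨φ, hφ⟩ := exists_ptOf W (z ≫ p) (hsec z hz) hj
  have hnt : ¬ Tang φ (evOn i W hW H₀) := fun ht => hb ((badX_point_iff i hi W hW φ H₀ _
    (by rw [← hφ, ptOf_apply])).mpr (sq_of_tang ht))
  rw [Tang, not_forall] at hnt
  obtain ⟨ℓ, hℓ⟩ := hnt
  let U : T.Opens := p ⁻¹ᵁ W.1
  let q : Fin N → Γ(X, W.1) := fun l => ℓ (J (k := k) (evOn i W hW (b l)))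
  have hsum : ∀ (ψ : Γ(X, W.1) →ₐ[k] k) (H : LefPen.Form r k d),
      ψ (ℓ (J (k := k) (evOn i W hW H))) = ∑ l, ψ (q l) * b.equivFun H l := fun ψ H => by
    rw [← sum_evOn i b W hW H]
    simp only [map_sum, map_smul, LinearMap.map_smul_of_tower, smul_eq_mul, q]
    exact Finset.sum_congr rfl fun l _ => mul_comm _ _
  let Q : MvPolynomial (Fin N) Γ(T, U) := ∑ l, MvPolynomial.C ((p.appLE W.1 U le_rfl).hom (q l)) * MvPolynomial.X l
  have hval : ∀ (y : Spec (CommRingCat.of k) ⟶ T) (hy : y (closedPoint k) ∈ U) (ψ : Γ(X, W.1) →ₐ[k] k)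
      (c : Fin N → k), ptOf W ψ = y ≫ p →
      MvPolynomial.eval c (MvPolynomial.map (evalPt y U hy) Q) = ψ (ℓ (J (k := k) (evOn i W hW (b.equivFun.symm c)))) := by
    intro y hy ψ c hψ
    rw [hsum, LinearEquiv.apply_symm_apply]
    simp [Q, map_sum, evalPt_appLE_char p y W U le_rfl hy ψ hψ]
  refine ⟨U, hj, Q, ?_, fun y c hy hyU hbad => ?_⟩
  · rw [hval z hj φ _ hφ, LinearEquiv.symm_apply_apply]
    exact hℓ
  · obtain ⟨ψ, hψ⟩ := exists_ptOf W (y ≫ p) (hsec y hy) hyU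
    rw [hval y hyU ψ c hψ]
    exact tang_of_sq ((badX_point_iff i hi W hW ψ _ _ (by rw [← hψ, ptOf_apply])).mp hbad) ℓ

theorem pairPt_Msys_sum {B : Type u} [CommRing B] [Algebra k B] {n : ℕ} (F : Frame k B n) (ψ ψ' : B →ₐ[k] k)
    (c : Fin N → k) (A : Fin N → Fin n → Fin n → B ⊗[k] B) (a a' : Fin n) :
    pairPt ψ ψ' (Msys F (fun x y => ∑ l, c l • A l x y) a a') = ∑ l, c l * pairPt ψ ψ' (Msys F (A l) a a') := by
  simp only [Msys, map_add, map_sum, map_smul, map_mul, smul_eq_mul, mul_add, Finset.mul_sum, Finset.sum_mul,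
    Finset.sum_add_distrib, mul_assoc]
  rw [Finset.sum_comm]

include hi in
/-- Near a section with one ordinary quadratic singularity no section has two singular points or a degenerate one. -/
theorem exists_Q_pair (H₀ : LefPen.Form r k d) (h₀ : LefPen.OneOrdQuad k (m + 1) i H₀)
    (z : Spec (CommRingCat.of k) ⟶ pullback (X ↘ Spec (CommRingCat.of k)) (X ↘ Spec (CommRingCat.of k)))
    (hz : z ≫ pullback.fst _ _ ≫ (X ↘ Spec (CommRingCat.of k)) = 𝟙 _) :
    ∃ (U : (pullback (X ↘ Spec (CommRingCat.of k)) (X ↘ Spec (CommRingCat.of k))).Opens)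
      (hzU : z (closedPoint k) ∈ U) (Q : MvPolynomial (Fin N) Γ(pullback (X ↘ Spec (CommRingCat.of k)) (X ↘ Spec (CommRingCat.of k)), U)),
      MvPolynomial.eval (b.equivFun H₀) (MvPolynomial.map (evalPt z U hzU) Q) ≠ 0 ∧
      ∀ (y : Spec (CommRingCat.of k) ⟶ _) (c : Fin N → k),
        y ≫ pullback.fst _ _ ≫ (X ↘ Spec (CommRingCat.of k)) = 𝟙 _ →
        ∀ hy : y (closedPoint k) ∈ U, PairPred i b y c →
          MvPolynomial.eval c (MvPolynomial.map (evalPt y U hy) Q) = 0 := by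
  classical
  haveI : Smooth (X ↘ Spec (CommRingCat.of k)) := SmoothOfRelativeDimension.smooth (m + 1) _
  let T := pullback (X ↘ Spec (CommRingCat.of k)) (X ↘ Spec (CommRingCat.of k))
  letI : T.Over (Spec (CommRingCat.of k)) := ⟨pullback.fst _ _ ≫ (X ↘ Spec (CommRingCat.of k))⟩
  let p₁ : T ⟶ X := pullback.fst _ _
  let p₂ : T ⟶ X := pullback.snd _ _
  have hp₁ : p₁ ≫ (X ↘ Spec (CommRingCat.of k)) = T ↘ Spec (CommRingCat.of k) := rfl
  have hp₂ : p₂ ≫ (X ↘ Spec (CommRingCat.of k)) = T ↘ Spec (CommRingCat.of k) := pullback.condition.symm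
  by_cases hb1 : BadX i ((z ≫ p₁) (closedPoint k)) H₀
  swap
  · obtain ⟨U, hU, Q, hQ0, hQ⟩ := exists_Q_single i hi (m := m) b p₁ hp₁ z hz H₀ hb1
    exact ⟨U, hU, Q, hQ0, fun y c hy hyU h => hQ y c hy hyU h.1⟩
  by_cases hb2 : BadX i ((z ≫ p₂) (closedPoint k)) H₀
  swap
  · obtain ⟨U, hU, Q, hQ0, hQ⟩ := exists_Q_single i hi (m := m) b p₂ hp₂ z hz H₀ hb2
    exact ⟨U, hU, Q, hQ0, fun y c hy hyU h => hQ y c hy hyU h.2.1⟩
  obtain ⟨-, hall⟩ := (oneOrdQuad_iff i hi (m := m) H₀).mp h₀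
  have hs1 : (z ≫ p₁) ≫ (X ↘ Spec (CommRingCat.of k)) = 𝟙 _ := by rw [Category.assoc]; exact hz
  have hs2 : (z ≫ p₂) ≫ (X ↘ Spec (CommRingCat.of k)) = 𝟙 _ := by rw [Category.assoc, hp₂]; exact hz
  have hc1 := isClosed_section_point i hi _ hs1
  obtain ⟨hn, huniq⟩ := hall _ hc1 hb1
  have h12 := huniq _ (isClosed_section_point i hi _ hs2) hb2
  obtain ⟨j, hj⟩ := exists_chart_mem i ((z ≫ p₁) (closedPoint k))
  obtain ⟨V, hV, φ, hφ, ⟨F⟩⟩ := exists_frame_nhd i hi (m := m) _ hc1 j hj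
  haveI : Algebra.Smooth k Γ(X, V.1) := smooth_constHom V
  have hφ1 : ptOf V φ = z ≫ p₁ := by
    obtain ⟨φ', hφ'⟩ := exists_ptOf V (z ≫ p₁) hs1 (by rw [hφ]; exact point_mem V φ)
    have e : pk φ' = pk φ := congrArg PrimeSpectrum.asIdeal (V.2.fromSpec.isOpenEmbedding.injective
      (((ptOf_apply V φ' (closedPoint k)).symm.trans (by rw [hφ'])).trans hφ))
    rw [← hφ']
    congr 1
    ext x
    have h1 : x - algebraMap k _ (φ' x) ∈ pk φ' := by simp [RingHom.mem_ker]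
    rw [e] at h1
    exact sub_eq_zero.mp (by simpa [RingHom.mem_ker] using h1)
  have hφ2 : ptOf V φ = z ≫ p₂ := by
    obtain ⟨φ', hφ'⟩ := exists_ptOf V (z ≫ p₂) hs2 (by rw [h12, hφ]; exact point_mem V φ)
    have e : pk φ' = pk φ := congrArg PrimeSpectrum.asIdeal (V.2.fromSpec.isOpenEmbedding.injective
      (((ptOf_apply V φ' (closedPoint k)).symm.trans (by rw [hφ', h12])).trans hφ))
    rw [← hφ']
    congr 1
    ext x
    have h1 : x - algebraMap k _ (φ' x) ∈ pk φ' := by simp [RingHom.mem_ker]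
    rw [e] at h1
    exact sub_eq_zero.mp (by simpa [RingHom.mem_ker] using h1)
  have hh : evOn i V hV H₀ ∈ pk φ ^ 2 := (badX_point_iff i hi V hV φ H₀ _ hφ).mp hb1
  choose A hA using fun l => F.hexp (evOn i V hV (b l))
  have hexpand : ∀ c : Fin N → k,
      F.s * rem F.u F.g (evOn i V hV (b.equivFun.symm c)) =
        ∑ a, ∑ a', (∑ l, c l • A l a a') * δ (k := k) (F.u a) * δ (k := k) (F.u a') := by
    intro c
    have hrem : rem F.u F.g (evOn i V hV (b.equivFun.symm c)) = ∑ l, c l • rem F.u F.g (evOn i V hV (b l)) := by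
      rw [← sum_evOn i b V hV, LinearEquiv.apply_symm_apply]
      simp only [rem, δ, map_sum, map_smul, Derivation.map_smul, TensorProduct.tmul_sum, TensorProduct.sum_tmul,
        TensorProduct.tmul_smul, ← TensorProduct.smul_tmul', smul_sub, Finset.sum_sub_distrib, Finset.smul_sum,
        Finset.sum_mul, smul_mul_assoc]
      rw [Finset.sum_comm]
    rw [hrem, Finset.mul_sum]
    simp only [mul_smul_comm, hA, Finset.smul_sum, Finset.sum_mul, smul_mul_assoc]
    rw [Finset.sum_comm]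
    exact Finset.sum_congr rfl fun a _ => Finset.sum_comm
  let U : T.Opens := p₁ ⁻¹ᵁ V.1 ⊓ p₂ ⁻¹ᵁ V.1
  let lam : Γ(X, V.1) ⊗[k] Γ(X, V.1) →ₐ[k] Γ(T, U) := Algebra.TensorProduct.lift
    (appLEₐ p₁ hp₁ V.1 U inf_le_left) (appLEₐ p₂ hp₂ V.1 U inf_le_right) fun _ _ => Commute.all _ _
  have hlam : ∀ (y : Spec (CommRingCat.of k) ⟶ T) (hy : y (closedPoint k) ∈ U) (ψ ψ' : Γ(X, V.1) →ₐ[k] k),
      ptOf V ψ = y ≫ p₁ → ptOf V ψ' = y ≫ p₂ → ∀ w, evalPt y U hy (lam w) = pairPt ψ ψ' w := by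
    intro y hy ψ ψ' h1 h2 w
    induction w using TensorProduct.induction_on with
    | zero => simp
    | tmul a a' =>
      simp only [lam, pairPt, Algebra.TensorProduct.lift_tmul, map_mul]
      exact congrArg₂ (· * ·) (evalPt_appLE_char p₁ y V U inf_le_left hy ψ h1 a)
        (evalPt_appLE_char p₂ y V U inf_le_right hy ψ' h2 a')
    | add x y hx hy => simp only [map_add, hx, hy]
  let R := MvPolynomial (Fin N) (Γ(X, V.1) ⊗[k] Γ(X, V.1))
  let AP : Fin (m + 1) → Fin (m + 1) → R := fun a a' => ∑ l, MvPolynomial.C (A l a a') * MvPolynomial.X l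
  let MP : Fin (m + 1) → Fin (m + 1) → R := fun a a' => ∑ l, MvPolynomial.C (Msys F (A l) a a') * MvPolynomial.X l
  let evc : (Fin N → k) → (Γ(X, V.1) →ₐ[k] k) → (Γ(X, V.1) →ₐ[k] k) → R →+* k := fun c ψ ψ' =>
    (MvPolynomial.eval c).comp (MvPolynomial.map (pairPt ψ ψ').toRingHom)
  have heC : ∀ c ψ ψ' w, evc c ψ ψ' (MvPolynomial.C w) = pairPt ψ ψ' w := fun c ψ ψ' w => by
    show MvPolynomial.eval c (MvPolynomial.map _ _) = _
    rw [MvPolynomial.map_C, MvPolynomial.eval_C]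
    rfl
  have heX : ∀ c ψ ψ' l, evc c ψ ψ' (MvPolynomial.X l) = c l := fun c ψ ψ' l => by
    show MvPolynomial.eval c (MvPolynomial.map _ _) = _
    rw [MvPolynomial.map_X, MvPolynomial.eval_X]
  have heA : ∀ c ψ ψ' a a', evc c ψ ψ' (AP a a') = pairPt ψ ψ' (∑ l, c l • A l a a') := fun c ψ ψ' a a' => by
    simp only [AP, map_sum, map_mul, heC, heX, map_smul, smul_eq_mul]
    exact Finset.sum_congr rfl fun l _ => mul_comm _ _
  have heM : ∀ c ψ ψ' a a', evc c ψ ψ' (MP a a') = pairPt ψ ψ' (Msys F (fun x y => ∑ l, c l • A l x y) a a') :=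
    fun c ψ ψ' a a' => by
      rw [pairPt_Msys_sum]
      simp only [MP, map_sum, map_mul, heC, heX]
      exact Finset.sum_congr rfl fun l _ => mul_comm _ _
  have hnz := (nondeg_iff_no_zero F φ hh (fun a a' => ∑ l, b.equivFun H₀ l • A l a a')
    (by simpa using hexpand (b.equivFun H₀))).mp ((nondegX_point_iff i hi V hV φ H₀ _ hφ).mp hn).2
  obtain ⟨D, hD0, hD⟩ := exists_open_no_zero MP AP (evc (b.equivFun H₀) φ φ)
    (fun v => ⟨MvPolynomial.C (algebraMap k _ v), by rw [heC, AlgHom.commutes]; rfl⟩) (by simpa only [heA, heM] using hnz)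
  have hzU : z (closedPoint k) ∈ U := ⟨by show (z ≫ p₁) (closedPoint k) ∈ V.1; rw [← hφ1]; exact ptOf_mem V φ _,
    by show (z ≫ p₂) (closedPoint k) ∈ V.1; rw [← hφ2]; exact ptOf_mem V φ _⟩
  refine ⟨U, hzU,
    MvPolynomial.map lam.toRingHom (D * MvPolynomial.C F.s), ?_, fun y c hy hyU hP => ?_⟩
  · rw [MvPolynomial.map_map, show (evalPt z U hzU).comp lam.toRingHom = (pairPt φ φ).toRingHom from
      RingHom.ext (hlam z hzU φ φ hφ1 hφ2)]
    rw [map_mul, map_mul, MvPolynomial.map_C, MvPolynomial.eval_C]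
    refine mul_ne_zero hD0 ?_
    show pairPt φ φ F.s ≠ 0
    rw [pairPt_self, F.hs, map_one]
    exact one_ne_zero
  · obtain ⟨ψ, hψ⟩ := exists_ptOf V (y ≫ p₁) (by rw [Category.assoc]; exact hy) hyU.1
    obtain ⟨ψ', hψ'⟩ := exists_ptOf V (y ≫ p₂) (by rw [Category.assoc, hp₂]; exact hy) hyU.2
    rw [MvPolynomial.map_map, show (evalPt y U _).comp lam.toRingHom = (pairPt ψ ψ').toRingHom from
      RingHom.ext (hlam y hyU ψ ψ' hψ hψ')]
    rw [map_mul, map_mul, MvPolynomial.map_C, MvPolynomial.eval_C]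
    by_contra hne
    rw [← ne_eq, mul_ne_zero_iff] at hne
    have he1 : (y ≫ p₁) (closedPoint k) = V.2.fromSpec ⟨pk ψ, (pk_isMaximal ψ).isPrime⟩ := by rw [← hψ, ptOf_apply]
    have he2 : (y ≫ p₂) (closedPoint k) = V.2.fromSpec ⟨pk ψ', (pk_isMaximal ψ').isPrime⟩ := by rw [← hψ', ptOf_apply]
    have h1 := (badX_point_iff i hi V hV ψ _ _ he1).mp hP.1
    have h2 := (badX_point_iff i hi V hV ψ' _ _ he2).mp hP.2.1
    obtain ⟨hq, hlin⟩ := pair_eqs F ψ ψ' h1 h2 _ (hexpand c)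
    have hno := hD (evc c ψ ψ') hne.1
    simp only [heA, heM] at hno
    have hzero : (fun a => ψ' (F.u a) - ψ (F.u a)) = 0 := by
      by_contra hv
      exact hno _ hv hq hlin
    obtain rfl := eq_of_u_eq F ψ ψ' hne.2 fun a => sub_eq_zero.mp (congrFun hzero a)
    refine hP.2.2 (he1.trans he2.symm) ((nondegX_point_iff i hi V hV ψ' _ _ he1).mpr ⟨h1, ?_⟩)
    exact (nondeg_iff_no_zero F ψ' h1 _ (hexpand c)).mpr fun v hv0 hv1 hv2 => hno v hv0 hv1 hv2

include hi in
/-- The singular sections near one with a single ordinary quadratic singularity have the same shape. -/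
theorem exists_open_oneOrdQuad (H₀ : LefPen.Form r k d) (h₀ : LefPen.OneOrdQuad k (m + 1) i H₀) :
    ∃ P : MvPolynomial (Fin N) k, MvPolynomial.eval (b.equivFun H₀) P ≠ 0 ∧
      ∀ H : LefPen.Form r k d, MvPolynomial.eval (b.equivFun H) P ≠ 0 → Bad i H →
        LefPen.OneOrdQuad k (m + 1) i H := by
  classical
  let f := X ↘ Spec (CommRingCat.of k)
  let T := pullback f f
  letI : T.Over (Spec (CommRingCat.of k)) := ⟨pullback.fst _ _ ≫ f⟩
  haveI : IsProper (T ↘ Spec (CommRingCat.of k)) := inferInstanceAs (IsProper (pullback.fst f f ≫ f))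
  obtain ⟨P, hP0, hP⟩ := exists_separating_gen (PairPred i b) (b.equivFun H₀) fun z hz =>
    exists_Q_pair i hi b H₀ h₀ z hz
  refine ⟨P, hP0, fun H hH ⟨j, φ, hb⟩ => (oneOrdQuad_iff i hi H).mpr ?_⟩
  refine ⟨⟨ptOf (chartX i j) φ (closedPoint k), isClosed_section_point i hi _ (ptOf_over _ _),
    ⟨j, (badAt_ptOf_iff i j φ _ H).mpr hb⟩⟩, fun x hx hxb => ?_⟩
  have hsec : ∀ x : X, IsClosed ({x} : Set X) → ∃ s : Spec (CommRingCat.of k) ⟶ X,
      s ≫ f = 𝟙 _ ∧ s (closedPoint k) = x := fun x hx => by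
    obtain ⟨j, hj⟩ := exists_chart_mem i x
    haveI := finiteType_chart i hi j
    obtain ⟨φ, hφ⟩ := exists_char_of_closed (k := k) (chartX i j) x hx hj
    exact ⟨ptOf (chartX i j) φ, ptOf_over _ _, by rw [ptOf_apply, hφ]⟩
  obtain ⟨s, hs, rfl⟩ := hsec x hx
  have key : ∀ (s' : Spec (CommRingCat.of k) ⟶ X) (hs' : s' ≫ f = 𝟙 _), BadX i (s' (closedPoint k)) H →
      s (closedPoint k) = s' (closedPoint k) ∧ NondegX i (s (closedPoint k)) H := by
    intro s' hs' hb'
    have := hP (pullback.lift s s' (hs.trans hs'.symm)) (b.equivFun H)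
      (by show _ ≫ pullback.fst _ _ ≫ f = 𝟙 _; rw [pullback.lift_fst_assoc, hs]) hH
    simp only [PairPred, pullback.lift_fst, pullback.lift_snd, LinearEquiv.symm_apply_apply, hxb, hb', true_and,
      Classical.not_imp, not_not] at this
    exact this
  refine ⟨(key s hs hxb).2, fun x' hx' hb' => ?_⟩
  obtain ⟨s', hs', rfl⟩ := hsec x' hx'
  exact (key s' hs' hb').1.symm

end GrothLib.OrdQuad12
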