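import Groth.Agent.Lib.OrdQuad12.Base
import Groth.Agent.Lib.OrdQuad12.Diag

/-!
# Lefschetz pencils form an open set
-/

set_option autoImplicit false
set_option linter.all false
set_option maxHeartbeats 1000000
set_option backward.isDefEq.respectTransparency false
set_option backward.isDefEq.respectTransparency.types false
universe u

open CategoryTheory CategoryTheory.Limits AlgebraicGeometry TopologicalSpace IsLocalRing TensorProduct

noncomputable section

namespace GrothLib.OrdQuad12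

open GrothLib.DualVar12 GrothLib.Jets

attribute [local instance] constAlgebra

variable {k : Type u} [Field k]

/-- A combination of two vectors killed by a functional is the canonical one, up to scale. -/
theorem exists_scale {V : Type*} [AddCommGroup V] [Module k V] (F G : V) {a b p q : k} (hab : a ≠ 0 ∨ b ≠ 0)
    (hpq : p ≠ 0 ∨ q ≠ 0) (h : a * p + b * q = 0) :
    ∃ t : k, t ≠ 0 ∧ a • F + b • G = t • (q • F + (-p) • G) := by
  by_cases hq : q = 0
  · have hp : p ≠ 0 := hpq.resolve_right (by simpa using hq)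
    subst hq
    rw [mul_zero, add_zero, mul_eq_zero] at h
    have ha := h.resolve_right hp
    subst ha
    refine ⟨-b / p, div_ne_zero (neg_ne_zero.mpr (hab.resolve_left (by simp))) hp, ?_⟩
    rw [smul_add, smul_smul, smul_smul, mul_zero, zero_smul, show -b / p * -p = b by field_simp]
  · have hb : b = -(a * p) / q := by field_simp; linear_combination h
    refine ⟨a / q, div_ne_zero (fun e => ?_) hq, ?_⟩
    · subst e
      rcases hab with h1 | h1
      · exact h1 rfl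
      · exact h1 (by rw [hb]; simp)
    · rw [smul_add, smul_smul, smul_smul, hb]
      congr 2
      · field_simp
      · ring

variable [IsAlgClosed k] {r : ℕ} {X : Scheme.{u}} (i : X ⟶ CohB1.ProjSpace r k)
  [IsClosedImmersion i] [X.Over (Spec (CommRingCat.of k))]
  (hi : i ≫ CohB1.ProjSpace.toSpec r k = X ↘ Spec (CommRingCat.of k))
  [IsIntegral X] {m : ℕ} [SmoothOfRelativeDimension (m + 1) (X ↘ Spec (CommRingCat.of k))]
  [IsProper (X ↘ Spec (CommRingCat.of k))]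
  {d : ℕ} {N : ℕ} (b : Module.Basis (Fin N) k (LefPen.Form r k d))

include hi in
omit [IsProper (X ↘ Spec (CommRingCat.of k))] [IsIntegral X] [SmoothOfRelativeDimension (m + 1) (X ↘ Spec (CommRingCat.of k))] in
theorem badX_smul {t : k} (ht : t ≠ 0) (x : X) (H : LefPen.Form r k d) : BadX i x (t • H) ↔ BadX i x H := by
  obtain ⟨j, hj⟩ := exists_chart_mem i x
  rw [badX_iff i hi hj, badX_iff i hi hj, ← germ_evOn i (chartX i j) le_rfl (t • H) x hj,
    ← germ_evOn i (chartX i j) le_rfl H x hj, evOn_smul, Algebra.smul_def, map_mul]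
  exact Ideal.unit_mul_mem_iff_mem _ (((isUnit_iff_ne_zero.mpr ht).map _).map _)

include hi in
omit [IsProper (X ↘ Spec (CommRingCat.of k))] [IsIntegral X] [SmoothOfRelativeDimension (m + 1) (X ↘ Spec (CommRingCat.of k))] in
theorem nondegX_smul {t : k} (ht : t ≠ 0) (x : X) (H : LefPen.Form r k d) :
    NondegX i x (t • H) ↔ NondegX i x H := by
  obtain ⟨j, hj⟩ := exists_chart_mem i x
  rw [nondegX_iff i hi hj, nondegX_iff i hi hj, ← germ_evOn i (chartX i j) le_rfl (t • H) x hj,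
    ← germ_evOn i (chartX i j) le_rfl H x hj, evOn_smul, Algebra.smul_def, map_mul]
  have hu : IsUnit ((X.presheaf.germ (chartX i j).1 x hj).hom (algebraMap k Γ(X, (chartX i j).1) t)) :=
    ((isUnit_iff_ne_zero.mpr ht).map _).map _
  exact ⟨fun h => h.of_dvd (hu.mul_left_dvd.mpr dvd_rfl) (Dvd.intro_left _ rfl),
    fun h => h.of_dvd (Dvd.intro_left _ rfl) (hu.mul_left_dvd.mpr dvd_rfl)⟩

/-- The first form of a pair in coordinates. -/
def fstF (v : Fin (N + N) → k) : LefPen.Form r k d := b.equivFun.symm fun l => v (Fin.castAdd N l)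

/-- The second form of a pair in coordinates. -/
def sndF (v : Fin (N + N) → k) : LefPen.Form r k d := b.equivFun.symm fun l => v (Fin.natAdd N l)

/-- A member singular at both points, degenerately if they coincide. -/
def PencilPred (y : Spec (CommRingCat.of k) ⟶ pullback (X ↘ Spec (CommRingCat.of k)) (X ↘ Spec (CommRingCat.of k)))
    (v : Fin (N + N) → k) : Prop :=
  ∃ s t : k, (s ≠ 0 ∨ t ≠ 0) ∧
  BadX i ((y ≫ pullback.fst _ _) (closedPoint k)) (s • fstF b v + t • sndF b v) ∧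
  BadX i ((y ≫ pullback.snd _ _) (closedPoint k)) (s • fstF b v + t • sndF b v) ∧
  ((y ≫ pullback.fst _ _) (closedPoint k) = (y ≫ pullback.snd _ _) (closedPoint k) →
    ¬ NondegX i ((y ≫ pullback.fst _ _) (closedPoint k)) (s • fstF b v + t • sndF b v))

omit [IsProper (X ↘ Spec (CommRingCat.of k))] [IsIntegral X] [SmoothOfRelativeDimension (m + 1) (X ↘ Spec (CommRingCat.of k))] in
theorem sum_evOn_symm {j : Fin (r + 1)} (V : X.affineOpens) (hV : V.1 ≤ (chartX i j).1) (c : Fin N → k) :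
    ∑ l, c l • evOn i V hV (b l) = evOn i V hV (b.equivFun.symm c) := by
  rw [← sum_evOn i b V hV (b.equivFun.symm c), LinearEquiv.apply_symm_apply]

include hi m in
/-- The functionals on forms given by jets at a point. -/
theorem exists_functional {j : Fin (r + 1)} (V : X.affineOpens) (hV : V.1 ≤ (chartX i j).1)
    [Algebra.Smooth k Γ(X, V.1)] (φ : Γ(X, V.1) →ₐ[k] k) (c₀ : Fin N → k)
    (hb : ¬ evOn i V hV (b.equivFun.symm c₀) ∈ pk φ ^ 2) :
    ∃ q : Fin N → Γ(X, V.1), ∑ l, φ (q l) * c₀ l ≠ 0 ∧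
      ∀ (ψ : Γ(X, V.1) →ₐ[k] k) (c : Fin N → k), evOn i V hV (b.equivFun.symm c) ∈ pk ψ ^ 2 →
        ∑ l, ψ (q l) * c l = 0 := by
  have hnt : ¬ Tang φ (evOn i V hV (b.equivFun.symm c₀)) := fun ht => hb (sq_of_tang ht)
  rw [Tang, not_forall] at hnt
  obtain ⟨ℓ, hℓ⟩ := hnt
  have hsum : ∀ (ψ : Γ(X, V.1) →ₐ[k] k) (c : Fin N → k),
      ∑ l, ψ (ℓ (J (k := k) (evOn i V hV (b l)))) * c l = ψ (ℓ (J (k := k) (evOn i V hV (b.equivFun.symm c)))) := by
    intro ψ c
    rw [← sum_evOn_symm i b V hV]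
    simp only [map_sum, map_smul, LinearMap.map_smul_of_tower, smul_eq_mul]
    exact Finset.sum_congr rfl fun l _ => mul_comm _ _
  exact ⟨fun l => ℓ (J (k := k) (evOn i V hV (b l))), by rwa [hsum], fun ψ c hc => by rw [hsum]; exact tang_of_sq hc ℓ⟩

include hi m in
/-- Near a Lefschetz pencil no member is singular at two points or degenerately singular. -/
theorem exists_Q_pencil (v₀ : Fin (N + N) → k) (hbase : ¬ BadBase i (fstF b v₀) (sndF b v₀))
    (hmem : ∀ s t : k, (s ≠ 0 ∨ t ≠ 0) → ∀ x : X, IsClosed ({x} : Set X) → BadX i x (s • fstF b v₀ + t • sndF b v₀) →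
      NondegX i x (s • fstF b v₀ + t • sndF b v₀) ∧
      ∀ x' : X, IsClosed ({x'} : Set X) → BadX i x' (s • fstF b v₀ + t • sndF b v₀) → x' = x)
    (z : Spec (CommRingCat.of k) ⟶ pullback (X ↘ Spec (CommRingCat.of k)) (X ↘ Spec (CommRingCat.of k)))
    (hz : z ≫ pullback.fst _ _ ≫ (X ↘ Spec (CommRingCat.of k)) = 𝟙 _) :
    ∃ (U : (pullback (X ↘ Spec (CommRingCat.of k)) (X ↘ Spec (CommRingCat.of k))).Opens)
      (hzU : z (closedPoint k) ∈ U)
      (Q : MvPolynomial (Fin (N + N)) Γ(pullback (X ↘ Spec (CommRingCat.of k)) (X ↘ Spec (CommRingCat.of k)), U)),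
      MvPolynomial.eval v₀ (MvPolynomial.map (evalPt z U hzU) Q) ≠ 0 ∧
      ∀ (y : Spec (CommRingCat.of k) ⟶ _) (v : Fin (N + N) → k),
        y ≫ pullback.fst _ _ ≫ (X ↘ Spec (CommRingCat.of k)) = 𝟙 _ →
        ∀ hy : y (closedPoint k) ∈ U, PencilPred i b y v →
          MvPolynomial.eval v (MvPolynomial.map (evalPt y U hy) Q) = 0 := by
  classical
  haveI : Smooth (X ↘ Spec (CommRingCat.of k)) := SmoothOfRelativeDimension.smooth (m + 1) _
  let T := pullback (X ↘ Spec (CommRingCat.of k)) (X ↘ Spec (CommRingCat.of k))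
  letI : T.Over (Spec (CommRingCat.of k)) := ⟨pullback.fst _ _ ≫ (X ↘ Spec (CommRingCat.of k))⟩
  let p₁ : T ⟶ X := pullback.fst _ _
  let p₂ : T ⟶ X := pullback.snd _ _
  have hp₁ : p₁ ≫ (X ↘ Spec (CommRingCat.of k)) = T ↘ Spec (CommRingCat.of k) := rfl
  have hp₂ : p₂ ≫ (X ↘ Spec (CommRingCat.of k)) = T ↘ Spec (CommRingCat.of k) := pullback.condition.symm
  have hsec1 : ∀ y : Spec (CommRingCat.of k) ⟶ T, y ≫ p₁ ≫ (X ↘ Spec (CommRingCat.of k)) = 𝟙 _ →
      (y ≫ p₁) ≫ (X ↘ Spec (CommRingCat.of k)) = 𝟙 _ := fun y hy => by rw [Category.assoc]; exact hy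
  have hsec2 : ∀ y : Spec (CommRingCat.of k) ⟶ T, y ≫ p₁ ≫ (X ↘ Spec (CommRingCat.of k)) = 𝟙 _ →
      (y ≫ p₂) ≫ (X ↘ Spec (CommRingCat.of k)) = 𝟙 _ := fun y hy => by rw [Category.assoc, hp₂]; exact hy
  have hc1 := isClosed_section_point i hi _ (hsec1 z hz)
  have hc2 := isClosed_section_point i hi _ (hsec2 z hz)
  let cF : (Fin (N + N) → k) → Fin N → k := fun v l => v (Fin.castAdd N l)
  let cG : (Fin (N + N) → k) → Fin N → k := fun v l => v (Fin.natAdd N l)
  have hcomb : ∀ (s t : k) v, s • fstF b v + t • sndF b v = b.equivFun.symm (s • cF v + t • cG v) := fun s t v => by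
    rw [map_add, map_smul, map_smul]; rfl
  by_cases hA : ∃ s t : k, (s ≠ 0 ∨ t ≠ 0) ∧ BadX i ((z ≫ p₁) (closedPoint k)) (s • fstF b v₀ + t • sndF b v₀) ∧
      BadX i ((z ≫ p₂) (closedPoint k)) (s • fstF b v₀ + t • sndF b v₀)
  swap
  · -- no common singular member
    obtain ⟨j₁, hj₁⟩ := exists_chart_mem i ((z ≫ p₁) (closedPoint k))
    obtain ⟨j₂, hj₂⟩ := exists_chart_mem i ((z ≫ p₂) (closedPoint k))
    let U : T.Opens := p₁ ⁻¹ᵁ (chartX i j₁).1 ⊓ p₂ ⁻¹ᵁ (chartX i j₂).1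
    have hzU : z (closedPoint k) ∈ U := ⟨hj₁, hj₂⟩
    let Good : (Fin N → Γ(T, U)) → Prop := fun q => ∀ (y : Spec (CommRingCat.of k) ⟶ T)
      (hy : y (closedPoint k) ∈ U), y ≫ p₁ ≫ (X ↘ Spec (CommRingCat.of k)) = 𝟙 _ → ∀ c : Fin N → k,
      BadX i ((y ≫ p₁) (closedPoint k)) (b.equivFun.symm c) → BadX i ((y ≫ p₂) (closedPoint k)) (b.equivFun.symm c) →
      ∑ l, evalPt y U hy (q l) * c l = 0
    have hex : ∀ s t : k, (s ≠ 0 ∨ t ≠ 0) → ∃ q, Good q ∧ ∑ l, evalPt z U hzU (q l) * (s • cF v₀ + t • cG v₀) l ≠ 0 := by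
      intro s t hst
      have hnot := not_exists.mp (not_exists.mp hA s) t
      rw [not_and, hcomb] at hnot
      have hnot' := hnot hst
      by_cases h1 : BadX i ((z ≫ p₁) (closedPoint k)) (b.equivFun.symm (s • cF v₀ + t • cG v₀))
      · have h2 : ¬ BadX i ((z ≫ p₂) (closedPoint k)) (b.equivFun.symm (s • cF v₀ + t • cG v₀)) :=
          fun h => hnot' ⟨h1, h⟩
        haveI : Algebra.Smooth k Γ(X, (chartX i j₂).1) := smooth_constHom (chartX i j₂)
        obtain ⟨φ, hφ⟩ := exists_ptOf (chartX i j₂) (z ≫ p₂) (hsec2 z hz) hj₂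
        obtain ⟨q, hq, hq'⟩ := exists_functional i hi (m := m) b (chartX i j₂) le_rfl φ _ (fun h => h2
          ((badX_point_iff i hi (chartX i j₂) le_rfl φ _ _ (by rw [← hφ, ptOf_apply])).mpr h))
        refine ⟨fun l => (p₂.appLE (chartX i j₂).1 U inf_le_right).hom (q l), fun y hy hys c _ hc2 => ?_, ?_⟩
        · obtain ⟨ψ, hψ⟩ := exists_ptOf (chartX i j₂) (y ≫ p₂) (hsec2 y hys) hy.2
          simp only [evalPt_appLE_char p₂ y (chartX i j₂) U inf_le_right hy ψ hψ]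
          exact hq' ψ c ((badX_point_iff i hi (chartX i j₂) le_rfl ψ _ _ (by rw [← hψ, ptOf_apply])).mp hc2)
        · exact fun e => hq ((Finset.sum_congr rfl fun l _ => congrArg (· * _)
            (evalPt_appLE_char p₂ z (chartX i j₂) U inf_le_right hzU φ hφ (q l)).symm).trans e)
      · haveI : Algebra.Smooth k Γ(X, (chartX i j₁).1) := smooth_constHom (chartX i j₁)
        obtain ⟨φ, hφ⟩ := exists_ptOf (chartX i j₁) (z ≫ p₁) (hsec1 z hz) hj₁
        obtain ⟨q, hq, hq'⟩ := exists_functional i hi (m := m) b (chartX i j₁) le_rfl φ _ (fun h => h1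
          ((badX_point_iff i hi (chartX i j₁) le_rfl φ _ _ (by rw [← hφ, ptOf_apply])).mpr h))
        refine ⟨fun l => (p₁.appLE (chartX i j₁).1 U inf_le_left).hom (q l), fun y hy hys c hc1 _ => ?_, ?_⟩
        · obtain ⟨ψ, hψ⟩ := exists_ptOf (chartX i j₁) (y ≫ p₁) (hsec1 y hys) hy.1
          simp only [evalPt_appLE_char p₁ y (chartX i j₁) U inf_le_left hy ψ hψ]
          exact hq' ψ c ((badX_point_iff i hi (chartX i j₁) le_rfl ψ _ _ (by rw [← hψ, ptOf_apply])).mp hc1)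
        · exact fun e => hq ((Finset.sum_congr rfl fun l _ => congrArg (· * _)
            (evalPt_appLE_char p₁ z (chartX i j₁) U inf_le_left hzU φ hφ (q l)).symm).trans e)
    let L : (Fin N → Γ(T, U)) → (Fin N → Fin (N + N)) → MvPolynomial (Fin (N + N)) Γ(T, U) := fun q f =>
      ∑ l, MvPolynomial.C (q l) * MvPolynomial.X (f l)
    have hL : ∀ q f y (hy : y (closedPoint k) ∈ U) v,
        MvPolynomial.eval v (MvPolynomial.map (evalPt y U hy) (L q f)) = ∑ l, evalPt y U hy (q l) * v (f l) :=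
      fun q f y hy v => by simp [L, map_sum]
    obtain ⟨q, hq, hq1⟩ := hex 1 0 (Or.inl one_ne_zero)
    obtain ⟨q', hq', hq2⟩ := hex (∑ l, evalPt z U hzU (q l) * cG v₀ l) (-(∑ l, evalPt z U hzU (q l) * cF v₀ l))
      (Or.inr (neg_ne_zero.mpr (fun e => hq1 (Eq.trans (Finset.sum_congr rfl fun l _ => by simp [cF, cG]) e))))
    have hlin : ∀ (a : Fin N → k) (s t : k) v, ∑ l, a l * (s • cF v + t • cG v) l =
        s * ∑ l, a l * v (Fin.castAdd N l) + t * ∑ l, a l * v (Fin.natAdd N l) := fun a s t v => by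
      rw [Finset.mul_sum, Finset.mul_sum, ← Finset.sum_add_distrib]
      refine Finset.sum_congr rfl fun l _ => ?_
      simp only [Pi.add_apply, Pi.smul_apply, smul_eq_mul, cF, cG]
      ring
    refine ⟨U, hzU, L q (Fin.castAdd N) * L q' (Fin.natAdd N) - L q' (Fin.castAdd N) * L q (Fin.natAdd N), ?_, ?_⟩
    · rw [map_sub, map_sub, map_mul, map_mul, map_mul, map_mul, hL, hL, hL, hL]
      intro h0
      refine hq2 ?_
      rw [hlin]
      simp only [cF, cG]
      linear_combination -h0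
    · rintro y v hys hy ⟨s, t, hst, hb1, hb2, -⟩
      rw [hcomb] at hb1 hb2
      have e1 := hq y hy hys _ hb1 hb2
      have e2 := hq' y hy hys _ hb1 hb2
      rw [hlin] at e1 e2
      rw [map_sub, map_sub, map_mul, map_mul, map_mul, map_mul, hL, hL, hL, hL]
      rcases hst with hs | ht
      · refine (mul_eq_zero.mp ?_).resolve_left hs
        linear_combination (∑ l, evalPt y U hy (q' l) * v (Fin.natAdd N l)) * e1 -
          (∑ l, evalPt y U hy (q l) * v (Fin.natAdd N l)) * e2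
      · refine (mul_eq_zero.mp ?_).resolve_left ht
        linear_combination (∑ l, evalPt y U hy (q l) * v (Fin.castAdd N l)) * e2 -
          (∑ l, evalPt y U hy (q' l) * v (Fin.castAdd N l)) * e1
  -- one member singular at both, hence at one point and nondegenerately
  obtain ⟨s₀, t₀, hst₀, hb1, hb2⟩ := hA
  obtain ⟨hn, huniq⟩ := hmem s₀ t₀ hst₀ _ hc1 hb1
  have h12 := huniq _ hc2 hb2
  obtain ⟨j, hj⟩ := exists_chart_mem i ((z ≫ p₁) (closedPoint k))
  obtain ⟨V, hV, φ, hφ, ⟨F⟩⟩ := exists_frame_nhd i hi (m := m) _ hc1 j hj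
  haveI : Algebra.Smooth k Γ(X, V.1) := smooth_constHom V
  have hφp : ∀ w : Spec (CommRingCat.of k) ⟶ X, w ≫ (X ↘ Spec (CommRingCat.of k)) = 𝟙 _ →
      w (closedPoint k) = (z ≫ p₁) (closedPoint k) → ptOf V φ = w := by
    intro w hw hwe
    obtain ⟨φ', hφ'⟩ := exists_ptOf V w hw (by rw [hwe, hφ]; exact point_mem V φ)
    have e : pk φ' = pk φ := congrArg PrimeSpectrum.asIdeal (V.2.fromSpec.isOpenEmbedding.injective
      (((ptOf_apply V φ' (closedPoint k)).symm.trans (by rw [hφ', hwe])).trans hφ))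
    rw [← hφ']
    congr 1
    ext x
    have h1 : x - algebraMap k _ (φ' x) ∈ pk φ' := by simp [RingHom.mem_ker]
    rw [e] at h1
    exact sub_eq_zero.mp (by simpa [RingHom.mem_ker] using h1)
  have hφ1 := hφp _ (hsec1 z hz) rfl
  have hφ2 := hφp _ (hsec2 z hz) h12
  -- a functional not vanishing on both
  obtain ⟨q, hq0, hq⟩ : ∃ q : Fin N → Γ(X, V.1),
      ((∑ l, φ (q l) * cF v₀ l) ≠ 0 ∨ (∑ l, φ (q l) * cG v₀ l) ≠ 0) ∧
      ∀ (ψ : Γ(X, V.1) →ₐ[k] k) (c : Fin N → k), evOn i V hV (b.equivFun.symm c) ∈ pk ψ ^ 2 →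
        ∑ l, ψ (q l) * c l = 0 := by
    by_cases hf : evOn i V hV (b.equivFun.symm (cF v₀)) ∈ pk φ ^ 2
    · by_cases hg : evOn i V hV (b.equivFun.symm (cG v₀)) ∈ pk φ ^ 2
      · refine absurd ?_ hbase
        refine badBase_iff_point i hi (m := m) V hV φ (fstF b v₀) (sndF b v₀)
          (Ideal.pow_le_self two_ne_zero hf) (Ideal.pow_le_self two_ne_zero hg) (a := 1) (b := 0) (Or.inl one_ne_zero) ?_
        rw [one_smul, zero_smul, add_zero]
        exact hf
      · obtain ⟨q, h1, h2⟩ := exists_functional i hi (m := m) b V hV φ _ hg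
        exact ⟨q, Or.inr h1, h2⟩
    · obtain ⟨q, h1, h2⟩ := exists_functional i hi (m := m) b V hV φ _ hf
      exact ⟨q, Or.inl h1, h2⟩
  let R := MvPolynomial (Fin (N + N)) Γ(X, V.1)
  let L : (Fin N → Fin (N + N)) → R := fun f => ∑ l, MvPolynomial.C (q l) * MvPolynomial.X (f l)
  have hL : ∀ (ψ : Γ(X, V.1) →ₐ[k] k) f v,
      MvPolynomial.eval v (MvPolynomial.map ψ.toRingHom (L f)) = ∑ l, ψ (q l) * v (f l) :=
    fun ψ f v => by simp [L, map_sum]
  let E : Fin N → R := fun l => L (Fin.natAdd N) * MvPolynomial.X (Fin.castAdd N l) -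
    L (Fin.castAdd N) * MvPolynomial.X (Fin.natAdd N l)
  let g : Fin N → Γ(X, V.1) := fun l => evOn i V hV (b l)
  have hmember : ∀ (ψ : Γ(X, V.1) →ₐ[k] k) v, member g E ψ v = evOn i V hV
      ((∑ l, ψ (q l) * cG v l) • fstF b v + (-(∑ l, ψ (q l) * cF v l)) • sndF b v) := by
    intro ψ v
    rw [hcomb, ← sum_evOn_symm i b V hV]
    refine Finset.sum_congr rfl fun l _ => ?_
    congr 1
    simp only [E, map_sub, map_mul, hL, MvPolynomial.map_X, MvPolynomial.eval_X, Pi.add_apply, Pi.smul_apply,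
      smul_eq_mul, cF, cG]
    ring
  have hcanon : ∀ (ψ : Γ(X, V.1) →ₐ[k] k) (v : Fin (N + N) → k) (s t : k), (s ≠ 0 ∨ t ≠ 0) →
      ((∑ l, ψ (q l) * cF v l) ≠ 0 ∨ (∑ l, ψ (q l) * cG v l) ≠ 0) →
      evOn i V hV (s • fstF b v + t • sndF b v) ∈ pk ψ ^ 2 →
      ∃ u : k, u ≠ 0 ∧ s • fstF b v + t • sndF b v = u •
        ((∑ l, ψ (q l) * cG v l) • fstF b v + (-(∑ l, ψ (q l) * cF v l)) • sndF b v) := by
    intro ψ v s t hst hpq hsq
    rw [hcomb] at hsq
    refine exists_scale _ _ hst hpq ?_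
    rw [← hq ψ _ hsq]
    simp only [Pi.add_apply, Pi.smul_apply, smul_eq_mul, Finset.mul_sum, ← Finset.sum_add_distrib]
    exact Finset.sum_congr rfl fun l _ => by ring
  obtain ⟨u₀, hu₀, he₀⟩ := hcanon φ v₀ s₀ t₀ hst₀ hq0 ((badX_point_iff i hi V hV φ _ _ hφ).mp hb1)
  rw [he₀, nondegX_smul i hi hu₀, nondegX_point_iff i hi V hV φ _ _ hφ, ← hmember] at hn
  obtain ⟨D, hD0, hD⟩ := exists_diag F g E φ v₀ hn
  obtain ⟨Ln, hLn0, hLn⟩ : ∃ Ln : R, MvPolynomial.eval v₀ (MvPolynomial.map φ.toRingHom Ln) ≠ 0 ∧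
      ∀ (ψ : Γ(X, V.1) →ₐ[k] k) v, MvPolynomial.eval v (MvPolynomial.map ψ.toRingHom Ln) ≠ 0 →
        ((∑ l, ψ (q l) * cF v l) ≠ 0 ∨ (∑ l, ψ (q l) * cG v l) ≠ 0) := by
    rcases hq0 with h | h
    · exact ⟨L (Fin.castAdd N), by rw [hL]; exact h, fun ψ v hv => Or.inl (by rw [hL] at hv; exact hv)⟩
    · exact ⟨L (Fin.natAdd N), by rw [hL]; exact h, fun ψ v hv => Or.inr (by rw [hL] at hv; exact hv)⟩
  let U : T.Opens := p₁ ⁻¹ᵁ V.1 ⊓ p₂ ⁻¹ᵁ V.1
  let lam : Γ(X, V.1) ⊗[k] Γ(X, V.1) →ₐ[k] Γ(T, U) := Algebra.TensorProduct.lift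
    (appLEₐ p₁ hp₁ V.1 U inf_le_left) (appLEₐ p₂ hp₂ V.1 U inf_le_right) fun _ _ => Commute.all _ _
  have hlam : ∀ (y : Spec (CommRingCat.of k) ⟶ T) (hy : y (closedPoint k) ∈ U) (ψ ψ' : Γ(X, V.1) →ₐ[k] k),
      ptOf V ψ = y ≫ p₁ → ptOf V ψ' = y ≫ p₂ → ∀ w, evalPt y U hy (lam w) = pairPt ψ ψ' w := by
    intro y hy ψ ψ' h1 h2 w
    induction w using TensorProduct.induction_on with
    | zero => simp
    | tmul a a' =>
      simp only [lam, pairPt, Algebra.TensorProduct.lift_tmul, map_mul]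
      exact congrArg₂ (· * ·) (evalPt_appLE_char p₁ y V U inf_le_left hy ψ h1 a)
        (evalPt_appLE_char p₂ y V U inf_le_right hy ψ' h2 a')
    | add x y hx hy => simp only [map_add, hx, hy]
  have hzU : z (closedPoint k) ∈ U := ⟨by show (z ≫ p₁) (closedPoint k) ∈ V.1; rw [← hφ1]; exact ptOf_mem V φ _,
    by show (z ≫ p₂) (closedPoint k) ∈ V.1; rw [← hφ2]; exact ptOf_mem V φ _⟩
  have heval : ∀ (y : Spec (CommRingCat.of k) ⟶ T) (hy : y (closedPoint k) ∈ U) (ψ ψ' : Γ(X, V.1) →ₐ[k] k),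
      ptOf V ψ = y ≫ p₁ → ptOf V ψ' = y ≫ p₂ → ∀ v,
      MvPolynomial.eval v (MvPolynomial.map (evalPt y U hy) (MvPolynomial.map lam.toRingHom
        (D * MvPolynomial.map (algebraMap Γ(X, V.1) (Γ(X, V.1) ⊗[k] Γ(X, V.1))) Ln))) =
      MvPolynomial.eval v (MvPolynomial.map (pairPt ψ ψ').toRingHom D) *
        MvPolynomial.eval v (MvPolynomial.map ψ.toRingHom Ln) := by
    intro y hy ψ ψ' h1 h2 v
    rw [MvPolynomial.map_map, show (evalPt y U hy).comp lam.toRingHom = (pairPt ψ ψ').toRingHom from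
      RingHom.ext (hlam y hy ψ ψ' h1 h2), map_mul, map_mul, MvPolynomial.map_map,
      show (pairPt ψ ψ').toRingHom.comp (algebraMap Γ(X, V.1) (Γ(X, V.1) ⊗[k] Γ(X, V.1))) = ψ.toRingHom from
        RingHom.ext fun x => by simp [pairPt, Algebra.TensorProduct.algebraMap_apply]]
  refine ⟨U, hzU, MvPolynomial.map lam.toRingHom
    (D * MvPolynomial.map (algebraMap Γ(X, V.1) (Γ(X, V.1) ⊗[k] Γ(X, V.1))) Ln), ?_, ?_⟩
  · rw [heval z hzU φ φ hφ1 hφ2]
    exact mul_ne_zero hD0 hLn0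
  · rintro y v hys hy ⟨s, t, hst, hb1', hb2', hdeg⟩
    obtain ⟨ψ, hψ⟩ := exists_ptOf V (y ≫ p₁) (hsec1 y hys) hy.1
    obtain ⟨ψ', hψ'⟩ := exists_ptOf V (y ≫ p₂) (hsec2 y hys) hy.2
    rw [heval y hy ψ ψ' hψ hψ']
    by_contra hne
    rw [← ne_eq, mul_ne_zero_iff] at hne
    have he1 : (y ≫ p₁) (closedPoint k) = V.2.fromSpec ⟨pk ψ, (pk_isMaximal ψ).isPrime⟩ := by rw [← hψ, ptOf_apply]
    have he2 : (y ≫ p₂) (closedPoint k) = V.2.fromSpec ⟨pk ψ', (pk_isMaximal ψ').isPrime⟩ := by rw [← hψ', ptOf_apply]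
    obtain ⟨u, hu, he⟩ := hcanon ψ v s t hst (hLn ψ v hne.2) ((badX_point_iff i hi V hV ψ _ _ he1).mp hb1')
    change BadX i ((y ≫ p₁) (closedPoint k)) _ at hb1'
    change BadX i ((y ≫ p₂) (closedPoint k)) _ at hb2'
    change (y ≫ p₁) (closedPoint k) = (y ≫ p₂) (closedPoint k) → ¬ NondegX i ((y ≫ p₁) (closedPoint k)) _ at hdeg
    rw [he, badX_smul i hi hu, badX_point_iff i hi V hV ψ _ _ he1, ← hmember] at hb1'
    rw [he, badX_smul i hi hu, badX_point_iff i hi V hV ψ' _ _ he2, ← hmember] at hb2'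
    obtain ⟨rfl, hnd⟩ := hD ψ ψ' v hne.1 hb1' hb2'
    refine hdeg (he1.trans he2.symm) ?_
    rw [he, nondegX_smul i hi hu, nondegX_point_iff i hi V hV ψ' _ _ he1, ← hmember]
    exact ⟨hb1', hnd⟩

end GrothLib.OrdQuad12
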