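import Groth.Agent.Lib.OrdQuad12.Stalk
import Groth.Agent.Lib.OrdQuad12.Completion
import Groth.Agent.Lib.OrdQuad12.NondegQuad
import Groth.Agent.Lib.DualVar12.Main
import Groth.Agent.Lib.BlowUp.StalkIdeal

/-!
# Sections with one ordinary quadratic singularity, in terms of jets
-/

set_option autoImplicit false
set_option linter.all false
set_option maxHeartbeats 1000000
set_option backward.isDefEq.respectTransparency false
set_option backward.isDefEq.respectTransparency.types false
universe u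

open CategoryTheory CategoryTheory.Limits AlgebraicGeometry TopologicalSpace IsLocalRing

noncomputable section

namespace GrothLib.OrdQuad12

open GrothLib.DualVar12 GrothLib.Jets

attribute [local instance] constAlgebra

variable {k : Type u} [Field k]

section General

variable {Y : Scheme.{u}}

theorem bijective_to_stalk_spec (a : Spec (CommRingCat.of k)) :
    Function.Bijective ((Scheme.ΓSpecIso (CommRingCat.of k)).inv ≫
      (Spec (CommRingCat.of k)).presheaf.germ ⊤ a trivial) := by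
  let S := (Spec (CommRingCat.of k)).presheaf.stalk a
  let A := Γ(Spec (CommRingCat.of k), ⊤)
  letI : Algebra A S := TopCat.Presheaf.algebra_section_stalk _ (⟨a, trivial⟩ : (⊤ : (Spec (CommRingCat.of k)).Opens))
  haveI := (isAffineOpen_top (Spec (CommRingCat.of k))).isLocalization_stalk ⟨a, trivial⟩
  have hb : Function.Bijective (Scheme.ΓSpecIso (CommRingCat.of k)).inv :=
    ConcreteCategory.bijective_of_isIso _
  have hu : ((isAffineOpen_top (Spec (CommRingCat.of k))).primeIdealOf ⟨a, trivial⟩).asIdeal.primeCompl ≤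
      IsUnit.submonoid A := by
    intro x hx
    obtain ⟨c, rfl⟩ := hb.2 x
    have hc : c ≠ 0 := fun e => hx (by rw [e, map_zero]; exact zero_mem _)
    exact (isUnit_iff_ne_zero.mpr hc).map _
  exact (IsLocalization.atUnits A _ hu (S := S)).bijective.comp hb

theorem toStalk_eq (g : Y ⟶ Spec (CommRingCat.of k)) (y : Y) :
    LefPen.toStalk k g y = (g.stalkMap y).hom.comp ((Scheme.ΓSpecIso (CommRingCat.of k)).inv ≫
      (Spec (CommRingCat.of k)).presheaf.germ ⊤ (g y) trivial).hom := by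
  ext c
  show _ = (g.stalkMap y).hom ((Spec (CommRingCat.of k)).presheaf.germ ⊤ (g y) trivial _)
  erw [Scheme.Hom.germ_stalkMap_apply]
  rfl

/-- Smoothness over the base field is formal smoothness of the local ring. -/
theorem smoothAt_iff (g : Y ⟶ Spec (CommRingCat.of k)) (y : Y) :
    LefPen.SmoothAt g y ↔ (LefPen.toStalk k g y).FormallySmooth := by
  let e := RingEquiv.ofBijective _ (bijective_to_stalk_spec (k := k) (g y))
  rw [toStalk_eq]
  show (g.stalkMap y).hom.FormallySmooth ↔ _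
  constructor
  · exact RingHom.FormallySmooth.respectsIso.2 _ e
  · intro hf
    have := RingHom.FormallySmooth.respectsIso.2 _ e.symm hf
    convert this using 1
    ext x
    show _ = (g.stalkMap y).hom (e (e.symm x))
    rw [e.apply_symm_apply]

theorem toStalk_comp {Z : Scheme.{u}} (f : Z ⟶ Y) (g : Y ⟶ Spec (CommRingCat.of k)) (z : Z) :
    LefPen.toStalk k (f ≫ g) z = (f.stalkMap z).hom.comp (LefPen.toStalk k g (f z)) := by
  rw [toStalk_eq, toStalk_eq, Scheme.Hom.stalkMap_comp]
  rfl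

variable [Y.Over (Spec (CommRingCat.of k))]

theorem germ_constHom (U : Y.Opens) (y : Y) (hy : y ∈ U) (c : k) :
    (Y.presheaf.germ U y hy).hom (constHom (k := k) U c) = LefPen.toStalk k (Y ↘ Spec (CommRingCat.of k)) y c := by
  exact TopCat.Presheaf.germ_res_apply Y.presheaf (homOfLE le_top) y hy _

theorem exists_char_of_closed (U : Y.affineOpens) [Algebra.FiniteType k Γ(Y, U.1)] [IsAlgClosed k] (y : Y)
    (hy : IsClosed ({y} : Set Y)) (hU : y ∈ U.1) :
    ∃ φ : Γ(Y, U.1) →ₐ[k] k, y = U.2.fromSpec ⟨pk φ, (pk_isMaximal φ).isPrime⟩ := by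
  let p := U.2.primeIdealOf ⟨y, hU⟩
  have hp : U.2.fromSpec p = y := U.2.fromSpec_primeIdealOf ⟨y, hU⟩
  have hcl : IsClosed ({p} : Set (Spec Γ(Y, U.1))) := by
    have e : U.2.fromSpec ⁻¹' {y} = {p} := by
      ext q
      simp only [Set.mem_preimage, Set.mem_singleton_iff]
      exact ⟨fun h => U.2.fromSpec.isOpenEmbedding.injective (h.trans hp.symm), fun h => h ▸ hp⟩
    exact e ▸ hy.preimage U.2.fromSpec.continuous
  haveI := (PrimeSpectrum.isClosed_singleton_iff_isMaximal _).mp hcl
  obtain ⟨φ, hφ⟩ := exists_point (k := k) p.asIdeal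
  refine ⟨φ, hp.symm.trans (congrArg _ (PrimeSpectrum.ext ?_))⟩
  exact hφ.symm

theorem isClosed_point [LocallyOfFiniteType (Y ↘ Spec (CommRingCat.of k))] (U : Y.affineOpens)
    (φ : Γ(Y, U.1) →ₐ[k] k) : IsClosed ({U.2.fromSpec ⟨pk φ, (pk_isMaximal φ).isPrime⟩} : Set Y) := by
  haveI : JacobsonSpace Y := LocallyOfFiniteType.jacobsonSpace (Y ↘ Spec (CommRingCat.of k))
  refine isClosed_singleton_of_isLocallyClosed_singleton ?_
  have h1 : IsClosed ({⟨pk φ, (pk_isMaximal φ).isPrime⟩} : Set (Spec Γ(Y, U.1))) :=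
    (PrimeSpectrum.isClosed_singleton_iff_isMaximal _).mpr (pk_isMaximal φ)
  have h2 := (h1.isLocallyClosed).image U.2.fromSpec.isOpenEmbedding.isInducing
    (U.2.fromSpec.isOpenEmbedding.isOpen_range.isLocallyClosed)
  rwa [Set.image_singleton] at h2

end General

variable [IsAlgClosed k] {r : ℕ} {X : Scheme.{u}} (i : X ⟶ CohB1.ProjSpace r k)
  [IsClosedImmersion i] [X.Over (Spec (CommRingCat.of k))]
  (hi : i ≫ CohB1.ProjSpace.toSpec r k = X ↘ Spec (CommRingCat.of k))

/-- Singular points of the section. -/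
def BadX (x : X) {d : ℕ} (H : LefPen.Form r k d) : Prop := ∃ j, BadAt i j x H

/-- Nondegenerate singular points of the section. -/
def NondegX (x : X) {d : ℕ} (H : LefPen.Form r k d) : Prop :=
  ∃ (j : Fin (r + 1)) (hx : x ∈ (chartX i j).1),
    NondegAt (maximalIdeal (X.presheaf.stalk x)) ((X.presheaf.germ (chartX i j).1 x hx).hom (ev i j H))

theorem NondegX.badX {x : X} {d : ℕ} {H : LefPen.Form r k d} (h : NondegX i x H) : BadX i x H :=
  let ⟨j, hx, h⟩ := h; ⟨j, hx, h.1⟩

theorem exists_chart_mem (x : X) : ∃ j, x ∈ (chartX i j).1 :=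
  let ⟨j, hj⟩ := Opens.mem_iSup.mp ((GrothLib.Ample.ProjMap.iSup_basicOpen_X r k).ge (Opens.mem_top (i x)))
  ⟨j, hj⟩

/-- The local equation on a smaller affine open. -/
abbrev evOn {j : Fin (r + 1)} (V : X.affineOpens) (hV : V.1 ≤ (chartX i j).1) {d : ℕ} (H : LefPen.Form r k d) :
    Γ(X, V.1) :=
  (X.presheaf.map (homOfLE hV).op).hom (ev i j H)

include hi in
theorem secIdeal_evOn {j : Fin (r + 1)} (V : X.affineOpens) (hV : V.1 ≤ (chartX i j).1) {d : ℕ}
    (H : LefPen.Form r k d) :
    (LefPen.secIdeal i ({H} : Set (LefPen.Form r k d))).ideal V = Ideal.span {evOn i V hV H} := by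
  have e1 := (LefPen.secIdeal i ({H} : Set (LefPen.Form r k d))).map_ideal (U := V) (V := chartX i j) hV
  rw [FormBertini12.secIdeal_chart i hi H, Ideal.map_span, Set.image_singleton] at e1
  exact e1.symm

include hi in
theorem germ_dvd {j j' : Fin (r + 1)} {x : X} (hx : x ∈ (chartX i j).1) (hx' : x ∈ (chartX i j').1) {d : ℕ}
    (H : LefPen.Form r k d) :
    (X.presheaf.germ (chartX i j).1 x hx).hom (ev i j H) ∣ (X.presheaf.germ (chartX i j').1 x hx').hom (ev i j' H) := by
  obtain ⟨V, hxV, hV⟩ := GrothLib.BlowUp.exists_affine_mem_le (W := (chartX i j).1 ⊓ (chartX i j').1) (x := x) ⟨hx, hx'⟩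
  have h1 : V.1 ≤ (chartX i j).1 := hV.trans inf_le_left
  have h2 : V.1 ≤ (chartX i j').1 := hV.trans inf_le_right
  have := (secIdeal_evOn i hi V h1 H).symm.trans (secIdeal_evOn i hi V h2 H)
  obtain ⟨a, ha⟩ := Ideal.mem_span_singleton'.mp (this.ge (Ideal.mem_span_singleton_self _))
  refine ⟨(X.presheaf.germ V.1 x hxV).hom a, ?_⟩
  have h3 := congrArg (X.presheaf.germ V.1 x hxV).hom ha
  rw [map_mul, TopCat.Presheaf.germ_res_apply, TopCat.Presheaf.germ_res_apply] at h3
  rw [← h3, mul_comm]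

include hi in
theorem badX_iff {j : Fin (r + 1)} {x : X} (hx : x ∈ (chartX i j).1) {d : ℕ} (H : LefPen.Form r k d) :
    BadX i x H ↔ (X.presheaf.germ (chartX i j).1 x hx).hom (ev i j H) ∈ maximalIdeal (X.presheaf.stalk x) ^ 2 := by
  refine ⟨fun ⟨j', h⟩ => ?_, fun h => ⟨j, hx, h⟩⟩
  exact (badAt_congr i hi j' j x H hx h).choose_spec

include hi in
theorem nondegX_iff {j : Fin (r + 1)} {x : X} (hx : x ∈ (chartX i j).1) {d : ℕ} (H : LefPen.Form r k d) :
    NondegX i x H ↔
      NondegAt (maximalIdeal (X.presheaf.stalk x)) ((X.presheaf.germ (chartX i j).1 x hx).hom (ev i j H)) :=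
  ⟨fun ⟨_, hx', h⟩ => h.of_dvd (germ_dvd i hi hx' hx H) (germ_dvd i hi hx hx' H), fun h => ⟨j, hx, h⟩⟩

section AtPoint

variable {j : Fin (r + 1)} (V : X.affineOpens) (hV : V.1 ≤ (chartX i j).1) (φ : Γ(X, V.1) →ₐ[k] k)
  {d : ℕ} (H : LefPen.Form r k d)

theorem point_mem : V.2.fromSpec ⟨pk φ, (pk_isMaximal φ).isPrime⟩ ∈ V.1 := by
  have h1 : V.2.fromSpec ⟨pk φ, (pk_isMaximal φ).isPrime⟩ ∈ Set.range V.2.fromSpec := ⟨_, rfl⟩
  rwa [V.2.range_fromSpec] at h1

theorem germ_evOn (x : X) (hx : x ∈ V.1) :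
    (X.presheaf.germ V.1 x hx).hom (evOn i V hV H) = (X.presheaf.germ (chartX i j).1 x (hV hx)).hom (ev i j H) :=
  TopCat.Presheaf.germ_res_apply X.presheaf (homOfLE hV) x hx _

include hi in
theorem badX_point_iff (x : X) (hxe : x = V.2.fromSpec ⟨pk φ, (pk_isMaximal φ).isPrime⟩) :
    BadX i x H ↔ evOn i V hV H ∈ pk φ ^ 2 := by
  subst hxe
  haveI := pk_isMaximal φ
  have hmem := point_mem V φ
  rw [badX_iff i hi (hV hmem) H, ← germ_evOn i V hV H _ hmem, germ_mem_sq_iff' V φ _ rfl]

include hi in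
theorem nondegX_point_iff (x : X) (hxe : x = V.2.fromSpec ⟨pk φ, (pk_isMaximal φ).isPrime⟩) :
    NondegX i x H ↔ NondegAt (pk φ) (evOn i V hV H) := by
  subst hxe
  haveI := pk_isMaximal φ
  have hmem := point_mem V φ
  rw [nondegX_iff i hi (hV hmem) H, ← germ_evOn i V hV H _ hmem]
  let S := X.presheaf.stalk (V.2.fromSpec ⟨pk φ, (pk_isMaximal φ).isPrime⟩)
  letI : Algebra Γ(X, V.1) S := TopCat.Presheaf.algebra_section_stalk X.presheaf ⟨_, hmem⟩
  haveI : IsLocalization.AtPrime S (pk φ) := V.2.isLocalization_stalk' ⟨pk φ, (pk_isMaximal φ).isPrime⟩ hmem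
  exact nondegAt_map (algebraMap Γ(X, V.1) S) (pk φ) (maximalIdeal S) (mem_pow_atPrime S (pk φ))
    (surj_atPrime S (pk φ)) _

end AtPoint

variable [IsIntegral X] {m : ℕ} [SmoothOfRelativeDimension (m + 1) (X ↘ Spec (CommRingCat.of k))]

include hi in
/-- Frames exist around every closed point. -/
theorem exists_frame_nhd (x : X) (hx : IsClosed ({x} : Set X)) (j : Fin (r + 1)) (hj : x ∈ (chartX i j).1) :
    ∃ (V : X.affineOpens) (_ : V.1 ≤ (chartX i j).1) (φ : Γ(X, V.1) →ₐ[k] k),
      x = V.2.fromSpec ⟨pk φ, (pk_isMaximal φ).isPrime⟩ ∧ Nonempty (Frame k Γ(X, V.1) (m + 1)) := by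
  haveI : Smooth (X ↘ Spec (CommRingCat.of k)) := SmoothOfRelativeDimension.smooth (m + 1) _
  haveI : Algebra.Smooth k Γ(X, (chartX i j).1) := smooth_constHom (chartX i j)
  obtain ⟨φ, hφ⟩ := exists_char_of_closed (k := k) (chartX i j) x hx hj
  obtain ⟨t, ht, hb⟩ := exists_exact_basis (k := k) (m + 1) (rank_chart i (n := m + 1) j) φ
  let V : X.affineOpens := ⟨X.basicOpen t, (chartX i j).2.basicOpen t⟩
  have hle : V.1 ≤ (chartX i j).1 := X.basicOpen_le t
  letI : Algebra Γ(X, (chartX i j).1) Γ(X, V.1) := ((X.presheaf.map (homOfLE hle).op).hom).toAlgebra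
  haveI : IsLocalization.Away t Γ(X, V.1) := (chartX i j).2.isLocalization_basicOpen t
  haveI : IsScalarTower k Γ(X, (chartX i j).1) Γ(X, V.1) := IsScalarTower.of_algebraMap_eq fun c => by
    exact (congrArg (fun f => f.hom (Coh.toGlobal (X ↘ Spec (CommRingCat.of k)) c))
      (X.presheaf.map_comp (homOfLE le_top).op (homOfLE hle).op))
  haveI : Algebra.Smooth k Γ(X, V.1) := smooth_constHom V
  obtain ⟨u, e, he⟩ := hb Γ(X, V.1)
  have hxV : x ∈ V.1 := by
    rw [hφ]
    show (⟨pk φ, _⟩ : PrimeSpectrum Γ(X, (chartX i j).1)) ∈ (chartX i j).2.fromSpec ⁻¹ᵁ X.basicOpen t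
    rw [(chartX i j).2.fromSpec_preimage_basicOpen]
    exact ht
  obtain ⟨φ', hφ'⟩ := exists_char_of_closed (k := k) V x hx hxV
  exact ⟨V, hle, φ', hφ', exists_frame u e he⟩

theorem ne_zero_of_nondeg {B : Type u} [CommRing B] [Algebra k B] (F : Frame k B (m + 1)) (φ : B →ₐ[k] k) {h : B}
    (hh : NondegAt (pk φ) h) : h ≠ 0 := by
  intro e
  refine hh.2 ⟨pk φ ^ 2, le_rfl, lt_of_le_of_ne (Ideal.pow_le_self two_ne_zero) fun e2 => ?_, ?_⟩
  · have h1 : uc F φ 0 ∈ pk φ ^ 2 := e2.symm ▸ sub_mem_pk φ _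
    have := ((mem_sq_iff F φ _).mp h1).2 0
    rw [g_uc, if_pos rfl, map_one] at this
    exact one_ne_zero this
  · rw [e]; exact zero_mem _

include hi in
/-- The local structure of a section at a closed point. -/
theorem sec_point {d : ℕ} (H : LefPen.Form r k d) (y : LefPen.Sec i ({H} : Set (LefPen.Form r k d)))
    (x : X) (hyx : LefPen.secι i ({H} : Set (LefPen.Form r k d)) y = x) (hx : IsClosed ({x} : Set X))
    (j : Fin (r + 1)) (hj : x ∈ (chartX i j).1) :
    (X.presheaf.germ (chartX i j).1 x hj).hom (ev i j H) ∈ maximalIdeal (X.presheaf.stalk x) ∧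
    (LefPen.SmoothAt (LefPen.secToSpec i ({H} : Set (LefPen.Form r k d))) y ↔
      ((X.presheaf.germ (chartX i j).1 x hj).hom (ev i j H) = 0 ∨ ¬ BadX i x H)) ∧
    (LefPen.IsOrdQuadSing k m (LefPen.secToSpec i ({H} : Set (LefPen.Form r k d))) y ↔ NondegX i x H) := by
  classical
  subst hyx
  haveI : Smooth (X ↘ Spec (CommRingCat.of k)) := SmoothOfRelativeDimension.smooth (m + 1) _
  let I := LefPen.secIdeal i ({H} : Set (LefPen.Form r k d))
  obtain ⟨V, hV, φ, hφ, ⟨F⟩⟩ := exists_frame_nhd i hi (m := m) _ hx j hj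
  haveI := pk_isMaximal φ
  have hxV : I.subschemeι y ∈ V.1 := hφ.symm ▸ point_mem V φ
  haveI hsm : Algebra.Smooth k Γ(X, V.1) := smooth_constHom V
  haveI : Algebra.FiniteType k Γ(X, V.1) := inferInstance
  haveI : IsNoetherianRing Γ(X, V.1) := Algebra.FiniteType.isNoetherianRing k _
  let S := X.presheaf.stalk (I.subschemeι y)
  letI algS : Algebra Γ(X, V.1) S := TopCat.Presheaf.algebra_section_stalk X.presheaf ⟨_, hxV⟩
  have hloc : IsLocalization.AtPrime S (pk φ) := by
    have h := V.2.isLocalization_stalk ⟨_, hxV⟩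
    have e : V.2.primeIdealOf ⟨_, hxV⟩ = ⟨pk φ, (pk_isMaximal φ).isPrime⟩ :=
      V.2.fromSpec.isOpenEmbedding.injective ((V.2.fromSpec_primeIdealOf _).trans hφ)
    rw [e] at h
    exact h
  letI : Algebra k S := (LefPen.toStalk k (X ↘ Spec (CommRingCat.of k)) (I.subschemeι y)).toAlgebra
  haveI : IsScalarTower k Γ(X, V.1) S := IsScalarTower.of_algebraMap_eq fun c =>
    (germ_constHom V.1 _ hxV c).symm
  haveI : Algebra.FormallyEtale Γ(X, V.1) S := Algebra.FormallyEtale.of_isLocalization (pk φ).primeCompl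
  haveI : Algebra.FormallySmooth k S := Algebra.FormallySmooth.comp k Γ(X, V.1) S
  obtain ⟨φS, -⟩ := exists_char S φ
  let h := evOn i V hV H
  let q := (I.subschemeι.stalkMap y).hom
  have hq : Function.Surjective q := GrothLib.BlowUp.surjective_stalkMap_subschemeι I y
  have hker : RingHom.ker q = Ideal.span {algebraMap Γ(X, V.1) S h} := by
    rw [GrothLib.BlowUp.ker_stalkMap_subschemeι I y V hxV, secIdeal_evOn i hi V hV H, Ideal.map_span,
      Set.image_singleton]
    rfl
  have hg : algebraMap Γ(X, V.1) S h = (X.presheaf.germ (chartX i j).1 _ hj).hom (ev i j H) :=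
    germ_evOn i V hV H _ hxV
  have hts : LefPen.toStalk k (LefPen.secToSpec i ({H} : Set (LefPen.Form r k d))) y =
      q.comp (algebraMap k S) := by
    have e : LefPen.secToSpec i ({H} : Set (LefPen.Form r k d)) = I.subschemeι ≫ (X ↘ Spec (CommRingCat.of k)) := by
      rw [← hi]
    rw [e, toStalk_comp]
    rfl
  haveI : Nontrivial ((LefPen.Sec i ({H} : Set (LefPen.Form r k d))).presheaf.stalk y) := inferInstance
  have hm1 : algebraMap Γ(X, V.1) S h ∈ maximalIdeal S := by
    have : algebraMap Γ(X, V.1) S h ∈ RingHom.ker q := hker ▸ Ideal.mem_span_singleton_self _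
    exact le_maximalIdeal (RingHom.ker_ne_top q) this
  refine ⟨hg ▸ hm1, ?_, ?_⟩
  · rw [smoothAt_iff, hts, formallySmooth_comp_iff φS q hq hker hm1, hg, badX_iff i hi hj H]
  · haveI : IsLocalRing ((LefPen.Sec i ({H} : Set (LefPen.Form r k d))).presheaf.stalk y) := inferInstance
    haveI : IsNoetherianRing S := IsLocalization.isNoetherianRing (pk φ).primeCompl S inferInstance
    haveI : IsNoetherianRing ((LefPen.Sec i ({H} : Set (LefPen.Form r k d))).presheaf.stalk y) :=
      isNoetherianRing_of_surjective S _ q hq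
    obtain ⟨h0, hmap, hsurj, hker'⟩ := quotient_local_hyps S (pk φ) h q hq hker
    have hc : ∀ c : k, LefPen.toStalk k (LefPen.secToSpec i ({H} : Set (LefPen.Form r k d))) y c =
        (q.comp (algebraMap Γ(X, V.1) S)) (algebraMap k Γ(X, V.1) c) := fun c => by
      rw [hts, RingHom.comp_apply, RingHom.comp_apply, ← IsScalarTower.algebraMap_apply]
    rw [nondegX_point_iff i hi V hV φ H _ hφ]
    constructor
    · rintro ⟨-, Q, Q₂, e, he, hQ, hpart, hnd⟩
      have hQ2 : Q ∈ maximalIdeal (MvPowerSeries (Fin (m + 1)) k) ^ 2 := mem_pow_iff.mpr hQ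
      rw [nondegQuad_iff] at hnd
      have htri : triC Q = triC (Q₂.1 : MvPowerSeries (Fin (m + 1)) k) := by
        funext a b
        simp only [triC]
        split
        · rw [MvPolynomial.coeff_coe, hpart _ (by simp)]
        · rfl
      refine nondeg_of_series F φ (q.comp (algebraMap Γ(X, V.1) S)) h hker' (by omega) ?_ hsurj
        (fun b hb => hmap ▸ Ideal.mem_map_of_mem _ hb) h0 Q e (fun c => by rw [← hc]; exact he c) hQ2 (htri ▸ hnd)
      have := (mem_pow_atPrime S (pk φ) 1 h).mp (by simpa using hm1)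
      simpa using this
    · intro hnd
      obtain ⟨Q, e, he, hQ2, hQn⟩ :=
        exists_series_of_nondeg F φ (q.comp (algebraMap Γ(X, V.1) S)) h h0 hmap hsurj hker' hnd
      refine ⟨?_, Q, ⟨quadPoly (triC Q), (MvPolynomial.mem_homogeneousSubmodule 2 _).mpr (quadPoly_mem _)⟩, e,
        fun c => by rw [hc]; exact he c, mem_pow_iff.mp hQ2, fun e he => coeff_quadPoly_triC Q he, ?_⟩
      · have : ({y} : Set (LefPen.Sec i ({H} : Set (LefPen.Form r k d)))) = I.subschemeι ⁻¹' {I.subschemeι y} := by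
          ext z
          simp only [Set.mem_singleton_iff, Set.mem_preimage]
          exact ⟨fun e => e ▸ rfl, fun e => I.subschemeι.isClosedEmbedding.injective e⟩
        rw [this]
        exact hx.preimage I.subschemeι.continuous
      · rw [nondegQuad_iff]
        convert hQn using 2
        funext a b
        simp only [triC]
        split
        · rw [MvPolynomial.coeff_coe, coeff_quadPoly_triC Q (by simp)]
        · rfl

include hi in
/-- One ordinary quadratic singularity, in terms of jets. -/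
theorem oneOrdQuad_iff {d : ℕ} (H : LefPen.Form r k d) :
    LefPen.OneOrdQuad k (m + 1) i H ↔
      (∃ x : X, IsClosed ({x} : Set X) ∧ BadX i x H) ∧
      ∀ x : X, IsClosed ({x} : Set X) → BadX i x H →
        NondegX i x H ∧ ∀ x' : X, IsClosed ({x'} : Set X) → BadX i x' H → x' = x := by
  classical
  haveI : Smooth (X ↘ Spec (CommRingCat.of k)) := SmoothOfRelativeDimension.smooth (m + 1) _
  let I := LefPen.secIdeal i ({H} : Set (LefPen.Form r k d))
  let g := LefPen.secToSpec i ({H} : Set (LefPen.Form r k d))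
  have hg : g = I.subschemeι ≫ (X ↘ Spec (CommRingCat.of k)) := by rw [← hi]
  haveI : LocallyOfFiniteType g := hg ▸ inferInstance
  haveI : LocallyOfFinitePresentation g := LocallyOfFinitePresentation.iff_locallyOfFiniteType.2 inferInstance
  haveI : JacobsonSpace (LefPen.Sec i ({H} : Set (LefPen.Form r k d))) := LocallyOfFiniteType.jacobsonSpace g
  have hlift : ∀ x : X, BadX i x H → ∃ y, I.subschemeι y = x := by
    rintro x ⟨j, hx, hb⟩
    have : x ∈ I.support := by
      rw [I.mem_support_iff_of_mem hx, Scheme.mem_zeroLocus_iff]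
      intro f hf hxf
      rw [Scheme.mem_basicOpen _ _ _ hx] at hxf
      rw [SetLike.mem_coe, FormBertini12.secIdeal_chart i hi H] at hf
      obtain ⟨c, rfl⟩ := Ideal.mem_span_singleton'.mp hf
      rw [map_mul] at hxf
      exact (notMem_maximalIdeal.mpr (isUnit_of_mul_isUnit_right hxf)) (Ideal.pow_le_self two_ne_zero hb)
    rwa [← SetLike.mem_coe, ← I.range_subschemeι] at this
  have hclosed : ∀ y, IsClosed ({y} : Set (LefPen.Sec i ({H} : Set (LefPen.Form r k d)))) →
      IsClosed ({I.subschemeι y} : Set X) := fun y hy => by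
    have := I.subschemeι.isClosedEmbedding.isClosedMap _ hy
    rwa [Set.image_singleton] at this
  have hpre : ∀ y, IsClosed ({I.subschemeι y} : Set X) →
      IsClosed ({y} : Set (LefPen.Sec i ({H} : Set (LefPen.Form r k d)))) := fun y hy => by
    convert hy.preimage I.subschemeι.continuous
    ext z
    simp only [Set.mem_singleton_iff, Set.mem_preimage]
    exact ⟨fun e => e ▸ rfl, fun e => I.subschemeι.isClosedEmbedding.injective e⟩
  have hne : ∀ x : X, IsClosed ({x} : Set X) → NondegX i x H → ∀ j (hj : x ∈ (chartX i j).1),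
      (X.presheaf.germ (chartX i j).1 x hj).hom (ev i j H) ≠ 0 := by
    intro x hx hn j hj e
    obtain ⟨V, hV, φ, hφ, ⟨F⟩⟩ := exists_frame_nhd i hi (m := m) x hx j hj
    have hxV : x ∈ V.1 := hφ.symm ▸ point_mem V φ
    haveI : Nonempty V.1 := ⟨⟨x, hxV⟩⟩
    refine ne_zero_of_nondeg F φ ((nondegX_point_iff i hi V hV φ H x hφ).mp hn) ?_
    rw [← germ_evOn i V hV H x hxV] at e
    exact (map_eq_zero_iff _ (germ_injective_of_isIntegral X x hxV)).mp e
  constructor
  · rintro ⟨y, hset, hsing⟩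
    have hyn : ¬ LefPen.SmoothAt g y := fun h => (hset.le h : y ∈ ({y}ᶜ : Set _)) rfl
    have hx := hclosed y hsing.1
    obtain ⟨j, hj⟩ := exists_chart_mem i (I.subschemeι y)
    obtain ⟨-, hs, ho⟩ := sec_point i hi (m := m) H y _ rfl hx j hj
    have hn := ho.mp hsing
    refine ⟨⟨_, hx, hn.badX⟩, fun x' hx' hb' => ?_⟩
    have huniq : ∀ x' : X, IsClosed ({x'} : Set X) → BadX i x' H → x' = I.subschemeι y := by
      intro x' hx' hb'
      obtain ⟨y', rfl⟩ := hlift x' hb'
      obtain ⟨j', hj'⟩ := exists_chart_mem i (I.subschemeι y')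
      obtain ⟨-, hs', -⟩ := sec_point i hi (m := m) H y' _ rfl hx' j' hj'
      by_contra hne'
      have hy' : y' ∈ ({y}ᶜ : Set _) := fun e => hne' (congrArg _ e)
      rcases hs'.mp (hset.ge hy') with h0 | h0
      swap
      · exact h0 hb'
      haveI : Nonempty (chartX i j').1 := ⟨⟨_, hj'⟩⟩
      haveI : Nonempty (chartX i j).1 := ⟨⟨_, hj⟩⟩
      have h1 : ev i j' H = 0 := (map_eq_zero_iff _ (germ_injective_of_isIntegral X _ hj')).mp h0
      obtain ⟨z, hz, hz'⟩ := nonempty_preirreducible_inter (chartX i j).1.2 (chartX i j').1.2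
        ⟨_, hj⟩ ⟨_, hj'⟩
      have h2 : (X.presheaf.germ (chartX i j).1 z hz).hom (ev i j H) = 0 := by
        have := germ_dvd i hi hz' hz H
        rw [h1, map_zero] at this
        exact zero_dvd_iff.mp this
      have h3 : ev i j H = 0 := (map_eq_zero_iff _ (germ_injective_of_isIntegral X _ hz)).mp h2
      exact hne _ hx hn j hj (by rw [h3, map_zero])
    obtain rfl := huniq x' hx' hb'
    exact ⟨hn, huniq⟩
  · rintro ⟨⟨x, hx, hb⟩, hall⟩
    obtain ⟨hn, huniq⟩ := hall x hx hb
    obtain ⟨y, rfl⟩ := hlift x hb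
    obtain ⟨j, hj⟩ := exists_chart_mem i (I.subschemeι y)
    obtain ⟨-, hs, ho⟩ := sec_point i hi (m := m) H y _ rfl hx j hj
    refine ⟨y, ?_, ho.mpr hn⟩
    have hyn : ¬ LefPen.SmoothAt g y := fun h => by
      rcases hs.mp h with h | h
      · exact hne _ hx hn j hj h
      · exact h hb
    have hcl : IsClosed {y' | ¬ LefPen.SmoothAt g y'} := g.isOpen_smoothLocus.isClosed_compl
    have hsub : {y' | ¬ LefPen.SmoothAt g y'} ∩ closedPoints (LefPen.Sec i ({H} : Set (LefPen.Form r k d))) ⊆ {y} := by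
      rintro y' ⟨hns, hy'⟩
      obtain ⟨j', hj'⟩ := exists_chart_mem i (I.subschemeι y')
      have hx' := hclosed y' hy'
      obtain ⟨-, hs', -⟩ := sec_point i hi (m := m) H y' _ rfl hx' j' hj'
      have hb' : BadX i (I.subschemeι y') H := by
        by_contra h
        exact hns (hs'.mpr (Or.inr h))
      exact I.subschemeι.isClosedEmbedding.injective (huniq _ hx' hb')
    have hall' : {y' | ¬ LefPen.SmoothAt g y'} = {y} := by
      refine subset_antisymm ?_ (Set.singleton_subset_iff.mpr hyn)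
      rw [← JacobsonSpace.closure_inter_closedPoints hcl]
      exact closure_minimal hsub (hpre y hx)
    ext y'
    have := Set.ext_iff.mp hall' y'
    simp only [Set.mem_setOf_eq, Set.mem_singleton_iff] at this
    simp only [Set.mem_setOf_eq, Set.mem_compl_iff, Set.mem_singleton_iff]
    rw [← this, not_not]

end GrothLib.OrdQuad12
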