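import Groth.Agent.Lib.OrdQuad12.Degen
import Groth.Agent.Lib.FanoLine.Independent

/-!
# Tangent forms at smooth points of a hypersurface containing all tangent forms

The gradient of an equation of the dual variety at the class of a tangent form is the evaluation at the point of
tangency, as soon as this holds generically; in that case the tangency is nondegenerate.
-/

set_option autoImplicit false
set_option linter.all false
set_option maxHeartbeats 1000000
universe u

open MvPolynomial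

noncomputable section

namespace GrothLib.OrdQuad12

open GrothLib.DualVar12 (pk pk_isMaximal eq_zero_of_points map_eq_zero_of_eval)

/-- Chain rule. -/
theorem derivation_aeval {k : Type u} [Field k] {B : Type u} [CommRing B] [Algebra k B] {N : ℕ}
    (D : Derivation k B B) (c : Fin N → B) (f : MvPolynomial (Fin N) k) :
    D (aeval c f) = ∑ l, aeval c (pderiv l f) * D (c l) := by
  induction f using MvPolynomial.induction_on with
  | C a => simp
  | add p q hp hq => simp only [map_add, hp, hq, add_mul, Finset.sum_add_distrib]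
  | mul_X p a hp =>
    rw [map_mul, aeval_X, Derivation.leibniz, hp, smul_eq_mul, smul_eq_mul, Finset.mul_sum]
    simp only [pderiv_mul, map_add, map_mul, aeval_X, add_mul, Finset.sum_add_distrib]
    rw [add_comm]
    congr 1
    · exact Finset.sum_congr rfl fun l _ => by ring
    · rw [Finset.sum_eq_single a (fun l _ hl => by rw [pderiv_X_of_ne hl.symm, map_zero, mul_zero, zero_mul])
        (fun h => absurd (Finset.mem_univ a) h), pderiv_X_self, map_one, mul_one]

theorem algHom_aeval {k : Type u} [Field k] {B : Type u} [CommRing B] [Algebra k B] {N : ℕ}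
    (ψ : B →ₐ[k] k) (c : Fin N → B) (f : MvPolynomial (Fin N) k) :
    ψ (aeval c f) = eval (fun l => ψ (c l)) f := by
  rw [← AlgHom.comp_apply, MvPolynomial.comp_aeval, aeval_eq_eval]

/-- The data of the tangent forms. -/
structure TangentData (k : Type u) [Field k] (B : Type u) [CommRing B] [Algebra k B] (n N : ℕ) where
  F : Frame k B n
  g : Fin N → B
  Mat : Fin N → Fin N → B
  f : MvPolynomial (Fin N) k
  hM1 : ∀ (ψ : B →ₐ[k] k) (c : Fin N → k), ∑ l, (∑ a, ψ (Mat l a) * c a) • g l ∈ pk ψ ^ 2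
  hM2 : ∀ (ψ : B →ₐ[k] k) (c : Fin N → k), ∑ l, c l • g l ∈ pk ψ ^ 2 → ∀ l, ∑ a, ψ (Mat l a) * c a = c l
  hj : ∀ (ψ : B →ₐ[k] k) (T : B), ∃ c : Fin N → k, T - ∑ l, c l • g l ∈ pk ψ ^ 2
  hf : ∀ (ψ : B →ₐ[k] k) (c : Fin N → k), ∑ l, c l • g l ∈ pk ψ ^ 2 → eval c f = 0

variable {k : Type u} [Field k] [IsAlgClosed k] {B : Type u} [CommRing B] [Algebra k B] [IsDomain B]
  [Algebra.Smooth k B] {n N : ℕ} (S : TangentData k B n N)

namespace TangentData

/-- The tangent form of parameters, as functions. -/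
def cl (s : Fin N → k) (l : Fin N) : B := ∑ a, s a • S.Mat l a

/-- The tangent forms, generically. -/
def cR (l : Fin N) : MvPolynomial (Fin N) B := ∑ a, C (S.Mat l a) * X a

/-- The Hessian. -/
def hess (ψ : B →ₐ[k] k) (c : Fin N → k) : Matrix (Fin n) (Fin n) k :=
  Matrix.of fun a b => ∑ l, c l * ψ (S.F.g a (S.F.g b (S.g l)))

/-- The Hessian, generically. -/
def hessR : Matrix (Fin n) (Fin n) (MvPolynomial (Fin N) B) :=
  Matrix.of fun a b => ∑ l, S.cR l * C (S.F.g a (S.F.g b (S.g l)))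

/-- The gradient. -/
def grad (c : Fin N → k) (l : Fin N) : k := eval c (pderiv l S.f)

omit [IsAlgClosed k] [IsDomain B] [Algebra.Smooth k B] in
theorem ψ_cl (ψ : B →ₐ[k] k) (s : Fin N → k) (l : Fin N) : ψ (S.cl s l) = ∑ a, ψ (S.Mat l a) * s a := by
  simp [cl, map_sum, map_smul, mul_comm]

omit [IsAlgClosed k] [IsDomain B] [Algebra.Smooth k B] in
theorem mem_cl (ψ : B →ₐ[k] k) (s : Fin N → k) : ∑ l, ψ (S.cl s l) • S.g l ∈ pk ψ ^ 2 := by
  simp only [ψ_cl]
  exact S.hM1 ψ s

omit [IsAlgClosed k] [IsDomain B] [Algebra.Smooth k B] in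
theorem cl_self (ψ : B →ₐ[k] k) (c : Fin N → k) (hc : ∑ l, c l • S.g l ∈ pk ψ ^ 2) :
    (fun l => ψ (S.cl c l)) = c := by
  funext l
  rw [ψ_cl]
  exact S.hM2 ψ c hc l

omit [IsAlgClosed k] [IsDomain B] [Algebra.Smooth k B] in
theorem eval_cR (ψ : B →ₐ[k] k) (s : Fin N → k) (l : Fin N) :
    eval s (map ψ.toRingHom (S.cR l)) = ψ (S.cl s l) := by
  simp [cR, ψ_cl, map_sum]

omit [IsAlgClosed k] [IsDomain B] [Algebra.Smooth k B] in
theorem eval_hessR (ψ : B →ₐ[k] k) (s : Fin N → k) :
    eval s (map ψ.toRingHom S.hessR.det) = (S.hess ψ fun l => ψ (S.cl s l)).det := by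
  rw [← RingHom.comp_apply, RingHom.map_det]
  congr 1
  ext a b
  simp [hessR, hess, map_sum, eval_cR, -MvPolynomial.eval_map, -AlgHom.toRingHom_eq_coe]
  rfl

omit [IsAlgClosed k] [IsDomain B] [Algebra.Smooth k B] in
theorem values_of_mem (ψ : B →ₐ[k] k) (c : Fin N → k) (hc : ∑ l, c l • S.g l ∈ pk ψ ^ 2) :
    ∑ l, c l * ψ (S.g l) = 0 ∧ ∀ b, ∑ l, c l * ψ (S.F.g b (S.g l)) = 0 := by
  refine ⟨?_, fun b => ?_⟩
  · have h : ψ (∑ l, c l • S.g l) = 0 := Ideal.pow_le_self two_ne_zero hc
    simpa [map_sum, map_smul] using h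
  · have h := deriv_apply_eq_zero S.F ψ b hc
    simpa [map_sum, map_smul, Derivation.map_smul] using h

/-- Differentiating the tangency along the base. -/
theorem sum_deriv (ψ : B →ₐ[k] k) (s : Fin N → k) (a : Fin n) :
    ∑ l, ψ (S.F.g a (S.cl s l)) * ψ (S.g l) = 0 ∧
    ∀ b, ∑ l, ψ (S.F.g a (S.cl s l)) * ψ (S.F.g b (S.g l)) = -S.hess ψ (fun l => ψ (S.cl s l)) a b := by
  have h0 : ∀ φ : B →ₐ[k] k, φ (∑ l, S.cl s l * S.g l) = 0 := fun φ => by
    rw [map_sum]
    simpa using (S.values_of_mem φ _ (S.mem_cl φ s)).1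
  have h1 : ∀ b (φ : B →ₐ[k] k), φ (∑ l, S.cl s l * S.F.g b (S.g l)) = 0 := fun b φ => by
    rw [map_sum]
    simpa using (S.values_of_mem φ _ (S.mem_cl φ s)).2 b
  have e0 := eq_zero_of_points (k := k) _ h0
  have e1 := fun b => eq_zero_of_points (k := k) _ (h1 b)
  refine ⟨?_, fun b => ?_⟩
  · have h := congrArg (fun x => ψ (S.F.g a x)) e0
    simp only [map_sum, map_zero, Derivation.leibniz, smul_eq_mul, map_add, map_mul, Finset.sum_add_distrib] at h
    rw [(S.values_of_mem ψ _ (S.mem_cl ψ s)).2 a, zero_add] at h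
    rw [← h]
    exact Finset.sum_congr rfl fun l _ => mul_comm _ _
  · have h := congrArg (fun x => ψ (S.F.g a x)) (e1 b)
    simp only [map_sum, map_zero, Derivation.leibniz, smul_eq_mul, map_add, map_mul, Finset.sum_add_distrib] at h
    rw [show S.hess ψ (fun l => ψ (S.cl s l)) a b = ∑ l, ψ (S.cl s l) * ψ (S.F.g a (S.F.g b (S.g l))) from rfl,
      eq_neg_iff_add_eq_zero, ← h, add_comm]
    congr 1
    exact Finset.sum_congr rfl fun l _ => mul_comm _ _

omit [IsDomain B] [Algebra.Smooth k B] in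
/-- The gradient kills the tangent forms. -/
theorem grad_mat (ψ : B →ₐ[k] k) (s : Fin N → k) (a : Fin N) :
    ∑ l, S.grad (fun l => ψ (S.cl s l)) l * ψ (S.Mat l a) = 0 := by
  haveI : Infinite k := IsAlgClosed.instInfinite
  let L : Fin N → MvPolynomial (Fin N) k := fun l => ∑ e, C (ψ (S.Mat l e)) * X e
  have hL : ∀ (s : Fin N → k) l, eval s (L l) = ψ (S.cl s l) := fun s l => by simp [L, ψ_cl, map_sum]
  have hcomp : ∀ (s : Fin N → k) p, eval s (aeval L p) = eval (fun l => ψ (S.cl s l)) p := fun s p => by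
    rw [← aeval_eq_eval, ← AlgHom.comp_apply, comp_aeval, aeval_eq_eval]
    simp only [aeval_eq_eval, hL]
  have hzero : aeval L S.f = 0 := MvPolynomial.funext fun t => by
    rw [hcomp, map_zero]
    exact S.hf ψ _ (S.mem_cl ψ t)
  have h := congrArg (fun p => eval s (pderiv a p)) hzero
  simp only [GrothLib.FanoLine.pderiv_aeval, map_zero, map_sum, map_mul, hcomp] at h
  rw [← h]
  refine Finset.sum_congr rfl fun l _ => ?_
  simp [L, grad, map_sum, pderiv_C_mul, pderiv_X, Pi.single_apply]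

/-- The gradient kills the motion of tangent forms along the base. -/
theorem grad_deriv (ψ : B →ₐ[k] k) (s : Fin N → k) (a : Fin n) :
    ∑ l, S.grad (fun l => ψ (S.cl s l)) l * ψ (S.F.g a (S.cl s l)) = 0 := by
  have e : aeval (S.cl s) S.f = (0 : B) := eq_zero_of_points (k := k) _ fun φ => by
    rw [algHom_aeval]
    exact S.hf φ _ (S.mem_cl φ s)
  have h := congrArg (fun x => ψ (S.F.g a x)) e
  simp only [derivation_aeval, map_sum, map_mul, map_zero, algHom_aeval] at h
  exact h

/-- The gradient at a tangent form is a functional on first jets killed by the Hessian. -/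
theorem grad_eq_jet (ψ : B →ₐ[k] k) (c : Fin N → k) (hc : ∑ l, c l • S.g l ∈ pk ψ ^ 2) :
    ∃ (z₀ : k) (z : Fin n → k), (∀ l, S.grad c l = z₀ * ψ (S.g l) + ∑ b, z b * ψ (S.F.g b (S.g l))) ∧
      (S.hess ψ c).mulVec z = 0 := by
  classical
  have hcl := S.cl_self ψ c hc
  have hkill : ∀ w : Fin N → k, ∑ l, w l • S.g l ∈ pk ψ ^ 2 → ∑ l, S.grad c l * w l = 0 := by
    intro w hw
    calc ∑ l, S.grad c l * w l = ∑ l, S.grad c l * ∑ a, ψ (S.Mat l a) * w a :=
          Finset.sum_congr rfl fun l _ => by rw [S.hM2 ψ w hw l]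
      _ = ∑ a, (∑ l, S.grad c l * ψ (S.Mat l a)) * w a := by
          simp only [Finset.mul_sum, Finset.sum_mul, mul_assoc]; rw [Finset.sum_comm]
      _ = 0 := Finset.sum_eq_zero fun a _ => by
          have := S.grad_mat ψ c a
          rw [hcl] at this
          rw [this, zero_mul]
  obtain ⟨c₁, hc₁⟩ := S.hj ψ 1
  choose cb hcb using fun b => S.hj ψ (uc S.F ψ b)
  have hz : ∀ l, S.grad c l =
      (∑ e, S.grad c e * c₁ e) * ψ (S.g l) + ∑ b, (∑ e, S.grad c e * cb b e) * ψ (S.F.g b (S.g l)) := by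
    intro l
    let w : Fin N → k := fun e =>
      (if e = l then 1 else 0) - ψ (S.g l) * c₁ e - ∑ b, ψ (S.F.g b (S.g l)) * cb b e
    have hw : ∑ e, w e • S.g e ∈ pk ψ ^ 2 := by
      have h0 := lin_expand S.F ψ (sub_mem_pk ψ (S.g l))
      simp only [map_sub, Derivation.map_algebraMap, sub_zero] at h0
      have e : ∑ e, w e • S.g e = (S.g l - algebraMap k B (ψ (S.g l)) -
            ∑ b, algebraMap k B (ψ (S.F.g b (S.g l))) * uc S.F ψ b) +
          algebraMap k B (ψ (S.g l)) * (1 - ∑ e, c₁ e • S.g e) +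
          ∑ b, algebraMap k B (ψ (S.F.g b (S.g l))) * (uc S.F ψ b - ∑ e, cb b e • S.g e) := by
        have h1 : ∑ e, w e • S.g e = S.g l - ψ (S.g l) • (∑ e, c₁ e • S.g e) -
            ∑ b, ψ (S.F.g b (S.g l)) • (∑ e, cb b e • S.g e) := by
          simp only [w, sub_smul, Finset.sum_sub_distrib, ite_smul, one_smul, zero_smul, Finset.sum_ite_eq',
            Finset.mem_univ, if_true, Finset.smul_sum, smul_smul, Finset.sum_smul]
          rw [Finset.sum_comm]
        rw [h1]
        simp only [Algebra.smul_def, mul_sub, Finset.sum_sub_distrib, mul_one]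
        ring
      rw [e]
      exact add_mem (add_mem h0 (Ideal.mul_mem_left _ _ hc₁)) (sum_mem fun b _ => Ideal.mul_mem_left _ _ (hcb b))
    have := hkill w hw
    simp only [w, mul_sub, Finset.sum_sub_distrib, mul_ite, mul_one, mul_zero, Finset.sum_ite_eq', Finset.mem_univ,
      if_true, sub_sub, sub_eq_zero] at this
    rw [this]
    simp only [mul_add, Finset.sum_add_distrib, Finset.sum_mul, Finset.mul_sum]
    congr 1
    · exact Finset.sum_congr rfl fun e _ => by ring
    · rw [Finset.sum_comm]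
      exact Finset.sum_congr rfl fun b _ => Finset.sum_congr rfl fun e _ => by ring
  suffices gen : ∀ (z₀ : k) (z : Fin n → k),
      (∀ l, S.grad c l = z₀ * ψ (S.g l) + ∑ b, z b * ψ (S.F.g b (S.g l))) → (S.hess ψ c).mulVec z = 0 from
    ⟨_, _, hz, gen _ _ hz⟩
  intro z₀ z hz
  funext a
  have e1 : ∑ l, S.grad c l * ψ (S.F.g a (S.cl c l)) = z₀ * ∑ l, ψ (S.F.g a (S.cl c l)) * ψ (S.g l) +
      ∑ b, z b * ∑ l, ψ (S.F.g a (S.cl c l)) * ψ (S.F.g b (S.g l)) := by
    simp only [hz, add_mul, Finset.sum_add_distrib, Finset.sum_mul, Finset.mul_sum]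
    congr 1
    · exact Finset.sum_congr rfl fun l _ => by ring
    · rw [Finset.sum_comm]
      exact Finset.sum_congr rfl fun b _ => Finset.sum_congr rfl fun l _ => by ring
  have h := S.grad_deriv ψ c a
  rw [hcl] at h
  rw [e1, (S.sum_deriv ψ c a).1, mul_zero, zero_add] at h
  simp only [(S.sum_deriv ψ c a).2, hcl, mul_neg, Finset.sum_neg_distrib, neg_eq_zero] at h
  show ∑ b, S.hess ψ c a b * z b = 0
  rw [← h]
  exact Finset.sum_congr rfl fun b _ => mul_comm _ _

/-- Generic nondegeneracy makes the gradient proportional to evaluation everywhere. -/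
theorem wedge (hdet : S.hessR.det ≠ 0) (ψ : B →ₐ[k] k) (c : Fin N → k) (hc : ∑ l, c l • S.g l ∈ pk ψ ^ 2)
    (l l' : Fin N) : S.grad c l * ψ (S.g l') = S.grad c l' * ψ (S.g l) := by
  let W : MvPolynomial (Fin N) B :=
    aeval S.cR (pderiv l S.f) * C (S.g l') - aeval S.cR (pderiv l' S.f) * C (S.g l)
  have hW : ∀ (φ : B →ₐ[k] k) (s : Fin N → k), eval s (map φ.toRingHom W) =
      S.grad (fun e => φ (S.cl s e)) l * φ (S.g l') - S.grad (fun e => φ (S.cl s e)) l' * φ (S.g l) := by
    intro φ s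
    have ha : ∀ p : MvPolynomial (Fin N) k, eval s (map φ.toRingHom (aeval S.cR p)) =
        eval (fun e => φ (S.cl s e)) p := fun p => by
      induction p using MvPolynomial.induction_on with
      | C x => simp [IsScalarTower.algebraMap_apply k B (MvPolynomial (Fin N) B)]
      | add p q hp hq => simp only [map_add, hp, hq]
      | mul_X p e hp => simp only [map_mul, aeval_X, hp, eval_X, eval_cR]
    simp only [W, map_sub, map_mul, ha, map_C, eval_C, grad]
    rfl
  have h0 : W * S.hessR.det = 0 := by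
    ext e
    rw [coeff_zero]
    refine eq_zero_of_points (k := k) _ fun φ => map_eq_zero_of_eval φ _ (fun s => ?_) e
    rw [map_mul, map_mul, hW, eval_hessR]
    by_cases hd : (S.hess φ fun l => φ (S.cl s l)).det = 0
    · rw [hd, mul_zero]
    · obtain ⟨z₀, z, hz, hzero⟩ := S.grad_eq_jet φ _ (S.mem_cl φ s)
      have hz0 : z = 0 := Matrix.eq_zero_of_mulVec_eq_zero hd hzero
      simp only [hz, hz0, Pi.zero_apply, zero_mul, Finset.sum_const_zero, add_zero]
      ring
  have h1 := congrArg (fun p => eval c (map ψ.toRingHom p)) ((mul_eq_zero.mp h0).resolve_right hdet)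
  simp only [map_zero, hW, S.cl_self ψ c hc, sub_eq_zero] at h1
  exact h1

/-- At a tangent form with nonzero gradient, the gradient is evaluation and the tangency is nondegenerate. -/
theorem eval_and_nondeg (hdet : S.hessR.det ≠ 0) (ψ : B →ₐ[k] k) (c : Fin N → k)
    (hc : ∑ l, c l • S.g l ∈ pk ψ ^ 2) (hg : S.grad c ≠ 0) :
    (∃ μ : k, μ ≠ 0 ∧ ∀ l, S.grad c l = μ * ψ (S.g l)) ∧ NondegAt (pk ψ) (∑ l, c l • S.g l) := by
  classical
  haveI : Infinite k := IsAlgClosed.instInfinite
  obtain ⟨c₁, hc₁⟩ := S.hj ψ 1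
  have h1 : (1 : k) = ∑ l, c₁ l * ψ (S.g l) := by
    have h : ψ (1 - ∑ l, c₁ l • S.g l) = 0 := Ideal.pow_le_self two_ne_zero hc₁
    simpa [map_sum, map_smul, sub_eq_zero] using h
  obtain ⟨l₀, hl₀⟩ : ∃ l₀, ψ (S.g l₀) ≠ 0 := by
    by_contra hall
    push Not at hall
    simp [hall] at h1
  have hw := S.wedge hdet ψ c hc
  have hμ : ∀ l, S.grad c l = S.grad c l₀ / ψ (S.g l₀) * ψ (S.g l) := fun l => by
    rw [div_mul_eq_mul_div, eq_div_iff hl₀]
    exact hw l l₀
  have hμ0 : S.grad c l₀ / ψ (S.g l₀) ≠ 0 := fun e => hg (funext fun l => by rw [hμ, e, zero_mul]; rfl)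
  refine ⟨⟨_, hμ0, hμ⟩, hc, fun hdeg => ?_⟩
  set μ := S.grad c l₀ / ψ (S.g l₀)
  obtain ⟨A, hA⟩ := S.F.hexp (∑ l, c l • S.g l)
  obtain ⟨v, hv0, -, hv⟩ := (degen_iff_frame S.F ψ hc A hA).mp hdeg
  have hcub : ∀ a b, ∀ x ∈ pk ψ ^ 3, ψ (S.F.g a (S.F.g b x)) = 0 := by
    intro a b x hx
    refine deriv_apply_eq_zero S.F ψ a ?_
    rw [pow_succ] at hx
    refine Submodule.mul_induction_on hx (fun p hp q hq => ?_) fun p q hp hq => by rw [map_add]; exact add_mem hp hq
    rw [Derivation.leibniz, smul_eq_mul, smul_eq_mul]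
    refine add_mem (Ideal.mul_mem_right _ _ hp) ?_
    rw [pow_two] at hp ⊢
    refine Ideal.mul_mem_mul hq (Submodule.mul_induction_on hp (fun p₁ hp₁ p₂ hp₂ => ?_)
      fun p₁ p₂ hp₁ hp₂ => by rw [map_add]; exact add_mem hp₁ hp₂)
    rw [Derivation.leibniz, smul_eq_mul, smul_eq_mul]
    exact add_mem (Ideal.mul_mem_right _ _ hp₁) (Ideal.mul_mem_right _ _ hp₂)
  have hH : ∀ a b, S.hess ψ c a b = cAt ψ A a b + cAt ψ A b a := by
    intro a b
    have h0 := hcub a b _ (quad_expand S.F ψ hc A hA)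
    simp only [map_sub, sub_eq_zero, map_sum] at h0
    have hu : ∀ x, ψ (uc S.F ψ x) = 0 := fun x => sub_mem_pk ψ _
    have hT : ∀ x y : Fin n, ψ (S.F.g a (S.F.g b (algebraMap k B (cAt ψ A x y) * uc S.F ψ x * uc S.F ψ y))) =
        cAt ψ A x y * ((if a = x then 1 else 0) * (if b = y then 1 else 0) +
          (if b = x then 1 else 0) * (if a = y then 1 else 0)) := by
      intro x y
      simp only [mul_assoc, ← Algebra.smul_def, Derivation.map_smul, map_smul, Derivation.leibniz, map_add,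
        smul_eq_mul, map_mul, g_uc, apply_ite (S.F.g a), Derivation.map_one_eq_zero, map_zero, apply_ite ψ, map_one,
        hu, mul_zero, zero_mul, ite_self, add_zero, zero_add]
      ring
    rw [show S.hess ψ c a b = ∑ l, c l * ψ (S.F.g a (S.F.g b (S.g l))) from rfl]
    have h1 : ∑ l, c l * ψ (S.F.g a (S.F.g b (S.g l))) = ∑ l, ψ (S.F.g a (S.F.g b (c l • S.g l))) := by
      simp [Derivation.map_smul, map_smul]
    rw [h1, h0]
    simp only [hT, mul_add, Finset.sum_add_distrib, mul_ite, ite_mul, mul_one, mul_zero, zero_mul, one_mul,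
      Finset.sum_ite_eq, Finset.mem_univ, if_true]
  have hker : ∀ b, ∑ a, v a * S.hess ψ c a b = 0 := fun b => by
    rw [← hv b, dq]
    exact Finset.sum_congr rfl fun a _ => by rw [hH]; ring
  -- the motion of the tangent form along `v`
  have hcl := S.cl_self ψ c hc
  let dc : Fin N → k := fun l => ∑ a, v a * ψ (S.F.g a (S.cl c l))
  have hdc : ∀ e, ∑ a, ψ (S.Mat e a) * dc a = dc e := by
    refine S.hM2 ψ dc ((mem_sq_iff S.F ψ _).mpr ⟨?_, fun b => ?_⟩)
    · simp only [map_sum, map_smul, smul_eq_mul, dc, Finset.sum_mul]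
      rw [Finset.sum_comm]
      refine Finset.sum_eq_zero fun a _ => ?_
      simp only [mul_assoc, ← Finset.mul_sum, (S.sum_deriv ψ c a).1, mul_zero]
    · simp only [map_sum, Derivation.map_smul, map_smul, smul_eq_mul, dc, Finset.sum_mul]
      rw [Finset.sum_comm]
      simp only [mul_assoc, ← Finset.mul_sum, (S.sum_deriv ψ c _).2 b, hcl, mul_neg, Finset.sum_neg_distrib,
        hker b, neg_zero]
  have key : ∀ l l', S.grad c l * (∑ a, v a * ψ (S.F.g a (S.g l'))) =
      S.grad c l' * (∑ a, v a * ψ (S.F.g a (S.g l))) := by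
    intro l l'
    let D2 : Fin N → k := fun e => ∑ e', eval c (pderiv e' (pderiv e S.f)) * dc e'
    have hs : D2 l * ψ (S.g l') - D2 l' * ψ (S.g l) = 0 := by
      let L : Fin N → MvPolynomial (Fin N) k := fun l => ∑ e, C (ψ (S.Mat l e)) * X e
      have hL : ∀ (s : Fin N → k) l, eval s (L l) = ψ (S.cl s l) := fun s l => by simp [L, ψ_cl, map_sum]
      have hcomp : ∀ (s : Fin N → k) p, eval s (aeval L p) = eval (fun l => ψ (S.cl s l)) p := fun s p => by
        rw [← aeval_eq_eval, ← AlgHom.comp_apply, comp_aeval, aeval_eq_eval]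
        simp only [aeval_eq_eval, hL]
      have hzero : aeval L (pderiv l S.f) * C (ψ (S.g l')) - aeval L (pderiv l' S.f) * C (ψ (S.g l)) = 0 :=
        MvPolynomial.funext fun t => by
          rw [map_sub, map_mul, map_mul, hcomp, hcomp, eval_C, eval_C, map_zero, sub_eq_zero]
          exact S.wedge hdet ψ _ (S.mem_cl ψ t) l l'
      have hD : ∀ p, ∑ a, dc a * eval c (pderiv a (aeval L p)) = ∑ e', eval c (pderiv e' p) * dc e' := by
        intro p
        simp only [GrothLib.FanoLine.pderiv_aeval, map_sum, map_mul, hcomp, hcl, Finset.mul_sum]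
        rw [Finset.sum_comm]
        refine Finset.sum_congr rfl fun e _ => ?_
        rw [← hdc e, Finset.mul_sum]
        refine Finset.sum_congr rfl fun a _ => ?_
        simp [L, map_sum, pderiv_C_mul, pderiv_X, Pi.single_apply]
        ring
      have h := congrArg (fun p => ∑ a, dc a * eval c (pderiv a p)) hzero
      simp only [map_zero, mul_zero, Finset.sum_const_zero, map_sub, mul_comm (aeval L _) (C _), pderiv_C_mul,
        map_mul, eval_C, mul_sub, Finset.sum_sub_distrib, mul_left_comm (dc _), ← Finset.mul_sum, hD] at h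
      linear_combination h
    have hB : ∑ a, v a * ψ (S.F.g a (aeval (S.cl c) (pderiv l S.f) * S.g l' -
        aeval (S.cl c) (pderiv l' S.f) * S.g l)) = 0 := by
      rw [eq_zero_of_points (k := k) (aeval (S.cl c) (pderiv l S.f) * S.g l' -
        aeval (S.cl c) (pderiv l' S.f) * S.g l) fun φ => by
          rw [map_sub, map_mul, map_mul, algHom_aeval, algHom_aeval, sub_eq_zero]
          exact S.wedge hdet φ _ (S.mem_cl φ c) l l']
      simp
    have hE : ∀ e e', ∑ a, v a * ψ (S.F.g a (aeval (S.cl c) (pderiv e S.f) * S.g e')) =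
        D2 e * ψ (S.g e') + S.grad c e * (∑ a, v a * ψ (S.F.g a (S.g e'))) := by
      intro e e'
      simp only [Derivation.leibniz, smul_eq_mul, map_add, map_mul, derivation_aeval, map_sum, algHom_aeval, hcl,
        mul_add, Finset.sum_add_distrib, D2, dc, Finset.mul_sum, Finset.sum_mul, grad]
      rw [add_comm]
      congr 1
      · rw [Finset.sum_comm]
        exact Finset.sum_congr rfl fun x _ => Finset.sum_congr rfl fun a _ => by ring
      · exact Finset.sum_congr rfl fun a _ => by ring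
    simp only [map_sub, mul_sub, Finset.sum_sub_distrib, hE] at hB
    linear_combination hB - hs
  set dv : Fin N → k := fun l => ∑ a, v a * ψ (S.F.g a (S.g l))
  have hprop : ∀ l, dv l = dv l₀ / ψ (S.g l₀) * ψ (S.g l) := fun l => by
    have h := key l l₀
    rw [hμ l, hμ l₀] at h
    rw [div_mul_eq_mul_div, eq_div_iff hl₀]
    apply mul_left_cancel₀ hμ0
    linear_combination -h
  have hjet : ∀ T, ∑ a, v a * ψ (S.F.g a T) = dv l₀ / ψ (S.g l₀) * ψ T := by
    intro T
    obtain ⟨w, hw⟩ := S.hj ψ T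
    have h0 : ψ T = ∑ l, w l * ψ (S.g l) := by
      have h : ψ (T - ∑ l, w l • S.g l) = 0 := Ideal.pow_le_self two_ne_zero hw
      simpa [map_sum, map_smul, sub_eq_zero] using h
    have h2 : ∀ a, ψ (S.F.g a T) = ∑ l, w l * ψ (S.F.g a (S.g l)) := fun a => by
      have h := deriv_apply_eq_zero S.F ψ a hw
      simpa [map_sum, map_smul, Derivation.map_smul, sub_eq_zero] using h
    simp only [h2, h0, Finset.mul_sum]
    rw [Finset.sum_comm]
    refine Finset.sum_congr rfl fun l _ => ?_
    rw [mul_left_comm, ← hprop l, Finset.mul_sum]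
    exact Finset.sum_congr rfl fun a _ => by ring
  have hκ : dv l₀ / ψ (S.g l₀) = 0 := by simpa using (hjet 1).symm
  refine hv0 (funext fun b => ?_)
  have h := hjet (uc S.F ψ b)
  simpa [g_uc, apply_ite ψ, hκ] using h

end TangentData

end GrothLib.OrdQuad12
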