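import Groth.Agent.Lib.OrdQuad12.SmoothPointAlg
import Groth.Agent.Lib.OrdQuad12.Count

/-!
# Generic nondegeneracy of tangencies when the tangent forms fill a hypersurface, in characteristic zero
-/

set_option autoImplicit false
set_option linter.all false
set_option maxHeartbeats 1000000
universe u

open MvPolynomial

noncomputable section

namespace GrothLib.OrdQuad12

open GrothLib.DualVar12 (pk pk_isMaximal eq_zero_of_points map_eq_zero_of_eval)

theorem eval_dual {R : Type u} [CommRing R] (q : Polynomial R) (x y : R) :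
    (q.map (TrivSqZeroExt.inlHom R R)).eval (TrivSqZeroExt.inl x + TrivSqZeroExt.inr y) =
      (TrivSqZeroExt.inl (q.eval x) + TrivSqZeroExt.inr (q.derivative.eval x * y) : DualNumber R) := by
  induction q using Polynomial.induction_on with
  | C a => simp
  | add p q hp hq =>
    simp only [Polynomial.map_add, Polynomial.eval_add, hp, hq, map_add]
    ext <;> simp [add_mul]
  | monomial m a hm =>
    have e : Polynomial.C a * Polynomial.X ^ (m + 1) = Polynomial.C a * Polynomial.X ^ m * Polynomial.X := by
      rw [pow_succ, mul_assoc]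
    rw [e, Polynomial.map_mul, Polynomial.eval_mul, hm, Polynomial.map_X, Polynomial.eval_X]
    simp only [Polynomial.derivative_mul, Polynomial.derivative_X, mul_one, Polynomial.eval_mul, Polynomial.eval_X,
      Polynomial.eval_add]
    refine TrivSqZeroExt.ext ?_ ?_ <;> simp <;> ring

variable {k : Type u} [Field k] [IsAlgClosed k] [CharZero k] {B : Type u} [CommRing B] [Algebra k B] [IsDomain B]
  [Algebra.Smooth k B] {n N : ℕ} (S : TangentData k B n N)

namespace TangentData

theorem algebraicIndependent_off (l₀ : Fin N)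
    (hind : ∀ P : MvPolynomial (Fin N) k, P ≠ 0 → P.degreeOf l₀ = 0 →
      ∃ (ψ : B →ₐ[k] k) (c : Fin N → k), ∑ l, c l • S.g l ∈ pk ψ ^ 2 ∧ eval c P ≠ 0) :
    AlgebraicIndependent k (fun l : {l : Fin N // l ≠ l₀} => S.cR l.1) := by
  rw [algebraicIndependent_iff]
  intro P hP
  by_contra hP0
  obtain ⟨ψ, c, hc, hne⟩ := hind (rename Subtype.val P)
    (fun e => hP0 (rename_injective _ Subtype.val_injective (by rw [e, map_zero]))) (by
      classical
      rw [degreeOf_eq_sup]
      refine Nat.eq_zero_of_le_zero (Finset.sup_le fun m hm => ?_)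
      rw [support_rename_of_injective Subtype.val_injective, Finset.mem_image] at hm
      obtain ⟨m', -, rfl⟩ := hm
      rw [Finsupp.mapDomain_notin_range _ _ (by simp)])
  refine hne ?_
  have h : eval c (MvPolynomial.map ψ.toRingHom (aeval (fun l : {l : Fin N // l ≠ l₀} => S.cR l.1) P)) =
      eval c (rename Subtype.val P) := by
    clear hP hne hP0
    induction P using MvPolynomial.induction_on with
    | C x => simp [IsScalarTower.algebraMap_apply k B (MvPolynomial (Fin N) B)]
    | add p q hp hq => simp only [map_add, hp, hq]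
    | mul_X p l hp =>
      simp only [map_mul, aeval_X, hp, rename_X, eval_X, eval_cR]
      rw [show ψ (S.cl c l.1) = c l.1 from congrFun (S.cl_self ψ c hc) l.1]
  rw [← h, hP, map_zero, map_zero]

theorem dependent_with_const (hstd : RingHom.Locally (RingHom.IsStandardSmoothOfRelativeDimension n) (algebraMap k B))
    (ψ₁ : B →ₐ[k] k) (l₀ : Fin N) (b : B) :
    ¬ AlgebraicIndependent k (fun o : Option {l : Fin N // l ≠ l₀} => o.elim (C b) fun l => S.cR l.1) := by
  classical
  intro hA
  let rows : Fin (n + 1) → Fin N → B := fun a l => Fin.cases (S.g l) (fun a' => S.F.g a' (S.g l)) a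
  let col : Fin N → Fin (n + 1) → k := fun l a => ψ₁ (rows a l)
  have hspan : Submodule.span k (Set.range col) = ⊤ := by
    rw [eq_top_iff]
    rintro w -
    let T : B := algebraMap k B (w 0) + ∑ e : Fin n, algebraMap k B (w e.succ) * uc S.F ψ₁ e
    obtain ⟨c, hc⟩ := S.hj ψ₁ T
    rw [Submodule.mem_span_range_iff_exists_fun]
    refine ⟨c, funext fun a => ?_⟩
    simp only [Finset.sum_apply, Pi.smul_apply, smul_eq_mul, col, rows]
    refine Fin.cases ?_ (fun a' => ?_) a
    · have h : ψ₁ (T - ∑ l, c l • S.g l) = 0 := Ideal.pow_le_self two_ne_zero hc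
      have hu : ∀ e, ψ₁ (uc S.F ψ₁ e) = 0 := fun e => sub_mem_pk ψ₁ _
      simp [T, map_sum, map_smul, hu] at h
      simp
      linear_combination (-1 : k) * h
    · have h := deriv_apply_eq_zero S.F ψ₁ a' hc
      have hu : ∀ e, ψ₁ (uc S.F ψ₁ e) = 0 := fun e => sub_mem_pk ψ₁ _
      simp [T, map_sum, map_smul, Derivation.map_smul, Derivation.leibniz, g_uc, apply_ite ψ₁, hu] at h
      simp
      linear_combination (-1 : k) * h
  obtain ⟨κ, J, hJ, hJspan, hJli⟩ := exists_linearIndependent' k col
  haveI : Finite κ := Finite.of_injective J hJ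
  haveI : Fintype κ := Fintype.ofFinite κ
  have hκ : Fintype.card κ = n + 1 := by
    have h := finrank_span_eq_card hJli
    rw [hJspan, hspan, finrank_top, Module.finrank_fin_fun] at h
    exact h.symm
  let e : Fin (n + 1) ≃ κ := (finCongr hκ.symm).trans (Fintype.equivFin κ).symm
  let MJ : Matrix (Fin (n + 1)) (Fin (n + 1)) B := Matrix.of fun a a' => rows a (J (e a'))
  have hdet : MJ.det ≠ 0 := by
    intro h0
    have h1 : (MJ.map ψ₁).det = 0 := by
      have := congrArg ψ₁ h0
      rwa [map_zero, AlgHom.map_det] at this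
    obtain ⟨w, hw0, hw⟩ := Matrix.exists_mulVec_eq_zero_iff.mpr h1
    refine hw0 (funext fun a' => ?_)
    refine Fintype.linearIndependent_iff.mp (hJli.comp e e.injective) w ?_ a'
    funext a
    have h2 := congrFun hw a
    simp only [Matrix.mulVec, dotProduct, Matrix.map_apply, MJ, Matrix.of_apply, Pi.zero_apply] at h2
    simp only [Finset.sum_apply, Pi.smul_apply, smul_eq_mul, Function.comp_apply, col, Pi.zero_apply]
    rw [← h2]
    exact Finset.sum_congr rfl fun x _ => mul_comm _ _
  let R := MvPolynomial (Fin N) B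
  let K := FractionRing R
  let F := FractionRing B
  letI : Algebra F K := RingHom.toAlgebra (IsFractionRing.lift
    (g := (algebraMap R K).comp (MvPolynomial.C : B →+* R))
    ((IsFractionRing.injective R K).comp (MvPolynomial.C_injective _ _)))
  have hFK : ∀ x : B, algebraMap F K (algebraMap B F x) = algebraMap R K (C x) := fun x =>
    IsFractionRing.lift_algebraMap _ x
  haveI : IsScalarTower k F K := IsScalarTower.of_algebraMap_eq fun x => by
    rw [IsScalarTower.algebraMap_apply k B F, hFK, IsScalarTower.algebraMap_apply k R K]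
    rfl
  let E := {l : Fin N // ∀ a, J (e a) ≠ l}
  let y : Fin N → K := fun l => algebraMap R K (S.cR l)
  let θ : MvPolynomial E F →ₐ[k] K := (aeval fun l : E => y l.1).restrictScalars k
  have hrow : ∀ a, ∑ l, algebraMap F K (algebraMap B F (rows a l)) * y l = 0 := by
    intro a
    have h0 : ∑ l, C (rows a l) * S.cR l = 0 := by
      ext m
      rw [coeff_zero]
      refine eq_zero_of_points (k := k) _ fun φ => map_eq_zero_of_eval φ _ (fun s => ?_) m
      simp only [map_sum, map_mul, map_C, eval_C, eval_cR]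
      obtain ⟨h1, h2⟩ := S.values_of_mem φ _ (S.mem_cl φ s)
      refine Fin.cases ?_ (fun a' => ?_) a
      · rw [← h1]; exact Finset.sum_congr rfl fun l _ => mul_comm _ _
      · rw [← h2 a']; exact Finset.sum_congr rfl fun l _ => mul_comm _ _
    simp only [hFK, y, ← map_mul, ← map_sum]
    rw [h0, map_zero]
  have hrange : ∀ l, y l ∈ θ.range := by
    have hF : ∀ x : F, algebraMap F K x ∈ θ.range := fun x => ⟨C x, by simp [θ]⟩
    have hE : ∀ l : E, y l.1 ∈ θ.range := fun l => ⟨X l, by simp [θ]⟩
    have hinv : IsUnit (MJ.map (algebraMap B F)).det := by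
      rw [← RingHom.mapMatrix_apply, ← RingHom.map_det, isUnit_iff_ne_zero]
      exact fun h => hdet (IsFractionRing.injective B F (by rw [h, map_zero]))
    let Minv : Matrix (Fin (n + 1)) (Fin (n + 1)) F := (MJ.map (algebraMap B F))⁻¹
    intro l
    by_cases hl : ∀ a, J (e a) ≠ l
    · exact hE ⟨l, hl⟩
    push Not at hl
    obtain ⟨a₁, rfl⟩ := hl
    let rest : Fin (n + 1) → K := fun a =>
      ∑ l ∈ Finset.univ.filter (fun l => ∀ a, J (e a) ≠ l), algebraMap F K (algebraMap B F (rows a l)) * y l
    have hrest : ∀ a, rest a ∈ θ.range := fun a => Subalgebra.sum_mem _ fun l hl =>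
      Subalgebra.mul_mem _ (hF _) (hE ⟨l, (Finset.mem_filter.mp hl).2⟩)
    have hJeq : ∀ a, ∑ a', algebraMap F K (algebraMap B F (MJ a a')) * y (J (e a')) = -rest a := by
      intro a
      rw [eq_neg_iff_add_eq_zero, ← hrow a,
        ← Finset.sum_filter_add_sum_filter_not Finset.univ (fun l => ∀ a, J (e a) ≠ l), add_comm]
      congr 1
      have himg : Finset.univ.filter (fun l => ¬ ∀ a, J (e a) ≠ l) = Finset.univ.image (fun a => J (e a)) := by
        ext l; simp
      rw [himg, Finset.sum_image fun x _ z _ h => e.injective (hJ h)]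
      rfl
    have hy : y (J (e a₁)) = -∑ a, algebraMap F K (Minv a₁ a) * rest a := by
      have h1 : (Minv * MJ.map (algebraMap B F)) = 1 := Matrix.nonsing_inv_mul _ hinv
      calc y (J (e a₁)) = ∑ a', algebraMap F K ((Minv * MJ.map (algebraMap B F)) a₁ a') * y (J (e a')) := by
            simp [h1, Matrix.one_apply]
        _ = ∑ a, algebraMap F K (Minv a₁ a) * -rest a := by
            simp only [Matrix.mul_apply, map_sum, map_mul, Finset.sum_mul, ← hJeq, Finset.mul_sum, Matrix.map_apply]
            rw [Finset.sum_comm]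
            exact Finset.sum_congr rfl fun a _ => Finset.sum_congr rfl fun a' _ => mul_assoc _ _ _
        _ = _ := by
            rw [← Finset.sum_neg_distrib]
            exact Finset.sum_congr rfl fun a _ => mul_neg _ _
    rw [hy]
    exact Subalgebra.neg_mem _ (Subalgebra.sum_mem _ fun a _ => Subalgebra.mul_mem _ (hF _) (hrest a))
  have hb : algebraMap R K (C b) ∈ θ.range := ⟨C (algebraMap B F b), by simp [θ, hFK]⟩
  have hex : ∀ o : Option {l : Fin N // l ≠ l₀}, ∃ p, θ p = algebraMap R K (o.elim (C b) fun l => S.cR l.1) :=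
    fun o => by
      rcases o with _ | l
      · exact hb
      · exact hrange l.1
  choose p hp using hex
  have hind : AlgebraicIndependent k p := by
    refine AlgebraicIndependent.of_comp θ ?_
    rw [show θ ∘ p = (IsScalarTower.toAlgHom k R K) ∘ fun o : Option {l : Fin N // l ≠ l₀} =>
      o.elim (C b) fun l => S.cR l.1 from funext hp]
    exact hA.map' (IsFractionRing.injective R K)
  obtain ⟨t, ht, htn, -⟩ := trdeg_residue_le (k := k) hstd ⟨⊥, Ideal.bot_prime⟩
  rw [trdeg_residueField_eq] at ht
  have htB : Algebra.trdeg k B = t := ((AlgEquiv.quotientBot k B).trdeg_eq).symm.trans ht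
  haveI : Algebra.IsAlgebraic B F := IsLocalization.isAlgebraic _ (nonZeroDivisors B)
  haveI : FaithfulSMul B F := (faithfulSMul_iff_algebraMap_injective _ _).2 (IsFractionRing.injective B F)
  have htF : Algebra.trdeg k F = t := by
    have h2 := trdeg_add_eq k B (A := F)
    rw [htB, trdeg_eq_zero (R := B) (A := F), add_zero] at h2
    exact h2.symm
  have h1 := AlgebraicIndependent.lift_cardinalMk_le_trdeg hind
  have h2 := trdeg_add_eq k F (A := MvPolynomial E F)
  rw [htF, MvPolynomial.trdeg_of_isDomain] at h2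
  rw [← h2] at h1
  simp only [Cardinal.mk_fintype, Cardinal.lift_natCast, Cardinal.lift_id, Cardinal.lift_add] at h1
  norm_cast at h1
  have hcard : Fintype.card E + (n + 1) ≤ N := by
    have := Fintype.card_le_of_injective (Sum.elim (Subtype.val : E → Fin N) fun a => J (e a))
      (Subtype.val_injective.sumElim (hJ.comp e.injective) fun l a h => l.2 a h.symm)
    simpa [Fintype.card_sum] using this
  have hN : Fintype.card (Option {l : Fin N // l ≠ l₀}) = N := by
    rw [Fintype.card_option, Fintype.card_subtype_compl, Fintype.card_fin, Fintype.card_subtype_eq]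
    have : 0 < N := Fin.pos l₀
    omega
  omega

/-- In characteristic zero, tangent forms filling a hypersurface are generically nondegenerate tangencies. -/
theorem hessR_det_ne_zero (hstd : RingHom.Locally (RingHom.IsStandardSmoothOfRelativeDimension n) (algebraMap k B))
    (ψ₁ : B →ₐ[k] k) (l₀ : Fin N)
    (hind : ∀ P : MvPolynomial (Fin N) k, P ≠ 0 → P.degreeOf l₀ = 0 →
      ∃ (ψ : B →ₐ[k] k) (c : Fin N → k), ∑ l, c l • S.g l ∈ pk ψ ^ 2 ∧ eval c P ≠ 0) :
    S.hessR.det ≠ 0 := by
  classical
  intro hdet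
  haveI : Infinite k := IsAlgClosed.instInfinite
  let R := MvPolynomial (Fin N) B
  obtain ⟨v, hv0, hv⟩ := Matrix.exists_vecMul_eq_zero_iff.mpr hdet
  let dc : Fin N → R := fun l => ∑ a, v a * ∑ e, C (S.F.g a (S.Mat l e)) * X e
  have hdcev : ∀ (φ : B →ₐ[k] k) (s : Fin N → k) l, eval s (map φ.toRingHom (dc l)) =
      ∑ a, eval s (map φ.toRingHom (v a)) * φ (S.F.g a (S.cl s l)) := by
    intro φ s l
    simp only [dc, map_sum, map_mul, map_C, map_X, eval_C, eval_X, cl, Derivation.map_smul, map_smul, smul_eq_mul,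
      mul_comm (s _)]
    rfl
  have hfix : ∀ l, ∑ e, C (S.Mat l e) * dc e = dc l := by
    intro l
    ext m
    rw [← sub_eq_zero, ← coeff_sub]
    refine eq_zero_of_points (k := k) _ fun φ => map_eq_zero_of_eval φ _ (fun s => ?_) m
    simp only [map_sub, map_sum, map_mul, map_C, eval_C, hdcev, sub_eq_zero]
    refine S.hM2 φ (fun e => ∑ a, eval s (map φ.toRingHom (v a)) * φ (S.F.g a (S.cl s e)))
      ((mem_sq_iff S.F φ _).mpr ⟨?_, fun b => ?_⟩) l
    · simp only [map_sum, map_smul, smul_eq_mul, Finset.sum_mul]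
      rw [Finset.sum_comm]
      refine Finset.sum_eq_zero fun a _ => ?_
      simp only [mul_assoc, ← Finset.mul_sum, (S.sum_deriv φ s a).1, mul_zero]
    · have hb := congrArg (fun p => eval s (map φ.toRingHom p)) (congrFun hv b)
      simp only [Matrix.vecMul, dotProduct, hessR, Matrix.of_apply, Pi.zero_apply, map_sum, map_mul, map_C, eval_C,
        eval_cR, map_zero] at hb
      simp only [map_sum, Derivation.map_smul, map_smul, smul_eq_mul, Finset.sum_mul]
      rw [Finset.sum_comm]
      simp only [mul_assoc, ← Finset.mul_sum, (S.sum_deriv φ s _).2 b, mul_neg, Finset.sum_neg_distrib, hess,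
        Matrix.of_apply, neg_eq_zero]
      exact hb
  have hmulχ : ∀ x y : B, (∑ a, v a * C (S.F.g a (x * y)) : MvPolynomial (Fin N) B) =
      C x * (∑ a, v a * C (S.F.g a y)) + (∑ a, v a * C (S.F.g a x)) * C y := fun x y => by
    rw [Finset.mul_sum, Finset.sum_mul, ← Finset.sum_add_distrib]
    exact Finset.sum_congr rfl fun a _ => by simp [Derivation.leibniz]; ring
  let χ : B →+* DualNumber R :=
    { toFun := fun x => TrivSqZeroExt.inl (C x) + TrivSqZeroExt.inr (∑ a, v a * C (S.F.g a x))
      map_one' := TrivSqZeroExt.ext (by simp only [map_one, TrivSqZeroExt.fst_add, TrivSqZeroExt.fst_inl,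
          TrivSqZeroExt.fst_inr, TrivSqZeroExt.fst_one, add_zero])
        (by simp only [Derivation.map_one_eq_zero, map_zero, mul_zero, Finset.sum_const_zero,
          TrivSqZeroExt.snd_add, TrivSqZeroExt.snd_inl, TrivSqZeroExt.snd_inr, TrivSqZeroExt.snd_one, add_zero])
      map_mul' := fun x y => TrivSqZeroExt.ext
        (by simp only [map_mul, TrivSqZeroExt.fst_mul, TrivSqZeroExt.fst_add, TrivSqZeroExt.fst_inl,
          TrivSqZeroExt.fst_inr, add_zero])
        (by
          simp only [map_mul, TrivSqZeroExt.snd_mul, TrivSqZeroExt.fst_add, TrivSqZeroExt.fst_inl, TrivSqZeroExt.fst_inr,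
            TrivSqZeroExt.snd_add, TrivSqZeroExt.snd_inl, TrivSqZeroExt.snd_inr, zero_add, add_zero, smul_eq_mul,
            op_smul_eq_mul]
          exact hmulχ x y)
      map_zero' := TrivSqZeroExt.ext (by simp only [map_zero, TrivSqZeroExt.fst_add, TrivSqZeroExt.fst_inl,
          TrivSqZeroExt.fst_inr, TrivSqZeroExt.fst_zero, add_zero])
        (by simp only [map_zero, mul_zero, Finset.sum_const_zero, TrivSqZeroExt.snd_add, TrivSqZeroExt.snd_inl,
          TrivSqZeroExt.snd_inr, TrivSqZeroExt.snd_zero, add_zero])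
      map_add' := fun x y => TrivSqZeroExt.ext
        (by simp only [map_add, TrivSqZeroExt.fst_add, TrivSqZeroExt.fst_inl, TrivSqZeroExt.fst_inr, add_zero])
        (by simp only [map_add, mul_add, Finset.sum_add_distrib, TrivSqZeroExt.snd_add, TrivSqZeroExt.snd_inl,
          TrivSqZeroExt.snd_inr, zero_add]) }
  let Ψ : R →+* DualNumber R := eval₂Hom χ fun e => TrivSqZeroExt.inl (X e) + TrivSqZeroExt.inr (-dc e)
  have hC1 : ∀ x, (Ψ (C x)).fst = C x := fun x => by
    rw [show Ψ (C x) = χ x from eval₂Hom_C _ _ x]; exact add_zero _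
  have hC2 : ∀ x, (Ψ (C x)).snd = ∑ a, v a * C (S.F.g a x) := fun x => by
    rw [show Ψ (C x) = χ x from eval₂Hom_C _ _ x]; exact zero_add _
  have hX1 : ∀ e, (Ψ (X e)).fst = X e := fun e => by
    rw [show Ψ (X e) = _ from eval₂Hom_X' _ _ e]; exact add_zero _
  have hX2 : ∀ e, (Ψ (X e)).snd = -dc e := fun e => by
    rw [show Ψ (X e) = _ from eval₂Hom_X' _ _ e]; exact zero_add _
  have hswap : ∀ l, dc l = ∑ e, (∑ a, v a * C (S.F.g a (S.Mat l e))) * (X e : MvPolynomial (Fin N) B) := fun l => by
    simp only [dc, Finset.mul_sum, Finset.sum_mul]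
    rw [Finset.sum_comm]
    exact Finset.sum_congr rfl fun a _ => Finset.sum_congr rfl fun e _ => by ring
  have hΨc : ∀ l, Ψ (S.cR l) = TrivSqZeroExt.inl (S.cR l) := by
    intro l
    refine TrivSqZeroExt.ext ?_ ?_
    · simp only [cR, map_sum, map_mul, TrivSqZeroExt.fst_sum, TrivSqZeroExt.fst_mul, hC1, hX1, TrivSqZeroExt.fst_inl]
    · simp only [cR, map_sum, map_mul, TrivSqZeroExt.snd_sum, TrivSqZeroExt.snd_mul, hC1, hC2, hX1, hX2,
        TrivSqZeroExt.snd_inl, smul_eq_mul, op_smul_eq_mul, mul_neg, Finset.sum_add_distrib, Finset.sum_neg_distrib]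
      rw [Finset.sum_congr rfl (fun e _ => mul_neg (C (S.Mat l e) : MvPolynomial (Fin N) B) (dc e)),
        Finset.sum_neg_distrib, hfix l, neg_add_eq_zero]
      exact hswap l
  have hA' := S.algebraicIndependent_off l₀ hind
  let ι' := {l : Fin N // l ≠ l₀}
  let aev : MvPolynomial ι' k →+* R := (aeval fun l : ι' => S.cR l.1).toRingHom
  have hDb : ∀ b : B, ∑ a, v a * C (S.F.g a b) = 0 := by
    intro b
    have hdep := S.dependent_with_const hstd ψ₁ l₀ b
    rw [algebraicIndependent_iff] at hdep
    push Not at hdep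
    obtain ⟨P, hP, hP0⟩ := hdep
    have hroot : ∃ q : Polynomial (MvPolynomial ι' k), q ≠ 0 ∧ (q.map aev).eval (C b) = 0 := by
      refine ⟨optionEquivLeft k ι' P, fun h => hP0 ((optionEquivLeft k ι').injective (h.trans (map_zero _).symm)), ?_⟩
      rw [← hP, Polynomial.eval_map]
      have : (Polynomial.eval₂RingHom aev (C b)).comp (optionEquivLeft k ι').toAlgHom.toRingHom =
          (aeval (fun o : Option ι' => o.elim (C b) fun l => S.cR l.1)).toRingHom := by
        refine MvPolynomial.ringHom_ext (fun r => ?_) fun o => ?_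
        · simp [optionEquivLeft_apply, aev]
        · cases o <;> simp [optionEquivLeft_apply, aev]
      exact congr($this P)
    obtain ⟨q, ⟨hq0, hq⟩, hmin⟩ := exists_minimalFor_of_wellFoundedLT
      (fun q : Polynomial (MvPolynomial ι' k) => q ≠ 0 ∧ (q.map aev).eval (C b) = 0) Polynomial.natDegree hroot
    have hdeg : q.natDegree ≠ 0 := by
      intro h
      obtain ⟨a, rfl⟩ := Polynomial.natDegree_eq_zero.mp h
      rw [Polynomial.map_C, Polynomial.eval_C] at hq
      exact hq0 (by rw [(algebraicIndependent_iff.mp hA') a hq, map_zero])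
    have hq' : q.derivative ≠ 0 := fun h => hdeg (Polynomial.natDegree_eq_zero_of_derivative_eq_zero h)
    have hne : (q.derivative.map aev).eval (C b) ≠ 0 := fun h => by
      have h1 := hmin ⟨hq', h⟩ (Polynomial.natDegree_derivative_le q |>.trans (Nat.sub_le _ _))
      have h2 := Polynomial.natDegree_derivative_lt hdeg
      omega
    have hcomp : Ψ.comp aev = (TrivSqZeroExt.inlHom R R).comp aev := by
      refine MvPolynomial.ringHom_ext (fun r => ?_) fun l => ?_
      · have hr : aev (C r) = C (algebraMap k B r) := by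
          simp [aev, IsScalarTower.algebraMap_apply k B (MvPolynomial (Fin N) B)]
        refine TrivSqZeroExt.ext ?_ ?_ <;> simp [hr, hC1, hC2]
      · simp [aev, hΨc]
    have h := congrArg Ψ hq
    rw [map_zero, Polynomial.eval_map, Polynomial.hom_eval₂, hcomp, ← Polynomial.eval₂_map,
      ← Polynomial.eval_map, show Ψ (C b) = TrivSqZeroExt.inl (C b) + TrivSqZeroExt.inr (∑ a, v a * C (S.F.g a b))
        from eval₂Hom_C _ _ b, eval_dual] at h
    have h2 := congrArg TrivSqZeroExt.snd h
    simp only [TrivSqZeroExt.snd_add, TrivSqZeroExt.snd_inl, TrivSqZeroExt.snd_inr, zero_add,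
      TrivSqZeroExt.snd_zero, ← Polynomial.derivative_map, mul_eq_zero] at h2
    rw [Polynomial.derivative_map] at h2
    exact h2.resolve_left hne
  refine hv0 (funext fun e => ?_)
  have h := hDb (S.F.u e)
  simpa [S.F.hg, apply_ite (C : B → R)] using h

end TangentData

end GrothLib.OrdQuad12
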