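import Groth.Agent.Lib.OrdQuad12.Local
import Groth.Agent.Lib.HypersurfaceSmooth

/-!
# Local rings at rational points of smooth algebras, and their hypersurfaces
-/

set_option autoImplicit false
set_option linter.all false
set_option maxHeartbeats 1000000
universe u

open TensorProduct IsLocalRing

noncomputable section

namespace GrothLib.OrdQuad12

open GrothLib.DualVar12 (pk pk_isMaximal)

variable {k : Type u} [Field k]

section LocalRing

variable {S : Type u} [CommRing S] [IsLocalRing S] [Algebra k S]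

theorem pk_eq_maximalIdeal (φ : S →ₐ[k] k) : pk φ = maximalIdeal S :=
  IsLocalRing.eq_maximalIdeal (pk_isMaximal φ)

/-- A function with nonzero differential has smooth zero scheme. -/
theorem formallySmooth_quotient_of_not_sq [Algebra.FormallySmooth k S] (φ : S →ₐ[k] k) {h : S}
    (h1 : h ∈ maximalIdeal S) (h2 : h ∉ maximalIdeal S ^ 2) :
    Algebra.FormallySmooth k (S ⧸ Ideal.span {h}) := by
  rw [← pk_eq_maximalIdeal φ] at h1 h2
  have hnt : ¬ GrothLib.DualVar12.Tang φ h := fun ht => h2 (GrothLib.DualVar12.sq_of_tang ht)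
  rw [GrothLib.DualVar12.Tang, not_forall] at hnt
  obtain ⟨ℓ, hℓ⟩ := hnt
  let ℓ₂ : Ω[S⁄k] →ₗ[S] S := ℓ.comp (LinearMap.inr S S Ω[S⁄k])
  have he : φ (ℓ₂ (KaehlerDifferential.D k S h)) = φ (ℓ (GrothLib.DualVar12.J (k := k) h)) := by
    have : GrothLib.DualVar12.J (k := k) h = h • ((1, 0) : S × Ω[S⁄k]) + (0, KaehlerDifferential.D k S h) := by
      simp [GrothLib.DualVar12.J_apply]
    rw [this, map_add, map_smul, map_add, smul_eq_mul, map_mul, show φ h = 0 from h1, zero_mul, zero_add]
    rfl
  have hu : IsUnit (ℓ₂ (KaehlerDifferential.D k S h)) := by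
    rw [← notMem_maximalIdeal, ← pk_eq_maximalIdeal φ]
    exact fun hm => hℓ (he.symm.trans hm)
  obtain ⟨w, hw⟩ := hu.exists_left_inv
  refine GrothLib.HypersurfaceSmooth.formallySmooth_quotient h (w • ℓ₂) ?_
  rw [LinearMap.smul_apply, smul_eq_mul, hw, sub_self]
  exact zero_mem _

/-- Smoothness of a local hypersurface at a rational point. -/
theorem formallySmooth_comp_iff [Algebra.FormallySmooth k S] [IsDomain S] (φ : S →ₐ[k] k) {R : Type u} [CommRing R]
    (q : S →+* R) (hq : Function.Surjective q) {h : S} (hker : RingHom.ker q = Ideal.span {h})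
    (h1 : h ∈ maximalIdeal S) :
    (q.comp (algebraMap k S)).FormallySmooth ↔ (h = 0 ∨ h ∉ maximalIdeal S ^ 2) := by
  let e := (Ideal.quotientEquiv (Ideal.span {h}) (RingHom.ker q) (RingEquiv.refl S) (by simp [hker])).trans
    (RingHom.quotientKerEquivOfSurjective hq)
  have hcomp : q.comp (algebraMap k S) = e.toRingHom.comp (algebraMap k (S ⧸ Ideal.span {h})) := by
    ext c
    rfl
  have hiso : (e.toRingHom.comp (algebraMap k (S ⧸ Ideal.span {h}))).FormallySmooth ↔
      (algebraMap k (S ⧸ Ideal.span {h})).FormallySmooth := by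
    refine ⟨fun hf => ?_, RingHom.FormallySmooth.respectsIso.1 _ e⟩
    have := RingHom.FormallySmooth.respectsIso.1 _ e.symm hf
    rwa [← RingHom.comp_assoc, RingEquiv.toRingHom_eq_coe, RingEquiv.toRingHom_eq_coe, RingEquiv.symm_comp, RingHom.id_comp] at this
  rw [hcomp, hiso, RingHom.formallySmooth_algebraMap]
  constructor
  · intro hs
    by_contra hcon
    push Not at hcon
    haveI := maximalIdeal.isMaximal S
    exact GrothLib.DualVar12.not_formallySmooth h hcon.1 (maximalIdeal S) hcon.2 hs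
  · rintro (rfl | h2)
    · let e' : (S ⧸ Ideal.span ({0} : Set S)) ≃ₐ[k] S :=
        (Ideal.quotientEquivAlgOfEq k (show Ideal.span ({0} : Set S) = ⊥ by simp)).trans (AlgEquiv.quotientBot k S)
      exact Algebra.FormallySmooth.of_equiv e'.symm
    · exact formallySmooth_quotient_of_not_sq φ h1 h2

end LocalRing

section Localisation

variable {B : Type u} [CommRing B] [Algebra k B] (S : Type u) [CommRing S] [Algebra B S] [IsLocalRing S]

theorem mem_pow_atPrime (p : Ideal B) [p.IsMaximal] [IsLocalization.AtPrime S p] (j : ℕ) (b : B) :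
    algebraMap B S b ∈ maximalIdeal S ^ j ↔ b ∈ p ^ j := by
  rw [← Ideal.Quotient.eq_zero_iff_mem, ← Ideal.Quotient.eq_zero_iff_mem,
    ← map_eq_zero_iff (IsLocalization.AtPrime.equivQuotMaximalIdealPow p S j)
      (IsLocalization.AtPrime.equivQuotMaximalIdealPow p S j).injective,
    IsLocalization.AtPrime.equivQuotMaximalIdealPow_apply_mk]

theorem surj_atPrime (p : Ideal B) [p.IsMaximal] [IsLocalization.AtPrime S p] (j : ℕ) (x : S) :
    ∃ b, x - algebraMap B S b ∈ maximalIdeal S ^ j := by
  obtain ⟨y, hy⟩ := (IsLocalization.AtPrime.equivQuotMaximalIdealPow p S j).surjective (Ideal.Quotient.mk _ x)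
  obtain ⟨b, rfl⟩ := Ideal.Quotient.mk_surjective y
  rw [IsLocalization.AtPrime.equivQuotMaximalIdealPow_apply_mk] at hy
  exact ⟨b, by rw [← Ideal.Quotient.eq]; exact hy.symm⟩

theorem exists_char [Algebra k S] [IsScalarTower k B S] (φ : B →ₐ[k] k)
    [IsLocalization.AtPrime S (pk φ) (hp := (pk_isMaximal φ).isPrime)] : ∃ φS : S →ₐ[k] k, ∀ b, φS (algebraMap B S b) = φ b := by
  haveI := pk_isMaximal φ
  have hu : ∀ s : (pk φ).primeCompl, IsUnit (φ s) := fun s => isUnit_iff_ne_zero.mpr s.2
  refine ⟨IsLocalization.liftAlgHom hu, fun b => ?_⟩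
  rw [IsLocalization.liftAlgHom_apply]
  exact IsLocalization.lift_eq hu b

variable {R : Type u} [CommRing R] [IsLocalRing R]

/-- The hypotheses of the completion criterion, for a quotient of a local ring by one function. -/
theorem quotient_local_hyps (p : Ideal B) [p.IsMaximal] [IsLocalization.AtPrime S p] (h : B) (q : S →+* R)
    (hq : Function.Surjective q) (hker : RingHom.ker q = Ideal.span {algebraMap B S h}) :
    (q.comp (algebraMap B S)) h = 0 ∧ p.map (q.comp (algebraMap B S)) = maximalIdeal R ∧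
      (∀ (j : ℕ) (x : R), ∃ b, x - (q.comp (algebraMap B S)) b ∈ maximalIdeal R ^ j) ∧
      (∀ (j : ℕ) (b : B), (q.comp (algebraMap B S)) b ∈ maximalIdeal R ^ j → b ∈ Ideal.span {h} ⊔ p ^ j) := by
  have hm : (maximalIdeal S).map q = maximalIdeal R :=
    IsLocalRing.map_maximalIdeal_of_surjective q hq
  have h0 : q (algebraMap B S h) = 0 := by
    rw [← RingHom.mem_ker, hker]; exact Ideal.mem_span_singleton_self _
  refine ⟨h0, ?_, fun j x => ?_, fun j b hb => ?_⟩
  · rw [← Ideal.map_map, IsLocalization.AtPrime.map_eq_maximalIdeal p S, hm]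
  · obtain ⟨y, rfl⟩ := hq x
    obtain ⟨b, hb⟩ := surj_atPrime S p j y
    refine ⟨b, ?_⟩
    rw [RingHom.comp_apply, ← map_sub, ← hm, ← Ideal.map_pow]
    exact Ideal.mem_map_of_mem q hb
  · rw [RingHom.comp_apply, ← hm, ← Ideal.map_pow, Ideal.mem_map_iff_of_surjective q hq] at hb
    obtain ⟨z, hz, hzb⟩ := hb
    have : algebraMap B S b - z ∈ Ideal.span {algebraMap B S h} := by
      rw [← hker, RingHom.mem_ker, map_sub, hzb, sub_self]
    obtain ⟨c, hc⟩ := Ideal.mem_span_singleton'.mp this
    obtain ⟨c', hc'⟩ := surj_atPrime S p j c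
    refine Submodule.mem_sup.mpr ⟨c' * h, Ideal.mem_span_singleton'.mpr ⟨c', rfl⟩, b - c' * h, ?_, by ring⟩
    rw [← mem_pow_atPrime S p j, map_sub, map_mul]
    have h1 := add_mem hz (Ideal.mul_mem_right (algebraMap B S h) _ hc')
    convert h1 using 1
    linear_combination -hc

end Localisation

end GrothLib.OrdQuad12
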